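import Mathlib.CategoryTheory.Limits.Shapes.Pullback.Equifibered
import Mathlib.CategoryTheory.Limits.Shapes.Pullback.IsPullback.Basic

/-!
# Base change of a diagram along a map, from a family of pullback squares
-/

set_option autoImplicit false

open CategoryTheory CategoryTheory.Limits

namespace K641.Pb

universe w v w' v' w'' v''

section

variable {I : Type v} [Category.{w} I] {C : Type v'} [Category.{w'} C] {E : Type v''} [Category.{w''} E]
  (F : C ⥤ E) [F.Full] [F.Faithful] {D : I ⥤ C} {Z W : E} (z : ∀ i, F.obj (D.obj i) ⟶ Z)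
  (hz : ∀ ⦃i j : I⦄ (g : i ⟶ j), F.map (D.map g) ≫ z j = z i)
  (p : W ⟶ Z) (V : I → C) (fst : ∀ i, F.obj (V i) ⟶ W) (snd : ∀ i, V i ⟶ D.obj i)
  (sq : ∀ i, IsPullback (fst i) (F.map (snd i)) p (z i))

include hz in
theorem comm {i j : I} (g : i ⟶ j) (w : fst i ≫ p = F.map (snd i) ≫ z i) :
    fst i ≫ p = F.map (snd i ≫ D.map g) ≫ z j := by
  rw [Functor.map_comp, Category.assoc, hz g, w]

/-- The transition maps of the base changed diagram. -/
noncomputable def map {i j : I} (g : i ⟶ j) : V i ⟶ V j :=
  F.preimage ((sq j).lift (fst i) (F.map (snd i ≫ D.map g)) (comm F z hz p V fst snd g (sq i).w))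

theorem map_fst {i j : I} (g : i ⟶ j) : F.map (map F z hz p V fst snd sq g) ≫ fst j = fst i := by
  rw [map, F.map_preimage, (sq j).lift_fst]

theorem map_snd {i j : I} (g : i ⟶ j) : map F z hz p V fst snd sq g ≫ snd j = snd i ≫ D.map g := by
  apply F.map_injective
  rw [Functor.map_comp, map, F.map_preimage, (sq j).lift_snd]

/-- The base changed diagram. -/
noncomputable def diag : I ⥤ C where
  obj := V
  map g := map F z hz p V fst snd sq g
  map_id i := by
    apply F.map_injective
    refine (sq i).hom_ext ?_ ?_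
    · rw [map_fst, F.map_id, Category.id_comp]
    · rw [← Functor.map_comp, map_snd, ← Functor.map_comp, Category.id_comp, D.map_id, Category.comp_id]
  map_comp {i j k} g h := by
    apply F.map_injective
    refine (sq k).hom_ext ?_ ?_
    · rw [map_fst, F.map_comp, Category.assoc, map_fst, map_fst]
    · rw [← Functor.map_comp, map_snd, ← Functor.map_comp, Category.assoc, map_snd, ← Category.assoc, map_snd,
        Category.assoc, D.map_comp]

/-- The projection of the base changed diagram. -/
noncomputable def proj : diag F z hz p V fst snd sq ⟶ D where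
  app i := snd i
  naturality _ _ g := map_snd F z hz p V fst snd sq g

@[simp] theorem proj_app (i : I) : (proj F z hz p V fst snd sq).app i = snd i := rfl

/-- All the transition squares of the base changed diagram are cartesian. -/
theorem isPullback_map {i j : I} (g : i ⟶ j) :
    IsPullback (map F z hz p V fst snd sq g) (snd i) (snd j) (D.map g) := by
  refine IsPullback.of_map F (map_snd F z hz p V fst snd sq g) ?_
  refine IsPullback.of_right ?_ (by rw [← F.map_comp, map_snd, F.map_comp]) (sq j)
  rw [map_fst, hz]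
  exact sq i

theorem equifibered : NatTrans.Equifibered (proj F z hz p V fst snd sq) :=
  fun _ _ g => isPullback_map F z hz p V fst snd sq g

end

/-- Base change of a diagram along a map (existence form, for a fully faithful functor). -/
theorem exists_diag {I : Type v} [Category.{w} I] {C : Type v'} [Category.{w'} C] {E : Type v''}
    [Category.{w''} E] (F : C ⥤ E) [F.Full] [F.Faithful] {D : I ⥤ C} {Z W : E}
    (z : ∀ i, F.obj (D.obj i) ⟶ Z) (hz : ∀ ⦃i j : I⦄ (g : i ⟶ j), F.map (D.map g) ≫ z j = z i)
    (p : W ⟶ Z)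
    (h : ∀ i, ∃ (V : C) (fst : F.obj V ⟶ W) (snd : V ⟶ D.obj i), IsPullback fst (F.map snd) p (z i)) :
    ∃ (D' : I ⥤ C) (α : D' ⟶ D) (fst : ∀ i, F.obj (D'.obj i) ⟶ W),
      (∀ i, IsPullback (fst i) (F.map (α.app i)) p (z i)) ∧
      (∀ ⦃i j : I⦄ (g : i ⟶ j), F.map (D'.map g) ≫ fst j = fst i) ∧ NatTrans.Equifibered α := by
  choose V fst snd sq using h
  exact ⟨diag F z hz p V fst snd sq, proj F z hz p V fst snd sq, fst, sq,
    fun i j g => map_fst F z hz p V fst snd sq g, equifibered F z hz p V fst snd sq⟩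

/-- Base change of a diagram along a map (existence form). -/
theorem exists_diag' {I : Type v} [Category.{w} I] {C : Type v'} [Category.{w'} C] {D : I ⥤ C} {Z W : C}
    (z : ∀ i, D.obj i ⟶ Z) (hz : ∀ ⦃i j : I⦄ (g : i ⟶ j), D.map g ≫ z j = z i)
    (p : W ⟶ Z)
    (h : ∀ i, ∃ (V : C) (fst : V ⟶ W) (snd : V ⟶ D.obj i), IsPullback fst snd p (z i)) :
    ∃ (D' : I ⥤ C) (α : D' ⟶ D) (β : D' ⟶ (Functor.const I).obj W),
      (∀ i, IsPullback (β.app i) (α.app i) p (z i)) ∧ NatTrans.Equifibered α := by
  obtain ⟨D', α, fst, h1, h2, h3⟩ := exists_diag (𝟭 C) (D := D) (Z := Z) (W := W) z hz p h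
  exact ⟨D', α, { app := fst, naturality := fun i j g => (h2 g).trans (Category.comp_id _).symm }, h1, h3⟩

end K641.Pb
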