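import Groth.Agent.AlgSp.K641.ColimSch
import Mathlib.RingTheory.Flat.EquationalCriterion
import Mathlib.AlgebraicGeometry.Morphisms.Flat

/-!
# Schemes over `Spec R` and `R`-algebras
-/

set_option autoImplicit false
universe u

open CategoryTheory CategoryTheory.Limits AlgebraicGeometry

namespace K641.SpecAlg

/-- `Spec A` as a scheme over `Spec R`. -/
noncomputable abbrev sp (R A : Type u) [CommRing R] [CommRing A] [Algebra R A] : Over (Spec (CommRingCat.of R)) :=
  Over.mk (Spec.map (CommRingCat.ofHom (algebraMap R A)))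

variable {R : Type u} [CommRing R]

/-- A scheme over `Spec R` with affine underlying scheme is the spectrum of an `R`-algebra. -/
theorem exists_algebra (W : Over (Spec (CommRingCat.of R))) [IsAffine W.left] :
    ∃ (A : Type u) (_ : CommRing A) (_ : Algebra R A), Nonempty (sp R A ≅ W) := by
  let ψ : Spec Γ(W.left, ⊤) ⟶ Spec (CommRingCat.of R) := W.left.isoSpec.inv ≫ W.hom
  let _ : Algebra R Γ(W.left, ⊤) := (Spec.preimage ψ).hom.toAlgebra
  refine ⟨Γ(W.left, ⊤), inferInstance, inferInstance, ⟨Over.isoMk W.left.isoSpec.symm ?_⟩⟩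
  have h1 : CommRingCat.ofHom (algebraMap R Γ(W.left, ⊤)) = Spec.preimage ψ := rfl
  change W.left.isoSpec.inv ≫ W.hom = Spec.map (CommRingCat.ofHom (algebraMap R Γ(W.left, ⊤)))
  rw [h1, Spec.map_preimage]

/-- Covering a scheme over `Spec R` by spectra of `R`-algebras. -/
theorem exists_affine_cover (V : Over (Spec (CommRingCat.of R))) :
    ∃ (κ : Type u) (B : κ → Type u) (_ : ∀ k, CommRing (B k)) (_ : ∀ k, Algebra R (B k))
      (c : ∀ k, sp R (B k) ⟶ V), (∀ k, IsOpenImmersion (c k).left) ∧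
        ∀ v : ↥V.left, ∃ (k : κ) (x : ↥(sp R (B k)).left), (c k).left x = v := by
  have h1 : ∀ j : V.left.affineOpens, ∃ (A : Type u) (_ : CommRing A) (_ : Algebra R A),
      Nonempty (sp R A ≅ (Over.mk (j.1.ι ≫ V.hom) : Over (Spec (CommRingCat.of R)))) := fun j => by
    have : IsAffine (Over.mk (j.1.ι ≫ V.hom) : Over (Spec (CommRingCat.of R))).left := j.2
    exact exists_algebra _
  choose A hA hA' e using h1
  refine ⟨V.left.affineOpens, A, hA, hA', fun j => (e j).some.hom ≫ Over.homMk j.1.ι rfl, fun j => ?_, fun v => ?_⟩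
  · have h1 : IsIso (e j).some.hom.left := inferInstanceAs (IsIso ((Over.forget _).map (e j).some.hom))
    exact inferInstanceAs (IsOpenImmersion ((e j).some.hom.left ≫ j.1.ι))
  · obtain ⟨j, hj, hxj, -⟩ := V.left.isBasis_affineOpens.exists_subset_of_mem_open
      (Set.mem_univ v) isOpen_univ
    obtain ⟨W, hW, rfl⟩ := hj
    have h1 : IsIso (e ⟨W, hW⟩).some.hom.left := inferInstanceAs (IsIso ((Over.forget _).map (e ⟨W, hW⟩).some.hom))
    obtain ⟨x, hx⟩ := (e ⟨W, hW⟩).some.hom.left.surjective (⟨v, hxj⟩ : W)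
    refine ⟨⟨W, hW⟩, x, ?_⟩
    change Scheme.Opens.ι W ((e ⟨W, hW⟩).some.hom.left x) = v
    exact congrArg (Scheme.Opens.ι W) hx

/-- Morphisms of spectra of `R`-algebras come from algebra maps. -/
theorem exists_algHom {A B : Type u} [CommRing A] [CommRing B] [Algebra R A] [Algebra R B]
    (φ : sp R B ⟶ sp R A) : ∃ ψ : A →ₐ[R] B, φ.left = Spec.map (CommRingCat.ofHom ψ.toRingHom) := by
  have h1 : φ.left ≫ Spec.map (CommRingCat.ofHom (algebraMap R A)) =
      Spec.map (CommRingCat.ofHom (algebraMap R B)) := Over.w φ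
  let θ : CommRingCat.of A ⟶ CommRingCat.of B := Spec.preimage φ.left
  have h2 : Spec.map θ = φ.left := Spec.map_preimage _
  have h3 : CommRingCat.ofHom (algebraMap R A) ≫ θ = CommRingCat.ofHom (algebraMap R B) := by
    apply Spec.map_injective
    rw [Spec.map_comp, h2, h1]
  refine ⟨{ θ.hom with commutes' := fun r => ?_ }, ?_⟩
  · exact congrArg (fun z : CommRingCat.of R ⟶ CommRingCat.of B => z.hom r) h3
  · rw [← h2]
    rfl

/-- If the spectra of flat algebras cover, they are jointly injective. -/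
theorem eq_zero_of_flat_cover {A : Type u} [CommRing A] {ι : Type*} (B : ι → Type u) [∀ i, CommRing (B i)]
    [∀ i, Algebra A (B i)] [∀ i, Module.Flat A (B i)]
    (h : ∀ p : PrimeSpectrum A, ∃ (i : ι) (q : PrimeSpectrum (B i)), q.comap (algebraMap A (B i)) = p) (a : A)
    (ha : ∀ i, algebraMap A (B i) a = 0) : a = 0 := by
  by_contra h0
  let I : Ideal A := LinearMap.ker (LinearMap.mulRight A a)
  have hI : I ≠ ⊤ := by
    intro hI
    have : (1 : A) ∈ I := by rw [hI]; trivial
    rw [LinearMap.mem_ker, LinearMap.mulRight_apply, one_mul] at this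
    exact h0 this
  obtain ⟨m, hm, hIm⟩ := I.exists_le_maximal hI
  obtain ⟨i, q, hq⟩ := h ⟨m, hm.isPrime⟩
  have h1 : Module.IsTrivialRelation (fun _ : Fin 1 => a) (fun _ : Fin 1 => (1 : B i)) := by
    refine Module.Flat.isTrivialRelation_of_sum_smul_eq_zero ?_
    simp [Algebra.smul_def, ha i]
  obtain ⟨k, c, y, hy, hc⟩ := h1
  have hy0 : (1 : B i) = ∑ j, c 0 j • y j := hy 0
  have h2 : (1 : B i) ∈ q.asIdeal := by
    rw [hy0]
    refine Submodule.sum_mem _ fun j _ => ?_
    rw [Algebra.smul_def]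
    refine Ideal.mul_mem_right _ _ ?_
    have h3 : c 0 j ∈ I := by
      rw [LinearMap.mem_ker, LinearMap.mulRight_apply]
      have := hc j
      simpa [mul_comm] using this
    have h4 : c 0 j ∈ (q.comap (algebraMap A (B i))).asIdeal := by
      rw [hq]
      exact hIm h3
    exact h4
  exact q.isPrime.ne_top ((Ideal.eq_top_iff_one _).2 h2)

end K641.SpecAlg
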