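import Groth.Agent.AlgSp.K641.GlueLocal
import Groth.Agent.AlgSp.K641.SpecAlg
import Groth.Agent.S9882

/-!
# Uniqueness of morphisms glued along a glueing pair
-/

set_option autoImplicit false
universe u

open CategoryTheory CategoryTheory.Limits AlgebraicGeometry TensorProduct

namespace K641.GlueUniq

open AlgSp K641.SpecAlg

variable {R R' : Type u} [CommRing R] [CommRing R'] [Algebra R R'] {f : R}

/-- The equalizer of two maps to a sheaf with representable diagonal is representable. -/
theorem exists_eq {S : Scheme.{u}} {Z : Sp S} (hZ : Representable (Limits.diag Z)) {T : Over S}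
    (a b : (yon S).obj T ⟶ Z) : ∃ (E : Over S) (p : E ⟶ T) (e : (yon S).obj E ⟶ Z),
      IsPullback e ((yon S).map p) (Limits.diag Z) (prod.lift a b) ∧ (yon S).map p ≫ a = (yon S).map p ≫ b ∧
      ∀ (W : Over S) (t : W ⟶ T), (yon S).map t ≫ a = (yon S).map t ≫ b → ∃ d : W ⟶ E, d ≫ p = t := by
  obtain ⟨E, p, e, sq⟩ := hZ (prod.lift a b)
  refine ⟨E, p, e, sq, ?_, fun W t ht => ?_⟩
  · have h2 : (yon S).map p ≫ a = e := by
      rw [← prod.lift_fst a b, ← Category.assoc, ← sq.w, Category.assoc, prod.lift_fst, Category.comp_id]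
    have h3 : (yon S).map p ≫ b = e := by
      rw [← prod.lift_snd a b, ← Category.assoc, ← sq.w, Category.assoc, prod.lift_snd, Category.comp_id]
    rw [h2, h3]
  · have w : ((yon S).map t ≫ a) ≫ Limits.diag Z = (yon S).map t ≫ prod.lift a b := by
      apply Limits.prod.hom_ext
      · rw [Category.assoc, Category.assoc, Category.assoc, prod.lift_fst, prod.lift_fst, Category.comp_id]
      · rw [Category.assoc, Category.assoc, Category.assoc, prod.lift_snd, prod.lift_snd, Category.comp_id, ht]
    refine ⟨(yon S).preimage (sq.lift _ _ w), ?_⟩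
    apply (yon S).map_injective
    rw [Functor.map_comp, (yon S).map_preimage, sq.lift_snd]

/-- Two maps from a glueable affine scheme to an algebraic space agree if they agree over `R'` and `R_f`. -/
theorem eq_of_glueable (h : EtGlue.IsGlueingPair R R' f) {A : Type u} [CommRing A] [Algebra R A]
    (hA : EtGlue.IsGlueable R R' f A) (Z : Space (Spec (CommRingCat.of R)))
    (a b : (yon (Spec (CommRingCat.of R))).obj (sp R A) ⟶ Z.obj)
    (h₁ : ∀ (T : Over (Spec (CommRingCat.of R))) (t : T ⟶ sp R A), Nonempty (T ⟶ sp R R') →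
      (yon _).map t ≫ a = (yon _).map t ≫ b)
    (h₂ : ∀ (T : Over (Spec (CommRingCat.of R))) (t : T ⟶ sp R A), Nonempty (T ⟶ sp R (Localization.Away f)) →
      (yon _).map t ≫ a = (yon _).map t ≫ b) : a = b := by
  obtain ⟨E, p, e, sq, hp, hE⟩ := exists_eq Z.property.diag a b
  have hd := Groth.Agent.S9882.result _ Z
  have hmono : Mono p.left := hd.2.1.property _ _ _ sq
  have hft : LocallyOfFiniteType p.left := hd.1.property _ _ _ sq
  -- the section over `R'`
  obtain ⟨s', hs'⟩ : ∃ s' : Spec (.of (R' ⊗[R] A)) ⟶ E.left, s' ≫ p.left = Spec.map (CommRingCat.ofHom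
      (Algebra.TensorProduct.includeRight : A →ₐ[R] R' ⊗[R] A).toRingHom) := by
    have w1 : Spec.map (CommRingCat.ofHom (Algebra.TensorProduct.includeRight : A →ₐ[R] R' ⊗[R] A).toRingHom) ≫
        Spec.map (CommRingCat.ofHom (algebraMap R A)) =
        Spec.map (CommRingCat.ofHom (algebraMap R (R' ⊗[R] A))) := by
      rw [← Spec.map_comp, ← CommRingCat.ofHom_comp]
      congr 2
      exact (Algebra.TensorProduct.includeRight : A →ₐ[R] R' ⊗[R] A).comp_algebraMap
    have w2 : Spec.map (CommRingCat.ofHom (Algebra.TensorProduct.includeLeft : R' →ₐ[R] R' ⊗[R] A).toRingHom) ≫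
        Spec.map (CommRingCat.ofHom (algebraMap R R')) =
        Spec.map (CommRingCat.ofHom (algebraMap R (R' ⊗[R] A))) := by
      rw [← Spec.map_comp, ← CommRingCat.ofHom_comp]
      congr 2
    let t : sp R (R' ⊗[R] A) ⟶ sp R A := Over.homMk _ w1
    obtain ⟨d, hd⟩ := hE _ t (h₁ _ t ⟨Over.homMk _ w2⟩)
    exact ⟨d.left, by rw [← Over.comp_left, hd]; rfl⟩
  -- the section over `R_f`
  obtain ⟨sf, hsf⟩ : ∃ sf : Spec (.of (Localization.Away (algebraMap R A f))) ⟶ E.left,
      sf ≫ p.left = Spec.map (CommRingCat.ofHom (algebraMap A (Localization.Away (algebraMap R A f)))) := by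
    obtain ⟨β, hβ⟩ := K641.GlueLocal.exists_away_map0 (algebraMap R A) f
    let T : Over (Spec (CommRingCat.of R)) := Over.mk
      (Spec.map (CommRingCat.ofHom (algebraMap A (Localization.Away (algebraMap R A f)))) ≫
        Spec.map (CommRingCat.ofHom (algebraMap R A)))
    let t : T ⟶ sp R A := Over.homMk (Spec.map (CommRingCat.ofHom (algebraMap A (Localization.Away (algebraMap R A f))))) rfl
    have w2 : Spec.map (CommRingCat.ofHom β) ≫ Spec.map (CommRingCat.ofHom (algebraMap R (Localization.Away f))) =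
        Spec.map (CommRingCat.ofHom (algebraMap A (Localization.Away (algebraMap R A f)))) ≫
        Spec.map (CommRingCat.ofHom (algebraMap R A)) := by
      rw [← Spec.map_comp, ← Spec.map_comp, ← CommRingCat.ofHom_comp, ← CommRingCat.ofHom_comp, hβ]
    let t' : T ⟶ sp R (Localization.Away f) := Over.homMk (Spec.map (CommRingCat.ofHom β)) w2
    obtain ⟨d, hd⟩ := hE _ t (h₂ _ t ⟨t'⟩)
    exact ⟨d.left, by rw [← Over.comp_left, hd]; rfl⟩
  have hloc := fun y : ↥(Spec (CommRingCat.of A)) => K641.GlueLocal.exists_etale_section h hA p.left s' hs' sf hsf y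
  choose U g hg v σ hv hσ using hloc
  refine K641.ColimSch.hom_ext_cover (T' := fun y => Over.mk (g y ≫ (sp R A).hom))
    (fun y => (Over.homMk (g y) rfl : Over.mk (g y ≫ (sp R A).hom) ⟶ sp R A)) hg (fun y => ⟨y, v y, hv y⟩) fun y => ?_
  let σ' : Over.mk (g y ≫ (sp R A).hom) ⟶ E := Over.homMk (σ y) (by
    rw [← Over.w p, ← Category.assoc, hσ]
    rfl)
  have h1 : (Over.homMk (g y) rfl : Over.mk (g y ≫ (sp R A).hom) ⟶ sp R A) = σ' ≫ p := by
    apply Over.OverMorphism.ext
    exact (hσ y).symm
  rw [h1, Functor.map_comp, Category.assoc, Category.assoc, hp]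

end K641.GlueUniq
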