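import Groth.Agent.S2005
import Mathlib.RingTheory.Flat.Basic
import Mathlib.RingTheory.Flat.Stability
import Mathlib.LinearAlgebra.TensorProduct.Tower

/-!
# Glueable modules (Beauville-Laszlo): flat base change, descent

For a glueing pair, `M` is glueable iff no nonzero `f`-power torsion element dies in `R' ⊗ M`.
-/

set_option autoImplicit false
universe u

open TensorProduct

namespace K641.Glueable

variable {R R' : Type u} [CommRing R] [CommRing R'] [Algebra R R'] {f : R}

theorem glueable_iff (h : EtGlue.IsGlueingPair R R' f) (M : Type u) [AddCommGroup M] [Module R M] :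
    EtGlue.IsGlueable R R' f M ↔ ∀ m : M, (∃ n : ℕ, f ^ n • m = 0) → (1 : R') ⊗ₜ[R] m = 0 → m = 0 :=
  (Groth.Agent.S2005.result R R' f h.1 M).2 h

/-- If a family of linear maps to glueable modules is jointly injective, the source is glueable. -/
theorem of_jointly_injective (h : EtGlue.IsGlueingPair R R' f) {M : Type u} [AddCommGroup M] [Module R M]
    {ι : Type*} (N : ι → Type u) [∀ i, AddCommGroup (N i)] [∀ i, Module R (N i)] (φ : ∀ i, M →ₗ[R] N i)
    (hφ : ∀ m : M, (∀ i, φ i m = 0) → m = 0) (hN : ∀ i, EtGlue.IsGlueable R R' f (N i)) :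
    EtGlue.IsGlueable R R' f M := by
  rw [glueable_iff h]
  rintro m ⟨n, hn⟩ hm
  refine hφ m fun i => ?_
  refine (glueable_iff h (N i)).1 (hN i) _ ⟨n, ?_⟩ ?_
  · rw [← map_smul, hn, map_zero]
  · have := congrArg (LinearMap.lTensor R' (φ i)) hm
    rwa [LinearMap.lTensor_tmul, map_zero] at this

/-- Flat algebras over a glueable algebra are glueable. -/
theorem of_flat (h : EtGlue.IsGlueingPair R R' f) {A B : Type u} [CommRing A] [CommRing B] [Algebra R A]
    [Algebra R B] [Algebra A B] [IsScalarTower R A B] [Module.Flat A B]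
    (hA : EtGlue.IsGlueable R R' f A) : EtGlue.IsGlueable R R' f B := by
  rw [glueable_iff h] at hA ⊢
  rintro b ⟨n, hn⟩ hb
  -- the `A`-linear map `a ↦ (f^n a, a ⊗ 1)`
  let φ : A →ₗ[A] A × (A ⊗[R] R') := LinearMap.prod (LinearMap.lsmul A A (algebraMap R A (f ^ n)))
    (Algebra.TensorProduct.includeLeft (R := R) (S := A) (A := A) (B := R')).toLinearMap
  have hφ : Function.Injective φ := by
    rw [injective_iff_map_eq_zero]
    intro a ha
    rw [Prod.ext_iff] at ha
    obtain ⟨h1, h2⟩ := ha
    refine hA a ⟨n, ?_⟩ ?_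
    · rw [Algebra.smul_def]
      exact h1
    · have h3 : a ⊗ₜ[R] (1 : R') = 0 := h2
      have := congrArg (TensorProduct.comm R A R') h3
      simpa using this
  have h1 : Function.Injective (LinearMap.lTensor B φ) := Module.Flat.lTensor_preserves_injective_linearMap φ hφ
  have h2 : (b ⊗ₜ[A] (1 : A)) = 0 := by
    apply h1
    rw [map_zero, LinearMap.lTensor_tmul]
    have h3 : φ 1 = (algebraMap R A (f ^ n), 0) + (0, (1 : A) ⊗ₜ[R] (1 : R')) := by
      rw [Prod.mk_add_mk, add_zero, zero_add]
      change (algebraMap R A (f ^ n) * 1, (1 : A) ⊗ₜ[R] (1 : R')) = _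
      rw [mul_one]
    rw [h3, TensorProduct.tmul_add]
    have h4 : b ⊗ₜ[A] ((algebraMap R A (f ^ n), 0) : A × (A ⊗[R] R')) = 0 := by
      have : ((algebraMap R A (f ^ n), 0) : A × (A ⊗[R] R')) = algebraMap R A (f ^ n) • ((1, 0) : A × (A ⊗[R] R')) := by
        rw [Prod.smul_mk, smul_zero, smul_eq_mul, mul_one]
      rw [this, TensorProduct.tmul_smul, TensorProduct.smul_tmul', algebraMap_smul, hn, TensorProduct.zero_tmul]
    have h5 : b ⊗ₜ[A] ((0, (1 : A) ⊗ₜ[R] (1 : R')) : A × (A ⊗[R] R')) = 0 := by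
      have e1 : ((0, (1 : A) ⊗ₜ[R] (1 : R')) : A × (A ⊗[R] R')) =
          LinearMap.inr A A (A ⊗[R] R') ((1 : A) ⊗ₜ[R] (1 : R')) := rfl
      rw [e1, ← LinearMap.lTensor_tmul]
      have e2 : b ⊗ₜ[A] ((1 : A) ⊗ₜ[R] (1 : R')) = 0 := by
        apply (TensorProduct.AlgebraTensorModule.cancelBaseChange R A A B R').injective
        rw [map_zero, TensorProduct.AlgebraTensorModule.cancelBaseChange_tmul, one_smul]
        have := congrArg (TensorProduct.comm R R' B) hb
        simpa using this
      rw [e2, map_zero]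
    rw [h4, h5, add_zero]
  have := congrArg (TensorProduct.rid A B) h2
  simpa using this

end K641.Glueable
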