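import Groth.Agent.AlgSp.K613.Basic
import Groth.Agent.AlgSp.K609.Points
import Groth.Agent.AlgSp.K641.Pb
import Mathlib.CategoryTheory.Limits.Over
import Mathlib.AlgebraicGeometry.Morphisms.Separated

/-!
# Colimits of schemes which remain colimits among algebraic spaces
-/

set_option autoImplicit false

open CategoryTheory CategoryTheory.Limits AlgebraicGeometry Opposite

namespace K641.ColimSch

open AlgSp

universe w v u

variable {S : Scheme.{u}} {I : Type v} [Category.{w} I]

/-- A colimit in schemes is a colimit in schemes over `S`. -/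
noncomputable def isColimitOver {D : I ⥤ Over S} {c : Cocone D} (h : IsColimit ((Over.forget S).mapCocone c)) :
    IsColimit c := isColimitOfReflects _ h

/-- Two maps from a colimit of schemes to a sheaf with representable diagonal agree if they agree on the terms. -/
theorem hom_ext_of_isColimit {D : I ⥤ Over S} {c : Cocone D} (hc : IsColimit c) {Z : Sp S}
    (hZ : Representable (Limits.diag Z)) (a b : (yon S).obj c.pt ⟶ Z)
    (h : ∀ i, (yon S).map (c.ι.app i) ≫ a = (yon S).map (c.ι.app i) ≫ b) : a = b := by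
  obtain ⟨E, ε, e, sq⟩ := hZ (prod.lift a b)
  have w : ∀ i, ((yon S).map (c.ι.app i) ≫ a) ≫ Limits.diag Z = (yon S).map (c.ι.app i) ≫ prod.lift a b := by
    intro i
    apply Limits.prod.hom_ext
    · rw [Category.assoc, Category.assoc, Category.assoc, prod.lift_fst, prod.lift_fst, Category.comp_id]
    · rw [Category.assoc, Category.assoc, Category.assoc, prod.lift_snd, prod.lift_snd, Category.comp_id, h i]
  let d : ∀ i, D.obj i ⟶ E := fun i => (yon S).preimage (sq.lift _ _ (w i))
  have hd : ∀ i, d i ≫ ε = c.ι.app i := fun i => by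
    apply (yon S).map_injective
    rw [Functor.map_comp, (yon S).map_preimage, sq.lift_snd]
  have hmono : Mono ε := by
    have : Mono ((yon S).map ε) := by
      refine ⟨fun x y hxy => sq.hom_ext ?_ hxy⟩
      rw [← cancel_mono (Limits.diag Z), Category.assoc, Category.assoc, sq.w, reassoc_of% hxy]
    exact (yon S).mono_of_mono_map this
  have hnat : ∀ ⦃i j : I⦄ (g : i ⟶ j), D.map g ≫ d j = d i ≫ 𝟙 E := fun i j g => by
    rw [← cancel_mono ε, Category.assoc, hd, Category.comp_id, hd, c.w]
  let σ : c.pt ⟶ E := hc.desc ⟨E, { app := d, naturality := hnat }⟩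
  have hσ' : ∀ i, c.ι.app i ≫ σ = d i := fun i => hc.fac _ i
  have hσ : σ ≫ ε = 𝟙 _ := hc.hom_ext fun i => by
    rw [reassoc_of% hσ', hd, Category.comp_id]
  have h1 : prod.lift a b = (yon S).map σ ≫ e ≫ Limits.diag Z := by
    rw [sq.w, ← Category.assoc, ← Functor.map_comp, hσ, CategoryTheory.Functor.map_id, Category.id_comp]
  have h2 : a = (yon S).map σ ≫ e := by
    rw [← prod.lift_fst a b, h1, Category.assoc, Category.assoc, prod.lift_fst, Category.comp_id]
  have h3 : b = (yon S).map σ ≫ e := by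
    rw [← prod.lift_snd a b, h1, Category.assoc, Category.assoc, prod.lift_snd, Category.comp_id]
  rw [h2, h3]

/-- `V ⟶ T` is separated if `h_V = h_T ×_Z h_W` with `W` separated. -/
theorem isSeparated_snd {Z : Sp S} {T W V : Over S} {z : (yon S).obj T ⟶ Z} {p : (yon S).obj W ⟶ Z}
    {fst : V ⟶ W} {snd : V ⟶ T} (sq : IsPullback ((yon S).map fst) ((yon S).map snd) p z)
    [IsSeparated W.hom] : IsSeparated snd.left := by
  have w : fst.left ≫ W.hom = snd.left ≫ T.hom := by rw [Over.w, Over.w]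
  have hm : Mono (pullback.lift fst.left snd.left w) := by
    refine ⟨fun {R} x y hxy => ?_⟩
    have h1 : x ≫ fst.left = y ≫ fst.left := by
      have := congrArg (· ≫ pullback.fst _ _) hxy
      rwa [Category.assoc, Category.assoc, pullback.lift_fst] at this
    have h2 : x ≫ snd.left = y ≫ snd.left := by
      have := congrArg (· ≫ pullback.snd _ _) hxy
      rwa [Category.assoc, Category.assoc, pullback.lift_snd] at this
    have h3 : y ≫ V.hom = x ≫ V.hom := by
      rw [← Over.w snd, ← Category.assoc, ← Category.assoc, h2]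
    let x' : Over.mk (x ≫ V.hom) ⟶ V := Over.homMk x rfl
    let y' : Over.mk (x ≫ V.hom) ⟶ V := Over.homMk y h3
    have h4 : x' = y' := by
      apply (yon S).map_injective
      refine sq.hom_ext ?_ ?_
      · rw [← Functor.map_comp, ← Functor.map_comp]
        congr 1
        exact Over.OverMorphism.ext h1
      · rw [← Functor.map_comp, ← Functor.map_comp]
        congr 1
        exact Over.OverMorphism.ext h2
    exact congrArg (fun z => z.left) h4
  have h5 : snd.left = pullback.lift fst.left snd.left w ≫ pullback.snd _ _ := (pullback.lift_snd _ _ _).symm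
  rw [h5]
  infer_instance

/-- an affine open piece of a chart -/
theorem exists_affine_charts {Z : Sp S} (hZ : IsAlgSpace Z) :
    ∃ (κ : Type u) (W : κ → Over S) (p : ∀ j, (yon S).obj (W j) ⟶ Z),
      (∀ j, IsAffine (W j).left) ∧ (∀ j, RepWith @Etale (p j)) ∧
        ∀ z : Points Z, ∃ (j : κ) (x : ↥(W j).left), Points.ofPt (p j) x = z := by
  obtain ⟨U, p, hp, hp'⟩ := hZ.atlas
  refine ⟨U.left.affineOpens, fun j => Over.mk (j.1.ι ≫ U.hom),
    fun j => (yon S).map (Over.homMk j.1.ι rfl : Over.mk (j.1.ι ≫ U.hom) ⟶ U) ≫ p, fun j => ?_, fun j => ?_,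
    fun z => ?_⟩
  · exact j.2
  · have h1 : RepWith @Etale ((yon S).map (Over.homMk j.1.ι rfl : Over.mk (j.1.ι ≫ U.hom) ⟶ U)) :=
      (repWith_yon_map_iff _ _).2 (inferInstanceAs (Etale j.1.ι))
    exact (repWith_isMultiplicative @Etale).comp_mem _ _ h1 hp
  · obtain ⟨x, hx⟩ := K609.Points.surjective_ofPt_of_repWith_surjective hp' z
    obtain ⟨j, hj, hxj, -⟩ := U.left.isBasis_affineOpens.exists_subset_of_mem_open
      (Set.mem_univ x) isOpen_univ
    obtain ⟨V, hV, rfl⟩ := hj
    refine ⟨⟨V, hV⟩, (⟨x, hxj⟩ : V), ?_⟩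
    exact (K609.Points.ofPt_yon_map_comp _ _ _).trans hx

/-- Two maps `h_T ⟶ F` agree if they agree on a jointly surjective family of etale morphisms. -/
theorem hom_ext_cover {F : Sp S} {T : Over S} {κ : Type u} {T' : κ → Over S} (c : ∀ j, T' j ⟶ T)
    (hc : ∀ j, Etale (c j).left) (hs : ∀ t : ↥T.left, ∃ (j : κ) (t' : ↥(T' j).left), (c j).left t' = t)
    {a b : (yon S).obj T ⟶ F} (h : ∀ j, (yon S).map (c j) ≫ a = (yon S).map (c j) ≫ b) : a = b := by
  obtain ⟨y, -, hy'⟩ := K613.Basic.glueFam (F := F) T' c (fun j => have := hc j; inferInstance)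
    (fun j => have := hc j; inferInstance) hs (fun j => (yon S).map (c j) ≫ a) (fun j k R p q hpq => by
      rw [← Category.assoc, ← Category.assoc, ← Functor.map_comp, ← Functor.map_comp, hpq])
  exact (hy' a fun _ => rfl).trans (hy' b fun j => (h j).symm).symm

variable {D : I ⥤ Over S} {c : Cocone D}

/-- The key lemma: a compatible family of maps from the terms of a "universally etale" colimit of schemes to an
algebraic space comes from the colimit. -/
theorem exists_desc (h₂ : ∀ x : ↥c.pt.left, ∃ (i : I) (y : ↥(D.obj i).left), (c.ι.app i).left y = x)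
    (h₃ : ∀ (D' : I ⥤ Over S) (α : D' ⟶ D) (c' : Cocone D') (a : c'.pt ⟶ c.pt), Etale a.left →
      (∀ i, IsPullback (c'.ι.app i) (α.app i) a (c.ι.app i)) → Nonempty (IsColimit ((Over.forget S).mapCocone c')))
    (h₄ : ∀ (D' : I ⥤ Over S) (α : D' ⟶ D), NatTrans.Equifibered α → (∀ i, Etale (α.app i).left) →
      (∀ i, IsSeparated (α.app i).left) →
      ∃ (c' : Cocone D') (a : c'.pt ⟶ c.pt), Etale a.left ∧ ∀ i, IsPullback (c'.ι.app i) (α.app i) a (c.ι.app i))
    {Z : Sp S} (hZ : IsAlgSpace Z) (z : ∀ i, (yon S).obj (D.obj i) ⟶ Z)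
    (hz : ∀ ⦃i j : I⦄ (g : i ⟶ j), (yon S).map (D.map g) ≫ z j = z i) :
    ∃ y : (yon S).obj c.pt ⟶ Z, ∀ i, (yon S).map (c.ι.app i) ≫ y = z i := by
  obtain ⟨κ, W, p, hW, hp, hcov⟩ := exists_affine_charts hZ
  -- the pulled back systems
  have hrep : ∀ j : κ, ∃ (D' : I ⥤ Over S) (α : D' ⟶ D) (f : ∀ i, D'.obj i ⟶ W j),
      (∀ i, IsPullback ((yon S).map (f i)) ((yon S).map (α.app i)) (p j) (z i)) ∧
      (∀ ⦃i i' : I⦄ (g : i ⟶ i'), D'.map g ≫ f i' = f i) ∧ NatTrans.Equifibered α := by
    intro j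
    obtain ⟨D', α, fst, h1, h5, h6⟩ := Pb.exists_diag (yon S) z hz (p j) (fun i => by
      obtain ⟨V, s, f, sq⟩ := (hp j).1 (z i)
      exact ⟨V, f, s, sq⟩)
    refine ⟨D', α, fun i => (yon S).preimage (fst i), fun i => by rw [(yon S).map_preimage]; exact h1 i,
      fun i i' g => ?_, h6⟩
    apply (yon S).map_injective
    rw [Functor.map_comp, (yon S).map_preimage, (yon S).map_preimage, h5]
  choose D' α f sq hnat hα using hrep
  have hα1 : ∀ j i, Etale ((α j).app i).left := fun j i => (hp j).2 _ _ _ (sq j i)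
  have hα2 : ∀ j i, IsSeparated ((α j).app i).left := fun j i => by
    have := hW j
    exact isSeparated_snd (sq j i)
  have key : ∀ j, ∃ (c' : Cocone (D' j)) (a : c'.pt ⟶ c.pt), Etale a.left ∧
      ∀ i, IsPullback (c'.ι.app i) ((α j).app i) a (c.ι.app i) := fun j => h₄ _ _ (hα j) (hα1 j) (hα2 j)
  choose c' a ha hca using key
  have hc' : ∀ j, IsColimit (c' j) := fun j => isColimitOver (h₃ _ _ _ _ (ha j) (hca j)).some
  -- the map from `U_j` to `W_j`
  have hnat' : ∀ (j : κ) ⦃i i' : I⦄ (g : i ⟶ i'), (D' j).map g ≫ f j i' = f j i ≫ 𝟙 (W j) := fun j i i' g => by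
    rw [Category.comp_id, hnat j g]
  let ψ : ∀ j, (c' j).pt ⟶ W j := fun j =>
    (hc' j).desc ⟨W j, { app := fun i => f j i, naturality := hnat' j }⟩
  have hψ : ∀ j i, (c' j).ι.app i ≫ ψ j = f j i := fun j i => (hc' j).fac _ i
  let ζ : ∀ j, (yon S).obj (c' j).pt ⟶ Z := fun j => (yon S).map (ψ j) ≫ p j
  have hζ : ∀ j i, (yon S).map ((c' j).ι.app i) ≫ ζ j = (yon S).map ((α j).app i) ≫ z i := fun j i => by
    rw [← Category.assoc, ← Functor.map_comp, hψ, (sq j i).w]
  -- the `U_j` cover
  have hs : ∀ (i : I) (t : ↥(D.obj i).left), ∃ (j : κ) (v : ↥((D' j).obj i).left),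
      ((α j).app i).left v = t := by
    intro i t
    obtain ⟨j, x, hx⟩ := hcov (Points.ofPt (z i) t)
    obtain ⟨v, -, hv⟩ := (K609.Points.ofPt_eq_ofPt_iff (sq j i) x t).1 hx
    exact ⟨j, v, hv⟩
  have hs' : ∀ t : ↥c.pt.left, ∃ (j : κ) (u : ↥(c' j).pt.left), (a j).left u = t := by
    intro t
    obtain ⟨i, y, rfl⟩ := h₂ t
    obtain ⟨j, v, rfl⟩ := hs i y
    refine ⟨j, ((c' j).ι.app i).left v, ?_⟩
    rw [← Scheme.Hom.comp_apply, ← Scheme.Hom.comp_apply, ← Over.comp_left, ← Over.comp_left, (hca j i).w]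
  -- agreement on overlaps
  have hagree : ∀ (j k : κ) (R : Over S) (r₁ : R ⟶ (c' j).pt) (r₂ : R ⟶ (c' k).pt), r₁ ≫ a j = r₂ ≫ a k →
      (yon S).map r₁ ≫ ζ j = (yon S).map r₂ ≫ ζ k := by
    intro j k R r₁ r₂ hr
    -- universal case
    have huniv : (yon S).map (pullback.fst (a j) (a k)) ≫ ζ j =
        (yon S).map (pullback.snd (a j) (a k)) ≫ ζ k := by
      let q : pullback (a j) (a k) ⟶ c.pt := pullback.fst (a j) (a k) ≫ a j
      have hq : Etale q.left := by
        have := ha j
        have h1 : Etale (pullback.fst (a j) (a k)).left :=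
          MorphismProperty.of_isPullback (P := @Etale)
            ((IsPullback.of_hasPullback (a j) (a k)).flip.map (Over.forget S)) (ha k)
        exact inferInstanceAs (Etale ((pullback.fst (a j) (a k)).left ≫ (a j).left))
      obtain ⟨D'', α'', β, sq'', -⟩ := Pb.exists_diag' (D := D) (fun i => c.ι.app i) (fun i i' g => c.w g) q
        (fun i => ⟨_, _, _, IsPullback.of_hasPullback q (c.ι.app i)⟩)
      have hc'' : IsColimit (⟨_, β⟩ : Cocone D'') := isColimitOver (h₃ D'' α'' ⟨_, β⟩ q hq sq'').some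
      refine hom_ext_of_isColimit hc'' hZ.diag _ _ fun i => ?_
      have main : ∀ (l : κ) (m : pullback (a j) (a k) ⟶ (c' l).pt), m ≫ a l = q →
          (yon S).map (β.app i) ≫ (yon S).map m ≫ ζ l = (yon S).map (α''.app i) ≫ z i := by
        intro l m hm
        have e1 : (β.app i ≫ m) ≫ a l = α''.app i ≫ c.ι.app i := by
          rw [Category.assoc, hm]
          exact (sq'' i).w
        have e2 := (hca l i).lift_fst _ _ e1
        have e3 := (hca l i).lift_snd _ _ e1
        rw [← Category.assoc, ← Functor.map_comp, ← e2, Functor.map_comp, Category.assoc, hζ, ← Category.assoc,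
          ← Functor.map_comp, e3]
      exact (main j _ rfl).trans (main k _ (pullback.condition).symm).symm
    have e1 : r₁ = pullback.lift r₁ r₂ hr ≫ pullback.fst _ _ := by rw [pullback.lift_fst]
    have e2 : r₂ = pullback.lift r₁ r₂ hr ≫ pullback.snd _ _ := by rw [pullback.lift_snd]
    conv_lhs => rw [e1]
    conv_rhs => rw [e2]
    rw [Functor.map_comp, Functor.map_comp, Category.assoc, Category.assoc, huniv]
  obtain ⟨y, hy, -⟩ := K613.Basic.glueFam (F := Z) (fun j => (c' j).pt) a (fun j => have := ha j; inferInstance)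
    (fun j => have := ha j; inferInstance) hs' ζ hagree
  refine ⟨y, fun i => ?_⟩
  refine hom_ext_cover (T' := fun j => (D' j).obj i) (fun j => (α j).app i) (fun j => hα1 j i) (hs i) fun j => ?_
  have h1 : (α j).app i ≫ c.ι.app i = (c' j).ι.app i ≫ a j := (hca j i).w.symm
  rw [← Category.assoc, ← Functor.map_comp, h1, Functor.map_comp, Category.assoc, hy, hζ]

end K641.ColimSch
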