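import Groth.Agent.AlgSp.K641.Glueable
import Mathlib.RingTheory.Localization.Away.Basic

/-!
# Glueing idempotents along a glueing pair
-/

set_option autoImplicit false
universe u

open TensorProduct

namespace K641.GlueIdem

variable {R R' : Type u} [CommRing R] [CommRing R'] [Algebra R R'] {f : R}

/-- Idempotents generating the same ideal are equal. -/
theorem idem_eq {B : Type*} [CommRing B] {e e' : B} (he : IsIdempotentElem e) (he' : IsIdempotentElem e')
    (h : Ideal.span {e} = Ideal.span {e'}) : e = e' := by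
  obtain ⟨a, ha⟩ := Ideal.mem_span_singleton.1 (h ▸ Ideal.mem_span_singleton_self e : e ∈ Ideal.span {e'})
  obtain ⟨b, hb⟩ := Ideal.mem_span_singleton.1 (h ▸ Ideal.mem_span_singleton_self e' : e' ∈ Ideal.span {e})
  have h1 : e = e' * e := by
    conv_rhs => rw [ha, ← mul_assoc, he'.eq]
    exact ha
  have h2 : e' = e * e' := by
    conv_rhs => rw [hb, ← mul_assoc, he.eq]
    exact hb
  rw [h1, mul_comm, ← h2]

theorem mul_eq_zero_of_mem_span {B : Type*} [CommRing B] {e x : B} (he : IsIdempotentElem e)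
    (hx : x ∈ Ideal.span {e}) : (1 - e) * x = 0 := by
  obtain ⟨a, rfl⟩ := Ideal.mem_span_singleton.1 hx
  rw [← mul_assoc, sub_mul, one_mul, he.eq, sub_self, zero_mul]

theorem exists_idem (h : EtGlue.IsGlueingPair R R' f) {A : Type u} [CommRing A] [Algebra R A]
    (hA : EtGlue.IsGlueable R R' f A) (I : Ideal A) (e' : R' ⊗[R] A) (he' : IsIdempotentElem e')
    (hI' : I.map (Algebra.TensorProduct.includeRight : A →ₐ[R] R' ⊗[R] A) = Ideal.span {e'})
    {L : Type u} [CommRing L] [Algebra A L] [IsLocalization.Away (algebraMap R A f) L] (e'' : L)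
    (he'' : IsIdempotentElem e'') (hI'' : I.map (algebraMap A L) = Ideal.span {e''}) :
    ∃ ε : A, (∀ x ∈ I, (1 - ε) * x = 0) ∧ ∃ x ∈ I, ∃ y : A, ε = x + algebraMap R A f * y := by
  let φ : A →ₐ[R] R' ⊗[R] A := Algebra.TensorProduct.includeRight
  have hφ : ∀ a, φ a = (1 : R') ⊗ₜ[R] a := fun a => rfl
  -- write `e''` as a fraction
  obtain ⟨N, a₀, ha₀⟩ := IsLocalization.Away.surj (algebraMap R A f) e''
  have hunit : ∀ n : ℕ, IsUnit (algebraMap A L (algebraMap R A f) ^ n) := fun n =>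
    (IsLocalization.Away.algebraMap_isUnit (algebraMap R A f)).pow n
  have htors : ∀ (a : A) (n : ℕ), f ^ n • a = 0 → algebraMap A L a = 0 := fun a n hn => by
    apply (hunit n).mul_left_cancel
    rw [mul_zero, ← map_pow, ← map_mul, ← map_pow, ← Algebra.smul_def, hn, map_zero]
  have htors' : ∀ a : A, algebraMap A L a = 0 → ∃ n : ℕ, f ^ n • a = 0 := fun a ha => by
    obtain ⟨⟨_, n, rfl⟩, hn⟩ := (IsLocalization.map_eq_zero_iff (Submonoid.powers (algebraMap R A f)) L a).1 ha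
    refine ⟨n, ?_⟩
    rw [Algebra.smul_def, map_pow]
    exact hn
  -- compare in `A'_f`
  have key : ∃ k : ℕ, f ^ k • (f ^ N • e' - φ a₀) = 0 := by
    let L' := Localization.Away (algebraMap R (R' ⊗[R] A) f)
    have hu : IsUnit (((algebraMap (R' ⊗[R] A) L').comp φ.toRingHom) (algebraMap R A f)) := by
      change IsUnit (algebraMap (R' ⊗[R] A) L' (φ (algebraMap R A f)))
      rw [φ.commutes]
      exact IsLocalization.Away.algebraMap_isUnit _
    let ρ : L →+* L' := IsLocalization.Away.lift (algebraMap R A f) hu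
    have hρ : ∀ a, ρ (algebraMap A L a) = algebraMap (R' ⊗[R] A) L' (φ a) := fun a =>
      IsLocalization.Away.lift_eq _ hu a
    have h1 : algebraMap (R' ⊗[R] A) L' e' = ρ e'' := by
      refine idem_eq (he'.map (algebraMap (R' ⊗[R] A) L')) (he''.map ρ) ?_
      have e1 : Ideal.span {algebraMap (R' ⊗[R] A) L' e'} =
          I.map ((algebraMap (R' ⊗[R] A) L').comp φ.toRingHom) := by
        rw [← Ideal.map_map]
        change _ = Ideal.map _ (Ideal.map φ I)
        rw [hI', Ideal.map_span, Set.image_singleton]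
      have e2 : Ideal.span {ρ e''} = I.map (ρ.comp (algebraMap A L)) := by
        rw [← Ideal.map_map, hI'', Ideal.map_span, Set.image_singleton]
      rw [e1, e2]
      congr 1
      ext a
      exact (hρ a).symm
    have h2 : algebraMap (R' ⊗[R] A) L' (f ^ N • e' - φ a₀) = 0 := by
      rw [map_sub, ← hρ, ← ha₀, map_mul, Algebra.smul_def, map_mul, h1, map_pow, map_pow, map_pow, hρ,
        φ.commutes, mul_comm, sub_self]
    obtain ⟨⟨_, k, rfl⟩, hk⟩ := (IsLocalization.map_eq_zero_iff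
      (Submonoid.powers (algebraMap R (R' ⊗[R] A) f)) L' _).1 h2
    refine ⟨k, ?_⟩
    rw [Algebra.smul_def (R := R) (A := R' ⊗[R] A), map_pow]
    exact hk
  obtain ⟨k, hk⟩ := key
  obtain ⟨t, ht, ht'⟩ := Groth.Agent.Etalg.GlueBasic.torsion_surj h k _ hk
  obtain ⟨m₀, hm₀⟩ := Groth.Agent.Etalg.GlueBasic.exists_smul_of_tmul_eq_smul h.1 N (a₀ + t) e' (by
    rw [TensorProduct.tmul_add, ht', hφ]; abel)
  obtain ⟨t₂, ht₂, ht₂'⟩ := Groth.Agent.Etalg.GlueBasic.torsion_surj h N (e' - (1 : R') ⊗ₜ[R] m₀) (by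
    rw [smul_sub, ← TensorProduct.tmul_smul, ← hm₀, TensorProduct.tmul_add, ht', hφ]; abel)
  have h1 : (1 : R') ⊗ₜ[R] (m₀ + t₂) = e' := by
    rw [TensorProduct.tmul_add, ht₂']; abel
  have h2 : algebraMap A L (m₀ + t₂) = e'' := by
    apply (hunit N).mul_left_cancel
    rw [← map_pow, ← map_mul, ← map_pow, ← Algebra.smul_def, smul_add, ht₂, add_zero, ← hm₀, map_add,
      htors t k ht, add_zero, ← ha₀, mul_comm, map_pow, map_pow]
  refine ⟨m₀ + t₂, fun x hx => ?_, ?_⟩
  · refine (K641.Glueable.glueable_iff h A).1 hA _ (htors' _ ?_) ?_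
    · rw [map_mul, map_sub, map_one, h2]
      exact mul_eq_zero_of_mem_span he'' (hI'' ▸ Ideal.mem_map_of_mem _ hx)
    · change φ ((1 - (m₀ + t₂)) * x) = 0
      rw [map_mul, map_sub, map_one, hφ, h1]
      exact mul_eq_zero_of_mem_span he' (hI' ▸ Ideal.mem_map_of_mem _ hx)
  · have h3 : ∀ z ∈ I.map φ, ∃ x ∈ I, ∃ y : R' ⊗[R] A, z = (1 : R') ⊗ₜ[R] x + f • y := by
      intro z hz
      refine Submodule.span_induction (p := fun z _ => ∃ x ∈ I, ∃ y : R' ⊗[R] A,
        z = (1 : R') ⊗ₜ[R] x + f • y) ?_ ?_ ?_ ?_ hz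
      · rintro _ ⟨x, hx, rfl⟩
        exact ⟨x, hx, 0, by rw [smul_zero, add_zero]; rfl⟩
      · exact ⟨0, I.zero_mem, 0, by simp⟩
      · rintro _ _ - - ⟨x, hx, y, rfl⟩ ⟨x', hx', y', rfl⟩
        refine ⟨x + x', I.add_mem hx hx', y + y', ?_⟩
        rw [TensorProduct.tmul_add, smul_add]; abel
      · rintro s _ - ⟨x, hx, y, rfl⟩
        obtain ⟨m, w, rfl⟩ := Groth.Agent.Etalg.GlueBasic.exists_decomp_tensor h.1 1 s
        refine ⟨m * x, I.mul_mem_left _ hx, w * ((1 : R') ⊗ₜ[R] x) + ((1 : R') ⊗ₜ[R] m + f ^ 1 • w) * y, ?_⟩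
        rw [smul_eq_mul, mul_add, add_mul, Algebra.TensorProduct.tmul_mul_tmul, one_mul, smul_add,
          mul_smul_comm, smul_mul_assoc, pow_one, add_assoc]
    obtain ⟨x, hx, y, hxy⟩ := h3 e' (hI' ▸ Ideal.mem_span_singleton_self e' : e' ∈ I.map φ)
    obtain ⟨m, hm⟩ := Groth.Agent.Etalg.GlueBasic.exists_smul_of_tmul_eq_smul h.1 1 (m₀ + t₂ - x) y (by
      rw [TensorProduct.tmul_sub, h1, hxy, pow_one]; abel)
    refine ⟨x, hx, m, ?_⟩
    rw [pow_one, Algebra.smul_def] at hm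
    rw [← hm]; abel

end K641.GlueIdem
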