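import Groth.Agent.AlgSp.K641.GlueIdem
import Mathlib.AlgebraicGeometry.ZariskisMainTheorem
import Mathlib.AlgebraicGeometry.Morphisms.OpenImmersion
import Mathlib.AlgebraicGeometry.Morphisms.Finite

/-!
# Monomorphisms which are isomorphisms over `Spec R_f` and `Spec R'` for a glueing pair

If `p : E ⟶ Spec A` is a monomorphism locally of finite type, `A` glueable, with sections over `A_f` and
`R' ⊗ A`, then `p` has sections étale locally on `Spec A`.
-/

set_option autoImplicit false
universe u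

open CategoryTheory CategoryTheory.Limits AlgebraicGeometry TensorProduct

namespace K641.GlueLocal

/-- Base change of a quotient ring. -/
theorem isPushout_quot {A B : Type u} [CommRing A] [CommRing B] (φ : A →+* B) (I : Ideal A) :
    IsPushout (CommRingCat.ofHom φ) (CommRingCat.ofHom (Ideal.Quotient.mk I))
      (CommRingCat.ofHom (Ideal.Quotient.mk (I.map φ)))
      (CommRingCat.ofHom (Ideal.quotientMap (I.map φ) φ Ideal.le_comap_map)) := by
  refine ⟨⟨?_⟩, ⟨PushoutCocone.IsColimit.mk _ (fun s => CommRingCat.ofHom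
    (Ideal.Quotient.lift (I.map φ) s.inl.hom ?_)) ?_ ?_ ?_⟩⟩
  · apply CommRingCat.hom_ext
    ext a
    rfl
  · have h1 : I.map φ ≤ RingHom.ker s.inl.hom := by
      refine Ideal.map_le_iff_le_comap.2 fun a ha => ?_
      rw [Ideal.mem_comap, RingHom.mem_ker]
      have hc := congrArg (fun q => q.hom a) s.condition
      have hc' : s.inl.hom (φ a) = s.inr.hom (Ideal.Quotient.mk I a) := hc
      rw [hc', Ideal.Quotient.eq_zero_iff_mem.2 ha, map_zero]
    exact fun a ha => h1 ha
  · intro s
    apply CommRingCat.hom_ext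
    exact RingHom.ext fun x => rfl
  · intro s
    apply CommRingCat.hom_ext
    refine Ideal.Quotient.ringHom_ext (RingHom.ext fun x => ?_)
    have hc := congrArg (fun q => q.hom x) s.condition
    exact hc
  · intro s m h1 h2
    apply CommRingCat.hom_ext
    refine Ideal.Quotient.ringHom_ext (RingHom.ext fun x => ?_)
    have hc := congrArg (fun q => q.hom x) h1
    exact hc

/-- If the pullback of `Spec (A/I) ⟶ Spec A` along `Spec B ⟶ Spec A` is an open immersion then `I B` is generated
by an idempotent. -/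
theorem exists_idem_of_isPullback {A B : Type u} [CommRing A] [CommRing B] (φ : A →+* B) (I : Ideal A)
    {W E U : Scheme.{u}} {k : Spec (.of (A ⧸ I)) ⟶ W} {j : W ⟶ E} {q : E ⟶ U} {i : Spec (.of A) ⟶ U}
    (sq : IsPullback k (Spec.map (CommRingCat.ofHom (Ideal.Quotient.mk I))) (j ≫ q) i)
    [IsOpenImmersion j] [Mono q] (t : Spec (.of B) ⟶ E)
    (ht : t ≫ q = Spec.map (CommRingCat.ofHom φ) ≫ i) :
    ∃ e : B, IsIdempotentElem e ∧ I.map φ = Ideal.span {e} := by
  have h1 := isPullback_SpecMap_of_isPushout _ _ _ _ (isPushout_quot φ I)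
  -- h1 : IsPullback (Spec B/IB → Spec B) (Spec B/IB → Spec A/I) ...
  have h2 := h1.flip.paste_horiz sq
  rw [← ht] at h2
  have h3 : IsPullback (Spec.map (CommRingCat.ofHom (Ideal.quotientMap (I.map φ) φ Ideal.le_comap_map)) ≫ k)
      (Spec.map (CommRingCat.ofHom (Ideal.Quotient.mk (I.map φ)))) j t := by
    have w : (Spec.map (CommRingCat.ofHom (Ideal.quotientMap (I.map φ) φ Ideal.le_comap_map)) ≫ k) ≫ j =
        Spec.map (CommRingCat.ofHom (Ideal.Quotient.mk (I.map φ))) ≫ t := by
      rw [← cancel_mono q, Category.assoc, Category.assoc]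
      exact h2.w
    refine ⟨⟨w⟩, ⟨PullbackCone.IsLimit.mk _ (fun s => h2.lift s.fst s.snd ?_) (fun s => h2.lift_fst _ _ _)
      (fun s => h2.lift_snd _ _ _) (fun s m hm1 hm2 => ?_)⟩⟩
    · rw [reassoc_of% s.condition]
    · apply h2.hom_ext
      · rw [hm1, h2.lift_fst]
      · rw [hm2, h2.lift_snd]
  have h4 : IsOpenImmersion (Spec.map (CommRingCat.ofHom (Ideal.Quotient.mk (I.map φ)))) :=
    MorphismProperty.of_isPullback (P := @IsOpenImmersion) h3 inferInstance
  obtain ⟨e, he, he'⟩ := (isOpenImmersion_SpecMap_iff_of_surjective _ Ideal.Quotient.mk_surjective).1 h4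
  refine ⟨e, he, ?_⟩
  rw [← he']
  exact (Ideal.mk_ker).symm

variable {R R' : Type u} [CommRing R] [CommRing R'] [Algebra R R'] {f : R}

/-- Points of `V(f)` lift to `Spec (R' ⊗ A)`. -/
theorem exists_point (h : EtGlue.QuotPowBijective R R' f) {A : Type u} [CommRing A] [Algebra R A]
    (y : PrimeSpectrum A) (hy : algebraMap R A f ∈ y.asIdeal) :
    ∃ y' : PrimeSpectrum (R' ⊗[R] A),
      y'.comap (Algebra.TensorProduct.includeRight : A →ₐ[R] R' ⊗[R] A).toRingHom = y := by
  let Q := A ⧸ y.asIdeal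
  have : IsDomain Q := Ideal.Quotient.isDomain _
  let e := RingEquiv.ofBijective _ (h 1 one_pos)
  have hQ : ∀ r ∈ Ideal.span {f ^ 1}, algebraMap R Q r = 0 := by
    intro r hr
    obtain ⟨s, rfl⟩ := Ideal.mem_span_singleton.1 hr
    rw [pow_one, IsScalarTower.algebraMap_apply R A Q, map_mul, map_mul]
    have : algebraMap A Q (algebraMap R A f) = 0 := Ideal.Quotient.eq_zero_iff_mem.2 hy
    rw [this, zero_mul]
  let θ₀ : R' →+* Q := ((Ideal.Quotient.lift _ (algebraMap R Q) hQ).comp e.symm.toRingHom).comp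
    (Ideal.Quotient.mk (Ideal.map (algebraMap R R') (Ideal.span {f ^ 1})))
  have hθ : ∀ r : R, θ₀ (algebraMap R R' r) = algebraMap R Q r := by
    intro r
    have h1 : (Ideal.Quotient.mk (Ideal.map (algebraMap R R') (Ideal.span {f ^ 1}))) (algebraMap R R' r) =
        e (Ideal.Quotient.mk _ r) := by
      simp [e, Ideal.quotientMap_mk]
    change Ideal.Quotient.lift _ (algebraMap R Q) hQ (e.symm _) = _
    rw [h1, RingEquiv.symm_apply_apply, Ideal.Quotient.lift_mk]
  let θ : R' →ₐ[R] Q := { θ₀ with commutes' := hθ }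
  let ψ : R' ⊗[R] A →ₐ[R] Q := Algebra.TensorProduct.lift θ (IsScalarTower.toAlgHom R A Q)
    (fun _ _ => Commute.all _ _)
  refine ⟨(⟨⊥, Ideal.isPrime_bot⟩ : PrimeSpectrum Q).comap ψ.toRingHom, ?_⟩
  have hψ : ∀ a : A, ψ ((1 : R') ⊗ₜ[R] a) = algebraMap A Q a := fun a => by
    change Algebra.TensorProduct.lift θ (IsScalarTower.toAlgHom R A Q) (fun _ _ => Commute.all _ _) _ = _
    rw [Algebra.TensorProduct.lift_tmul, map_one, one_mul]
    rfl
  apply PrimeSpectrum.ext
  ext a
  change ψ ((1 : R') ⊗ₜ[R] a) ∈ (⊥ : Ideal Q) ↔ _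
  rw [hψ, Ideal.mem_bot]
  exact Ideal.Quotient.eq_zero_iff_mem

theorem exists_away_map0 {A A₁ : Type u} [CommRing A] [CommRing A₁] (α : A →+* A₁) (x : A) :
    ∃ β : Localization.Away x →+* Localization.Away (α x),
      β.comp (algebraMap A (Localization.Away x)) = (algebraMap A₁ (Localization.Away (α x))).comp α := by
  refine ⟨IsLocalization.Away.map _ _ α x, ?_⟩
  exact IsLocalization.map_comp _

theorem exists_away_map {A A₁ : CommRingCat.{u}} (α : A ⟶ A₁) (x : A) :
    ∃ β : Localization.Away x →+* Localization.Away (α.hom x),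
      CommRingCat.ofHom (algebraMap A (Localization.Away x)) ≫ CommRingCat.ofHom β =
        α ≫ CommRingCat.ofHom (algebraMap A₁ (Localization.Away (α.hom x))) := by
  obtain ⟨β, hβ⟩ := exists_away_map0 α.hom x
  exact ⟨β, CommRingCat.hom_ext hβ⟩

/-- Sections étale locally. -/
theorem exists_etale_section (h : EtGlue.IsGlueingPair R R' f) {A : Type u} [CommRing A] [Algebra R A]
    (hA : EtGlue.IsGlueable R R' f A) {E : Scheme.{u}} (p : E ⟶ Spec (.of A)) [Mono p] [LocallyOfFiniteType p]
    (s' : Spec (.of (R' ⊗[R] A)) ⟶ E) (hs' : s' ≫ p = Spec.map (CommRingCat.ofHom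
      (Algebra.TensorProduct.includeRight : A →ₐ[R] R' ⊗[R] A).toRingHom))
    (sf : Spec (.of (Localization.Away (algebraMap R A f))) ⟶ E)
    (hsf : sf ≫ p = Spec.map (CommRingCat.ofHom (algebraMap A (Localization.Away (algebraMap R A f)))))
    (y : Spec (.of A)) :
    ∃ (U : Scheme.{u}) (g : U ⟶ Spec (.of A)) (_ : Etale g) (u : U) (σ : U ⟶ E), g u = y ∧ σ ≫ p = g := by
  by_cases hy : algebraMap R A f ∈ y.asIdeal
  swap
  · refine ⟨_, Spec.map (CommRingCat.ofHom (algebraMap A (Localization.Away (algebraMap R A f)))), ?_, ?_⟩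
    · have : IsOpenImmersion (Spec.map (CommRingCat.ofHom (algebraMap A
        (Localization.Away (algebraMap R A f))))) := IsOpenImmersion.of_isLocalization (algebraMap R A f)
      infer_instance
    · have h1 : y ∈ Set.range (PrimeSpectrum.comap (algebraMap A (Localization.Away (algebraMap R A f)))) := by
        rw [PrimeSpectrum.localization_away_comap_range _ (algebraMap R A f)]
        exact hy
      obtain ⟨u, hu⟩ := h1
      exact ⟨u, sf, hu, hsf⟩
  -- the point over `y`
  obtain ⟨y', hy'⟩ : ∃ y' : Spec (.of (R' ⊗[R] A)), (Spec.map (CommRingCat.ofHom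
      (Algebra.TensorProduct.includeRight : A →ₐ[R] R' ⊗[R] A).toRingHom)) y' = y := exists_point h.1 y hy
  have hx : p (s' y') = y := by
    rw [← Scheme.Hom.comp_apply, hs']
    exact hy'
  obtain ⟨U, g, hg, -, V, W, v, -, hfin, hv⟩ :=
    exists_etale_isCompl_of_quasiFiniteAt p (x := s' y') (s := y) hx (p.quasiFiniteAt _)
  have hcl : IsClosedImmersion (V.ι ≫ pullback.snd p g) :=
    (IsClosedImmersion.iff_isFinite_and_mono _).2 ⟨hfin, inferInstance⟩
  have hgu : g (pullback.snd p g v.1) = y := by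
    rw [← Scheme.Hom.comp_apply, ← pullback.condition, Scheme.Hom.comp_apply, hv, hx]
  -- affine neighbourhood
  obtain ⟨_, ⟨O, hO, rfl⟩, hO1, -⟩ := U.isBasis_affineOpens.exists_subset_of_mem_open
    (Set.mem_univ (pullback.snd p g v.1)) isOpen_univ
  have hO' : IsAffineOpen O := hO
  let A₁ := Γ(U, O)
  let i : Spec A₁ ⟶ U := hO'.fromSpec
  have hi : IsOpenImmersion i := inferInstanceAs (IsOpenImmersion hO'.fromSpec)
  obtain ⟨w, hw⟩ : ∃ w : Spec A₁, i w = pullback.snd p g v.1 := by
    have : pullback.snd p g v.1 ∈ Set.range i := by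
      rw [hO'.range_fromSpec]
      exact hO1
    exact this
  let α : CommRingCat.of A ⟶ A₁ := Spec.preimage (i ≫ g)
  have hα : Spec.map α = i ≫ g := Spec.map_preimage _
  let _ : Algebra A A₁ := α.hom.toAlgebra
  let _ : Algebra R A₁ := (α.hom.comp (algebraMap R A)).toAlgebra
  have htower : IsScalarTower R A A₁ := IsScalarTower.of_algebraMap_eq fun r => rfl
  have hflat : Module.Flat A A₁ := by
    have : Flat (Spec.map α) := by rw [hα]; infer_instance
    exact Flat.SpecMap_iff.1 this
  have hA₁ : EtGlue.IsGlueable R R' f A₁ := K641.Glueable.of_flat h hA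
  -- the closed subscheme of `Spec A₁`
  obtain ⟨I, e, he⟩ := IsClosedImmersion.Spec_iff.1
    (inferInstance : IsClosedImmersion (pullback.snd (V.ι ≫ pullback.snd p g) i))
  let k : Spec (.of (A₁ ⧸ I)) ⟶ V.toScheme := e.inv ≫ pullback.fst (V.ι ≫ pullback.snd p g) i
  have sq : IsPullback k (Spec.map (CommRingCat.ofHom (Ideal.Quotient.mk I))) (V.ι ≫ pullback.snd p g) i := by
    refine IsPullback.of_iso_pullback ⟨?_⟩ e.symm ?_ ?_
    · have : Spec.map (CommRingCat.ofHom (Ideal.Quotient.mk I)) =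
          e.inv ≫ pullback.snd (V.ι ≫ pullback.snd p g) i := by rw [he, e.inv_hom_id_assoc]
      rw [this, Category.assoc, Category.assoc, pullback.condition]
    · rfl
    · rw [he, Iso.symm_hom, e.inv_hom_id_assoc]
  -- the point `w` lies in it
  have hIw : I ≤ w.asIdeal := by
    let v' : V.toScheme := v
    have h1 : (V.ι ≫ pullback.snd p g) v' = i w := by
      rw [hw, Scheme.Hom.comp_apply]
      rfl
    obtain ⟨z, -, hz⟩ := Scheme.Pullback.exists_preimage_pullback v' w h1
    have h2 : w = (Spec.map (CommRingCat.ofHom (Ideal.Quotient.mk I))) (e.hom z) := by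
      rw [← Scheme.Hom.comp_apply, ← he, hz]
    rw [h2]
    intro a ha
    change Ideal.Quotient.mk I a ∈ (e.hom z).asIdeal
    rw [Ideal.Quotient.eq_zero_iff_mem.2 ha]
    exact zero_mem _
  have hfw : algebraMap R A₁ f ∈ w.asIdeal := by
    have h1 : (Spec.map α) w = y := by rw [hα, Scheme.Hom.comp_apply, hw, hgu]
    have h2 : y.asIdeal = w.asIdeal.comap α.hom := by rw [← h1]; rfl
    rw [h2] at hy
    exact hy
  -- idempotents
  have hidem' : ∃ e' : R' ⊗[R] A₁, IsIdempotentElem e' ∧
      I.map (Algebra.TensorProduct.includeRight : A₁ →ₐ[R] R' ⊗[R] A₁).toRingHom = Ideal.span {e'} := by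
    let β : R' ⊗[R] A →ₐ[R] R' ⊗[R] A₁ :=
      Algebra.TensorProduct.map (AlgHom.id R R') (IsScalarTower.toAlgHom R A A₁)
    have hβ : CommRingCat.ofHom (Algebra.TensorProduct.includeRight : A →ₐ[R] R' ⊗[R] A).toRingHom ≫
        CommRingCat.ofHom β.toRingHom = α ≫
        CommRingCat.ofHom (Algebra.TensorProduct.includeRight : A₁ →ₐ[R] R' ⊗[R] A₁).toRingHom := by
      apply CommRingCat.hom_ext
      ext a
      change β ((1 : R') ⊗ₜ[R] a) = (1 : R') ⊗ₜ[R] (algebraMap A A₁ a)
      rw [Algebra.TensorProduct.map_tmul, map_one]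
      rfl
    refine exists_idem_of_isPullback _ I sq
      (pullback.lift (Spec.map (CommRingCat.ofHom β.toRingHom) ≫ s')
        (Spec.map (CommRingCat.ofHom (Algebra.TensorProduct.includeRight : A₁ →ₐ[R] R' ⊗[R] A₁).toRingHom) ≫ i) ?_)
        (pullback.lift_snd _ _ _)
    rw [Category.assoc, hs', Category.assoc, ← hα, ← Spec.map_comp, ← Spec.map_comp, hβ]
  have hidem'' : ∃ e'' : Localization.Away (algebraMap R A₁ f), IsIdempotentElem e'' ∧
      I.map (algebraMap A₁ (Localization.Away (algebraMap R A₁ f))) = Ideal.span {e''} := by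
    obtain ⟨β, hβ⟩ : ∃ β : Localization.Away (algebraMap R A f) →+* Localization.Away (algebraMap R A₁ f),
        CommRingCat.ofHom (algebraMap A (Localization.Away (algebraMap R A f))) ≫
        CommRingCat.ofHom β = α ≫
        CommRingCat.ofHom (algebraMap A₁ (Localization.Away (algebraMap R A₁ f))) :=
      exists_away_map (A := .of A) α (algebraMap R A f)
    refine exists_idem_of_isPullback _ I sq
      (pullback.lift (Spec.map (CommRingCat.ofHom β) ≫ sf)
        (Spec.map (CommRingCat.ofHom (algebraMap A₁ (Localization.Away (algebraMap R A₁ f)))) ≫ i) ?_)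
        (pullback.lift_snd _ _ _)
    rw [Category.assoc, hsf, Category.assoc, ← hα, ← Spec.map_comp, ← Spec.map_comp, hβ]
  obtain ⟨e', he'1, he'2⟩ := hidem'
  obtain ⟨e'', he''1, he''2⟩ := hidem''
  obtain ⟨ε, hε, x, hx, c, hxc⟩ := K641.GlueIdem.exists_idem h hA₁ I e' he'1 he'2 e'' he''1 he''2
  have hεw : (1 - ε) ∉ w.asIdeal := by
    intro h1
    have h2 : ε ∈ w.asIdeal := by
      rw [hxc]
      exact w.asIdeal.add_mem (hIw hx) (w.asIdeal.mul_mem_right _ hfw)
    have h3 : (1 : A₁) ∈ w.asIdeal := by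
      have := w.asIdeal.add_mem h1 h2
      rwa [sub_add_cancel] at this
    exact w.isPrime.ne_top ((Ideal.eq_top_iff_one _).2 h3)
  -- the neighbourhood `D(1 - ε)`
  let M := Localization.Away (1 - ε)
  have hIM : ∀ a ∈ I, algebraMap A₁ M a = 0 := fun a ha => by
    apply (IsLocalization.Away.algebraMap_isUnit (S := M) (1 - ε)).mul_left_cancel
    rw [mul_zero, ← map_mul, hε a ha, map_zero]
  let γ : A₁ ⧸ I →+* M := Ideal.Quotient.lift I (algebraMap A₁ M) hIM
  have hγ : CommRingCat.ofHom (Ideal.Quotient.mk I) ≫ CommRingCat.ofHom γ = CommRingCat.ofHom (algebraMap A₁ M) := by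
    apply CommRingCat.hom_ext
    exact RingHom.ext fun a => rfl
  obtain ⟨w', hw'⟩ : ∃ w' : Spec (.of M), (Spec.map (CommRingCat.ofHom (algebraMap A₁ M))) w' = w := by
    have hw' : w ∈ Set.range (PrimeSpectrum.comap (algebraMap A₁ M)) := by
      rw [PrimeSpectrum.localization_away_comap_range _ (1 - ε)]
      exact hεw
    exact hw'
  have hopen : IsOpenImmersion (Spec.map (CommRingCat.ofHom (algebraMap A₁ M))) :=
    IsOpenImmersion.of_isLocalization (1 - ε)
  clear_value k
  refine ⟨Spec (.of M), Spec.map (CommRingCat.ofHom (algebraMap A₁ M)) ≫ i ≫ g, inferInstance, w',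
    Spec.map (CommRingCat.ofHom γ) ≫ k ≫ V.ι ≫ pullback.fst p g, ?_, ?_⟩
  · rw [Scheme.Hom.comp_apply, Scheme.Hom.comp_apply, hw', hw, hgu]
  · have h1 : k ≫ V.ι ≫ pullback.snd p g = Spec.map (CommRingCat.ofHom (Ideal.Quotient.mk I)) ≫ i := sq.w
    have h2 : pullback.fst p g ≫ p = pullback.snd p g ≫ g := pullback.condition
    simp only [Category.assoc]
    rw [h2, reassoc_of% h1, ← hγ, Spec.map_comp, Category.assoc]

end K641.GlueLocal
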