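import Groth.Agent.AlgSp.K641.ColimSch
import Groth.Agent.AlgSp.K635.Glue

/-!
# Cartesian squares of sheaves are etale local
-/

set_option autoImplicit false
universe u

open CategoryTheory CategoryTheory.Limits AlgebraicGeometry

namespace K641.LocPb

open AlgSp

variable {S : Scheme.{u}}

/-- The pullback of a jointly surjective family of etale charts to a scheme. -/
theorem exists_cover {Z : Sp S} {ι : Type u} {T : ι → Over S} {c : ∀ i, (yon S).obj (T i) ⟶ Z}
    (hc : ∀ i, RepWith @Etale (c i)) (hs : ∀ z : Points Z, ∃ (i : ι) (t : (T i).left), Points.ofPt (c i) t = z)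
    {T₀ : Over S} (x : (yon S).obj T₀ ⟶ Z) :
    ∃ (W : ι → Over S) (w : ∀ i, W i ⟶ T₀) (k : ∀ i, W i ⟶ T i), (∀ i, Etale (w i).left) ∧
      (∀ t : T₀.left, ∃ (i : ι) (r : (W i).left), (w i).left r = t) ∧
      ∀ i, IsPullback ((yon S).map (k i)) ((yon S).map (w i)) (c i) x := by
  have h1 : ∀ i, ∃ (W : Over S) (w : W ⟶ T₀) (k : W ⟶ T i), Etale w.left ∧
      IsPullback ((yon S).map k) ((yon S).map w) (c i) x := by
    intro i
    obtain ⟨W, w, k, sq⟩ := (hc i).1 x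
    obtain ⟨k, rfl⟩ := (yon S).map_surjective k
    exact ⟨W, w, k, (hc i).2 _ _ _ sq, sq⟩
  choose W w k h2 h3 using h1
  refine ⟨W, w, k, h2, fun t => ?_, h3⟩
  obtain ⟨i, t', ht'⟩ := hs (Points.ofPt x t)
  obtain ⟨r, -, hr⟩ := (K609.Points.ofPt_eq_ofPt_iff (h3 i) t' t).1 ht'
  exact ⟨i, r, hr⟩

/-- Cartesian squares of sheaves are etale local. -/
theorem isPullback_of_charts {P Z X B : Sp S} {a : P ⟶ Z} {c : P ⟶ X} {v : Z ⟶ B} {g : X ⟶ B} (w : a ≫ v = c ≫ g)
    {ι : Type u} {T : ι → Over S} {b : ∀ i, (yon S).obj (T i) ⟶ Z}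
    (hb : ∀ i, RepWith @Etale (b i)) (hs : ∀ z : Points Z, ∃ (i : ι) (t : (T i).left), Points.ofPt (b i) t = z)
    {Q : ι → Over S} {p : ∀ i, (yon S).obj (Q i) ⟶ P} {q : ∀ i, Q i ⟶ T i}
    (h₁ : ∀ i, IsPullback (p i) ((yon S).map (q i)) a (b i))
    (h₂ : ∀ i, IsPullback ((yon S).map (q i)) (p i ≫ c) (b i ≫ v) g) : IsPullback a c v g := by
  have huniq : ∀ (i : ι) (W : Over S) (k : W ⟶ T i) (z z' : (yon S).obj W ⟶ P),
      z ≫ a = (yon S).map k ≫ b i → z ≫ a = z' ≫ a → z ≫ c = z' ≫ c → z = z' := by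
    intro i W k z z' hz ha hc
    have e1 := (h₁ i).lift_fst _ _ hz
    have e2 := (h₁ i).lift_snd _ _ hz
    have e3 := (h₁ i).lift_fst _ _ (ha.symm.trans hz)
    have e4 := (h₁ i).lift_snd _ _ (ha.symm.trans hz)
    have e5 : (h₁ i).lift _ _ hz = (h₁ i).lift _ _ (ha.symm.trans hz) := by
      apply (h₂ i).hom_ext
      · rw [e2, e4]
      · rw [← Category.assoc, ← Category.assoc, e1, e3, hc]
    rw [← e1, ← e3, e5]
  refine K613.Basic.isPullback_of_yon w fun T₀ x y hxy => ?_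
  obtain ⟨W, wi, k, hw, hws, hk⟩ := exists_cover hb hs x
  have hex : ∀ i, ∃ z : (yon S).obj (W i) ⟶ P, z ≫ a = (yon S).map (wi i) ≫ x ∧ z ≫ c = (yon S).map (wi i) ≫ y := by
    intro i
    have e0 : (yon S).map (k i) ≫ b i ≫ v = ((yon S).map (wi i) ≫ y) ≫ g := by
      rw [← Category.assoc, (hk i).w, Category.assoc, hxy, Category.assoc]
    refine ⟨(h₂ i).lift _ _ e0 ≫ p i, ?_, ?_⟩
    · rw [Category.assoc, (h₁ i).w, ← Category.assoc, (h₂ i).lift_fst, (hk i).w]
    · rw [Category.assoc, (h₂ i).lift_snd]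
  choose z hz1 hz2 using hex
  obtain ⟨ψ, hψ, -⟩ := K613.Basic.glueFam (F := P) W wi (fun i => have := hw i; inferInstance)
    (fun i => have := hw i; inferInstance) hws z (fun i j R r₁ r₂ hr => by
      refine huniq i R (r₁ ≫ k i) _ _ ?_ ?_ ?_
      · rw [Category.assoc, hz1, ← (hk i).w, ← Category.assoc, ← Functor.map_comp]
      · rw [Category.assoc, Category.assoc, hz1, hz1, ← Category.assoc, ← Category.assoc, ← Functor.map_comp,
          ← Functor.map_comp, hr]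
      · rw [Category.assoc, Category.assoc, hz2, hz2, ← Category.assoc, ← Category.assoc, ← Functor.map_comp,
          ← Functor.map_comp, hr])
  have h3 : ψ ≫ a = x := K641.ColimSch.hom_ext_cover wi hw hws fun i => by
    rw [← Category.assoc, hψ, hz1]
  have h4 : ψ ≫ c = y := K641.ColimSch.hom_ext_cover wi hw hws fun i => by
    rw [← Category.assoc, hψ, hz2]
  refine ⟨ψ, ⟨h3, h4⟩, ?_⟩
  rintro ψ' ⟨h5, h6⟩
  refine K641.ColimSch.hom_ext_cover wi hw hws fun i => ?_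
  refine huniq i _ (k i) _ _ ?_ ?_ ?_
  · rw [Category.assoc, h5, (hk i).w]
  · rw [Category.assoc, Category.assoc, h5, h3]
  · rw [Category.assoc, Category.assoc, h6, h4]

end K641.LocPb
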