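import Groth.Agent.AlgSp.K641.MilIff

/-!
# Flat base change of pushouts along thickenings
-/

set_option autoImplicit false
universe u

open CategoryTheory CategoryTheory.Limits AlgebraicGeometry

namespace K641.MilSpace

open AlgSp K641.MilSp

variable {S : Scheme.{u}}

theorem etLoc_inf {P Q : MorphismProperty Scheme.{u}} (hP : K597.EtLoc P) (hQ : K597.EtLoc Q) :
    K597.EtLoc (P ⊓ Q) where
  precomp _ _ _ e f he h := ⟨hP.precomp e f he h.1, hQ.precomp e f he h.2⟩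
  postcomp _ _ _ f e he h := ⟨hP.postcomp f e he h.1, hQ.postcomp f e he h.2⟩
  cancel _ _ _ f e he h := ⟨hP.cancel f e he h.1, hQ.cancel f e he h.2⟩
  descend' _ _ f h := ⟨hP.descend' f fun b => by
      obtain ⟨A, e, h1, h2, h3⟩ := h b
      exact ⟨A, e, h1, h2, h3.1⟩, hQ.descend' f fun b => by
      obtain ⟨A, e, h1, h2, h3⟩ := h b
      exact ⟨A, e, h1, h2, h3.2⟩⟩

theorem etLoc_flat_lfp : K597.EtLoc (@Flat ⊓ @LocallyOfFinitePresentation : MorphismProperty Scheme.{u}) :=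
  etLoc_inf K597.etLoc_flat K597.etLoc_lfp

theorem isPushout_of_flat {X X' Y Y' W' WY WX' WX : Space S}
    (t : X ⟶ X') (ht : IsThickMor t.hom) (f : X ⟶ Y) (hf : IsAffineMor f.hom) (f' : X' ⟶ Y')
    (t' : Y ⟶ Y') (hY' : IsPushout t f f' t') (w : W' ⟶ Y') (hw : LocP @Flat w.hom) (aY : WY ⟶ W')
    (bY : WY ⟶ Y) (hWY : IsPullback aY.hom bY.hom w.hom t'.hom) (aX' : WX' ⟶ W') (bX' : WX' ⟶ X')
    (hWX' : IsPullback aX'.hom bX'.hom w.hom f'.hom) (cY : WX ⟶ WY) (cX' : WX ⟶ WX') (bX : WX ⟶ X)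
    (hWX₁ : IsPullback cY.hom bX.hom bY.hom f.hom) (hWX₂ : IsPullback cX'.hom bX.hom bX'.hom t.hom)
    (hcomm : cY ≫ aY = cX' ≫ aX') (hL : LiftEt t.hom) :
    IsPushout cY cX' aY aX' := by
  obtain ⟨h1, h2, h3⟩ := mil_of_isPushout ht hf hL hY'
  have hM : Mil aX'.hom aY.hom := h2.bc Y'.property W'.property hw hWX' hWY
  have hth : RepWith thick aY.hom := (RepWith thick).of_isPullback hWY.flip h3
  have hcomm' : cY.hom ≫ aY.hom = cX'.hom ≫ aX'.hom := congrArg (fun q => q.hom) hcomm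
  have e1 : cX'.hom ≫ aX'.hom = cY.hom ≫ aY.hom := hcomm'.symm
  have sq : IsPullback cX'.hom cY.hom aX'.hom aY.hom := by
    refine (IsPullback.of_right (h₁₂ := bY.hom) (h₂₂ := w.hom) (v₁₃ := t'.hom) ?_ hcomm' hWY.flip).flip
    have e2 := hWX₂.flip.paste_horiz h1.flip
    rw [hWX₁.w, hWX'.w]
    exact e2
  exact (K641.MilMain.isPushout sq hM hth).flip

end K641.MilSpace
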