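import Groth.Agent.AlgSp.K641.MilRing
import Mathlib.AlgebraicGeometry.Morphisms.Flat

/-!
# Milnor squares in `CommRingCat`
-/

set_option autoImplicit false
universe u

open CategoryTheory CategoryTheory.Limits TensorProduct

namespace K641.MilCat

open Groth.Agent K641.MilRing
open Groth.Agent.Pi1C.MilnorEt (IsMilnor)

variable {B' B A' A D' D C' C : CommRingCat.{u}}

/-- Kernel of a base change of a surjection. -/
theorem ker_of_isPushout {d : B' ⟶ D'} {p : B' ⟶ B} {p' : D' ⟶ D} {t : B ⟶ D} (hp : Function.Surjective p.hom)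
    (sq : IsPushout d p p' t) (x : D') (hx : p'.hom x = 0) : x ∈ Ideal.map d.hom (RingHom.ker p.hom) := by
  let J : Ideal D' := Ideal.map d.hom (RingHom.ker p.hom)
  let u : D' ⟶ CommRingCat.of (D' ⧸ J) := CommRingCat.ofHom (Ideal.Quotient.mk J)
  have hker : RingHom.ker p.hom ≤ RingHom.ker (u.hom.comp d.hom) := fun b hb => by
    rw [RingHom.mem_ker]
    exact Ideal.Quotient.eq_zero_iff_mem.2 (Ideal.mem_map_of_mem _ hb)
  let v : B ⟶ CommRingCat.of (D' ⧸ J) := CommRingCat.ofHom (RingHom.liftOfSurjective p.hom hp ⟨u.hom.comp d.hom, hker⟩)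
  have hv : d ≫ u = p ≫ v := by
    apply CommRingCat.hom_ext
    refine RingHom.ext fun b => ?_
    exact (RingHom.liftOfRightInverse_comp_apply p.hom (Function.surjInv hp) (Function.rightInverse_surjInv hp)
      ⟨u.hom.comp d.hom, hker⟩ b).symm
  have h1 := sq.inl_desc u v hv
  have h2 : u.hom x = 0 := by
    rw [← h1, CommRingCat.hom_comp, RingHom.comp_apply, hx, map_zero]
  exact Ideal.Quotient.eq_zero_iff_mem.1 h2

theorem surjective_of_isPushout {d : B' ⟶ D'} {p : B' ⟶ B} {p' : D' ⟶ D} {t : B ⟶ D} (hp : Function.Surjective p.hom)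
    (sq : IsPushout d p p' t) : Function.Surjective p'.hom := by
  have h := CommRingCat.closure_range_union_range_eq_top_of_isPushout sq
  have h1 : Subring.closure (Set.range p' ∪ Set.range t) ≤ p'.hom.range := by
    rw [Subring.closure_le]
    rintro _ (⟨x, rfl⟩ | ⟨x, rfl⟩)
    · exact ⟨x, rfl⟩
    · obtain ⟨b, rfl⟩ := hp x
      refine ⟨d.hom b, ?_⟩
      exact congrArg (fun q => q.hom b) sq.w
  intro x
  have : x ∈ p'.hom.range := h1 (by rw [h]; trivial)
  exact this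

/-- The Milnor square of an `RMil` cospan of spectra. -/
theorem RMil.isMilnor {p : B' ⟶ B} {q : B' ⟶ A'} {r : B ⟶ A} {s : A' ⟶ A} (hp : Function.Surjective p.hom)
    (h : RMil p.hom q.hom) (sq : IsPushout p q r s) : IsMilnor p q r s where
  w := sq.w
  surj := surjective_of_isPushout hp sq.flip
  lift b a hab := by
    obtain ⟨b', rfl⟩ := hp b
    have h1 : s.hom (a - q.hom b') = 0 := by
      rw [map_sub, sub_eq_zero, ← hab]
      exact congrArg (fun q => q.hom b') sq.w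
    have h2 := ker_of_isPushout hp sq.flip _ h1
    have h3 : ∀ c ∈ Ideal.map q.hom (RingHom.ker p.hom), ∃ y, p.hom y = 0 ∧ q.hom y = c := by
      intro c hc
      refine Submodule.span_induction ?_ ?_ ?_ ?_ hc
      · rintro _ ⟨y, hy, rfl⟩
        exact ⟨y, hy, rfl⟩
      · exact ⟨0, map_zero _, map_zero _⟩
      · rintro _ _ _ _ ⟨y, hy, rfl⟩ ⟨z, hz, rfl⟩
        exact ⟨y + z, by rw [map_add, hy, hz, add_zero], map_add _ _ _⟩
      · rintro e _ _ ⟨y, hy, rfl⟩
        obtain ⟨z, hz, hz'⟩ := h.ideal y hy e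
        exact ⟨z, hz, by rw [hz', smul_eq_mul, mul_comm]⟩
    obtain ⟨y, hy, hy'⟩ := h3 _ h2
    exact ⟨b' + y, by rw [map_add, hy, add_zero], by rw [map_add, hy']; abel⟩
  ext x y hx hy := by
    rw [← sub_eq_zero]
    exact h.inj _ (by rw [map_sub, hx, sub_self]) (by rw [map_sub, hy, sub_self])

theorem surjective_of_isMilnor {p : B' ⟶ B} {q : B' ⟶ A'} {r : B ⟶ A} {s : A' ⟶ A} (h : IsMilnor p q r s) :
    Function.Surjective p.hom := fun b => by
  obtain ⟨a, ha⟩ := h.surj (r.hom b)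
  obtain ⟨x, hx, -⟩ := h.lift b a ha.symm
  exact ⟨x, hx⟩

theorem rmil_of_isMilnor {p : B' ⟶ B} {q : B' ⟶ A'} {r : B ⟶ A} {s : A' ⟶ A} (h : IsMilnor p q r s) :
    RMil p.hom q.hom where
  inj x hx hx' := h.ext _ _ (by rw [hx, map_zero]) (by rw [hx', map_zero])
  ideal x hx a := by
    have h1 : r.hom 0 = s.hom (q.hom x * a) := by
      have h2 : s.hom (q.hom x) = r.hom (p.hom x) := (congrArg (fun q => q.hom x) h.w).symm
      rw [map_mul, h2, hx, map_zero, zero_mul]
    obtain ⟨y, hy, hy'⟩ := h.lift 0 _ h1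
    exact ⟨y, hy, hy'⟩

theorem isPushout_of_isMilnor {p : B' ⟶ B} {q : B' ⟶ A'} {r : B ⟶ A} {s : A' ⟶ A} (h : IsMilnor p q r s) :
    IsPushout p q r s := by
  have hp := surjective_of_isMilnor h
  have hs : ∀ c : PushoutCocone p q, RingHom.ker s.hom ≤ RingHom.ker c.inr.hom := by
    intro c a ha
    obtain ⟨y, hy, hy'⟩ := h.lift 0 a (by rw [map_zero]; exact ha.symm)
    rw [RingHom.mem_ker, ← hy']
    have h2 : c.inr.hom (q.hom y) = c.inl.hom (p.hom y) := (congrArg (fun q => q.hom y) c.condition).symm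
    rw [h2, hy, map_zero]
  have hfac : ∀ (c : PushoutCocone p q) (a : A'),
      (RingHom.liftOfSurjective s.hom h.surj ⟨c.inr.hom, hs c⟩) (s.hom a) = c.inr.hom a := fun c a =>
    RingHom.liftOfRightInverse_comp_apply s.hom (Function.surjInv h.surj) (Function.rightInverse_surjInv h.surj)
      ⟨c.inr.hom, hs c⟩ a
  refine ⟨⟨h.w⟩, ⟨PushoutCocone.IsColimit.mk _ (fun c => CommRingCat.ofHom
    (RingHom.liftOfSurjective s.hom h.surj ⟨c.inr.hom, hs c⟩)) ?_ ?_ ?_⟩⟩
  · intro c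
    apply CommRingCat.hom_ext
    refine RingHom.ext fun b => ?_
    obtain ⟨b', rfl⟩ := hp b
    have h2 : r.hom (p.hom b') = s.hom (q.hom b') := congrArg (fun q => q.hom b') h.w
    change (RingHom.liftOfSurjective s.hom h.surj ⟨c.inr.hom, hs c⟩) (r.hom (p.hom b')) = _
    rw [h2, hfac]
    exact (congrArg (fun q => q.hom b') c.condition).symm
  · intro c
    apply CommRingCat.hom_ext
    exact RingHom.ext fun a => hfac c a
  · intro c m _ hm
    apply CommRingCat.hom_ext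
    refine RingHom.ext fun a => ?_
    obtain ⟨a', rfl⟩ := h.surj a
    change m.hom (s.hom a') = (RingHom.liftOfSurjective s.hom h.surj ⟨c.inr.hom, hs c⟩) (s.hom a')
    rw [hfac]
    exact congrArg (fun q => q.hom a') hm

/-- Flat base change. -/
theorem rmil_of_flat {p : B' ⟶ B} {q : B' ⟶ A'} (hp : Function.Surjective p.hom) (h : RMil p.hom q.hom)
    {d : B' ⟶ D'} (hd : d.hom.Flat) {p' : D' ⟶ D} {t : B ⟶ D} (h₁ : IsPushout d p p' t)
    {q' : D' ⟶ C'} {c : A' ⟶ C'} (h₂ : IsPushout d q q' c) : RMil p'.hom q'.hom := by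
  algebraize [p.hom, q.hom, d.hom, p'.hom, q'.hom, c.hom, q'.hom.comp d.hom]
  have h3 : q'.hom.comp d.hom = c.hom.comp q.hom := congrArg (fun q => q.hom) h₂.w
  have : IsScalarTower B' A' C' := .of_algebraMap_eq' h3
  have : Algebra.IsPushout B' D' A' C' := CommRingCat.isPushout_iff_isPushout.1 h₂
  have : Module.Flat B' D' := hd
  refine flat_aux (B' := B') (B := B) (A' := A') (D' := D') (D := D) (C' := C')
    (fun x hx => ker_of_isPushout hp h₁ x hx) (fun b hb => ?_) h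
  have h4 : p'.hom (d.hom b) = t.hom (p.hom b) := congrArg (fun q => q.hom b) h₁.w
  change p'.hom (d.hom b) = 0
  rw [h4]
  change t.hom (algebraMap B' B b) = 0
  rw [hb, map_zero]

/-- Flat descent. -/
theorem rmil_of_cover {p : B' ⟶ B} {q : B' ⟶ A'} (hp : Function.Surjective p.hom) {ι : Type*}
    {D' D C' : ι → CommRingCat.{u}} {d : ∀ i, B' ⟶ D' i} (hd : ∀ i, (d i).hom.Flat)
    (hcov : ∀ x : PrimeSpectrum B', ∃ (i : ι) (y : PrimeSpectrum (D' i)), y.comap (d i).hom = x)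
    {p' : ∀ i, D' i ⟶ D i} {t : ∀ i, B ⟶ D i} (h₁ : ∀ i, IsPushout (d i) p (p' i) (t i))
    {q' : ∀ i, D' i ⟶ C' i} {c : ∀ i, A' ⟶ C' i} (h₂ : ∀ i, IsPushout (d i) q (q' i) (c i))
    (h : ∀ i, RMil (p' i).hom (q' i).hom) : RMil p.hom q.hom := by
  algebraize [p.hom, q.hom]
  let _ : ∀ i, Algebra B' (D' i) := fun i => (d i).hom.toAlgebra
  let _ : ∀ i, Algebra (D' i) (D i) := fun i => (p' i).hom.toAlgebra
  let _ : ∀ i, Algebra (D' i) (C' i) := fun i => (q' i).hom.toAlgebra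
  let _ : ∀ i, Algebra A' (C' i) := fun i => (c i).hom.toAlgebra
  let _ : ∀ i, Algebra B' (C' i) := fun i => ((q' i).hom.comp (d i).hom).toAlgebra
  have h3 : ∀ i, (q' i).hom.comp (d i).hom = (c i).hom.comp q.hom := fun i => congrArg (fun q => q.hom) (h₂ i).w
  have : ∀ i, IsScalarTower B' A' (C' i) := fun i => .of_algebraMap_eq' (h3 i)
  have : ∀ i, IsScalarTower B' (D' i) (C' i) := fun i => .of_algebraMap_eq' rfl
  have : ∀ i, Algebra.IsPushout B' (D' i) A' (C' i) := fun i => CommRingCat.isPushout_iff_isPushout.1 (h₂ i)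
  have : ∀ i, Module.Flat B' (D' i) := fun i => hd i
  refine desc_aux (B' := B') (B := B) (A' := A') (fun i => D' i) (fun i => D i) (fun i => C' i) hcov
    (fun i x hx => ker_of_isPushout hp (h₁ i) x hx) (fun i b hb => ?_) h
  have h4 : (p' i).hom ((d i).hom b) = (t i).hom (p.hom b) := congrArg (fun q => q.hom b) (h₁ i).w
  change (p' i).hom ((d i).hom b) = 0
  rw [h4]
  change (t i).hom (algebraMap B' B b) = 0
  rw [hb, map_zero]

section pair

variable {p : B' ⟶ B} {q : B' ⟶ A'} {r : B ⟶ A} {s : A' ⟶ A} {p₂ : D' ⟶ D} {q₂ : D' ⟶ C'} {r₂ : D ⟶ C}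
  {s₂ : C' ⟶ C} {d : B' ⟶ D'} {t : B ⟶ D} {c : A' ⟶ C'} {e : A ⟶ C}

/-- The faces of the cube of Milnor squares are cocartesian. -/
theorem isPushout_faces (h : IsMilnor p q r s) (h₂ : IsMilnor p₂ q₂ r₂ s₂)
    (hp : p ≫ t = d ≫ p₂) (hq : q ≫ c = d ≫ q₂) (hr : IsPushout r t e r₂)
    (hs : IsPushout s c e s₂) : IsPushout p d t p₂ ∧ IsPushout q d c q₂ := by
  algebraize [p.hom, q.hom, r.hom, s.hom, p₂.hom, q₂.hom, r₂.hom, s₂.hom, d.hom, t.hom, c.hom, e.hom,
    r.hom.comp p.hom, r₂.hom.comp p₂.hom, t.hom.comp p.hom, c.hom.comp q.hom, e.hom.comp r.hom, e.hom.comp s.hom,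
    e.hom.comp (r.hom.comp p.hom)]
  have e1 : r.hom.comp p.hom = s.hom.comp q.hom := congrArg (fun q => q.hom) h.w
  have e2 : r₂.hom.comp p₂.hom = s₂.hom.comp q₂.hom := congrArg (fun q => q.hom) h₂.w
  have e3 : t.hom.comp p.hom = p₂.hom.comp d.hom := congrArg (fun q => q.hom) hp
  have e4 : c.hom.comp q.hom = q₂.hom.comp d.hom := congrArg (fun q => q.hom) hq
  have e5 : e.hom.comp r.hom = r₂.hom.comp t.hom := congrArg (fun q => q.hom) hr.w
  have e6 : e.hom.comp s.hom = s₂.hom.comp c.hom := congrArg (fun q => q.hom) hs.w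
  have : IsScalarTower B' A' A := .of_algebraMap_eq' e1
  have : IsScalarTower D' C' C := .of_algebraMap_eq' e2
  have : IsScalarTower B' D' D := .of_algebraMap_eq' e3
  have : IsScalarTower B' D' C' := .of_algebraMap_eq' e4
  have : IsScalarTower B D C := .of_algebraMap_eq' e5
  have : IsScalarTower A' C' C := .of_algebraMap_eq' e6
  have hsq : EtMil.IsFibreSquare B' B A' A := ⟨h.surj, fun b a hba => by
    obtain ⟨x, hx, hx'⟩ := h.lift b a hba
    exact ⟨x, ⟨hx, hx'⟩, fun y hy => h.ext _ _ (hy.1.trans hx.symm) (hy.2.trans hx'.symm)⟩⟩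
  have hsq₂ : EtMil.IsFibreSquare D' D C' C := ⟨h₂.surj, fun b a hba => by
    obtain ⟨x, hx, hx'⟩ := h₂.lift b a hba
    exact ⟨x, ⟨hx, hx'⟩, fun y hy => h₂.ext _ _ (hy.1.trans hx.symm) (hy.2.trans hx'.symm)⟩⟩
  have : Algebra.IsPushout B A D C := CommRingCat.isPushout_iff_isPushout.1 hr
  have : Algebra.IsPushout A' A C' C := CommRingCat.isPushout_iff_isPushout.1 hs
  have r1 := Groth.Agent.Pi1C.MilnorEt.isPushout_left B' B A' A D' D C' C hsq hsq₂
  have r2 := Groth.Agent.Pi1C.MilnorEt.isPushout_right B' B A' A D' D C' C hsq hsq₂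
  exact ⟨CommRingCat.isPushout_iff_isPushout.2 r1, CommRingCat.isPushout_iff_isPushout.2 r2⟩

end pair

end K641.MilCat
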