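import Groth.Agent.AlgSp.K641.MilSp

/-!
# Milnor cospans are detected on affine etale charts
-/

set_option autoImplicit false
universe u

open CategoryTheory CategoryTheory.Limits AlgebraicGeometry

namespace K641.MilCharts

open AlgSp K641.MilRing K641.MilLoc K641.MilSp K635.Glue

variable {S : Scheme.{u}}

/-- A Milnor chart through a point. -/
def HasMilChart {X' Y Y' : Sp S} (f' : X' ⟶ Y') (t' : Y ⟶ Y') (z : Points Y') : Prop :=
  ∃ (V VY VX' : Over S) (c : (yon S).obj V ⟶ Y') (gY : (yon S).obj VY ⟶ Y) (tY : VY ⟶ V)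
    (gX' : (yon S).obj VX' ⟶ X') (tX' : VX' ⟶ V) (v : V.left), IsAffine V.left ∧ RepWith @Etale c ∧
    IsPullback gY ((yon S).map tY) t' c ∧ IsPullback gX' ((yon S).map tX') f' c ∧
    RMil tY.left.appTop.hom tX'.left.appTop.hom ∧ Points.ofPt c v = z

theorem mil_of_charts {X' Y Y' : Sp S} {f' : X' ⟶ Y'} {t' : Y ⟶ Y'} (hc : RepWith @IsClosedImmersion t')
    (ha : RepWith @IsAffineHom f') (H : ∀ z : Points Y', HasMilChart f' t' z) : Mil f' t' where
  closed := hc
  affine := ha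
  mil := by
    intro T TY TX' g gY tY gX' tX' hT hg sqY sqX'
    have hloc : ∀ x : T.left, ∃ (T₁ TY₁ TX₁' : Over S) (u : T₁ ⟶ T) (wY : TY₁ ⟶ TY) (uY : TY₁ ⟶ T₁)
        (wX' : TX₁' ⟶ TX') (uX' : TX₁' ⟶ T₁), IsAffine T₁.left ∧ Etale u.left ∧ (∃ r, u.left r = x) ∧
        IsPullback wY uY tY u ∧ IsPullback wX' uX' tX' u ∧ RMil uY.left.appTop.hom uX'.left.appTop.hom := by
      intro x
      obtain ⟨V, VY, VX', c, gVY, tVY, gVX', tVX', v, hV, hce, sqVY, sqVX', hR, hv⟩ := H (Points.ofPt g x)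
      obtain ⟨P, s, fst, sqP⟩ := hce.1 g
      obtain ⟨p, rfl⟩ := (yon S).map_surjective fst
      have hs : Etale s.left := hce.2 _ _ _ sqP
      have hp : Flat p.left := hg.2 _ _ _ sqP.flip
      obtain ⟨r, hr1, hr2⟩ := (K609.Points.ofPt_eq_ofPt_iff sqP v x).1 hv
      obtain ⟨O, hO, hrO, -⟩ := exists_affine_nhd r ⊤ trivial
      let T₁ := opn P O
      let u : T₁ ⟶ T := opnι P O ≫ s
      let q : T₁ ⟶ V := opnι P O ≫ p
      have hu : Etale u.left := by
        change Etale (O.ι ≫ s.left)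
        infer_instance
      have hq : Flat q.left := by
        change Flat (O.ι ≫ p.left)
        infer_instance
      have e1 : (yon S).map u ≫ g = (yon S).map q ≫ c := by
        rw [Functor.map_comp, Functor.map_comp, Category.assoc, Category.assoc, sqP.w]
      obtain ⟨TY₁, uY, hY₁, sqY₁⟩ := hc.1 ((yon S).map u ≫ g)
      obtain ⟨TX₁', uX', hX₁, sqX₁'⟩ := ha.1 ((yon S).map u ≫ g)
      obtain ⟨wY, hwY, -⟩ := exists_bc sqY u sqY₁
      obtain ⟨wX', hwX', -⟩ := exists_bc sqX' u sqX₁'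
      have sqY₂ := sqY₁
      have sqX₂' := sqX₁'
      rw [e1] at sqY₂ sqX₂'
      obtain ⟨zY, hzY, -⟩ := exists_bc sqVY q sqY₂
      obtain ⟨zX', hzX', -⟩ := exists_bc sqVX' q sqX₂'
      have hT₁ : IsAffine T₁.left := hO
      refine ⟨T₁, TY₁, TX₁', u, wY, uY, wX', uX', hT₁, hu, ⟨⟨r, hrO⟩, ?_⟩, hwY, hwX', ?_⟩
      · exact hr2
      · have h1 : IsClosedImmersion tVY.left := hc.2 _ _ _ sqVY
        have h2 : IsAffineHom tVX'.left := ha.2 _ _ _ sqVX'
        have s1 : IsPullback zY.left uY.left tVY.left q.left := hzY.map (Over.forget S)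
        have s2 : IsPullback zX'.left uX'.left tVX'.left q.left := hzX'.map (Over.forget S)
        exact K641.MilSch.rmil_of_flat hR s1 s2
    choose T₁ TY₁ TX₁' u wY uY wX' uX' h1 h2 h3 h4 h5 h6 using hloc
    have c1 : IsClosedImmersion tY.left := hc.2 _ _ _ sqY
    have c2 : IsAffineHom tX'.left := ha.2 _ _ _ sqX'
    have s1 : ∀ x, IsPullback (wY x).left (uY x).left tY.left (u x).left := fun x => (h4 x).map (Over.forget S)
    have s2 : ∀ x, IsPullback (wX' x).left (uX' x).left tX'.left (u x).left := fun x => (h5 x).map (Over.forget S)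
    exact K641.MilSch.rmil_of_cover (fun x => by have := h2 x; infer_instance) (fun x => ⟨x, h3 x⟩) s1 s2 h6

end K641.MilCharts
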