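import Groth.Agent.AlgSp.K641.MilCat
import Groth.Agent.S6900

/-!
# Properties of algebras glued along a Milnor square, in `CommRingCat`
-/

set_option autoImplicit false
universe u

open CategoryTheory CategoryTheory.Limits TensorProduct

namespace K641.MilProp

open Groth.Agent K641.MilRing K641.MilCat
open Groth.Agent.Pi1C.MilnorEt (IsMilnor)

variable {B' B A' A D' D C' C : CommRingCat.{u}} {p : B' ⟶ B} {q : B' ⟶ A'} {r : B ⟶ A} {s : A' ⟶ A} {p₂ : D' ⟶ D}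
  {q₂ : D' ⟶ C'} {r₂ : D ⟶ C} {s₂ : C' ⟶ C} {d : B' ⟶ D'} {t : B ⟶ D} {c : A' ⟶ C'} {e : A ⟶ C}

theorem props (h : IsMilnor p q r s) (h₂ : IsMilnor p₂ q₂ r₂ s₂)
    (hp : p ≫ t = d ≫ p₂) (hq : q ≫ c = d ≫ q₂) (hr : IsPushout r t e r₂)
    (hs : IsPushout s c e s₂) :
    (d.hom.FiniteType ↔ t.hom.FiniteType ∧ c.hom.FiniteType) ∧
    (d.hom.Flat ↔ t.hom.Flat ∧ c.hom.Flat) ∧
    (d.hom.Flat ∧ d.hom.FinitePresentation ↔
      (t.hom.Flat ∧ t.hom.FinitePresentation) ∧ (c.hom.Flat ∧ c.hom.FinitePresentation)) ∧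
    (d.hom.Smooth ↔ t.hom.Smooth ∧ c.hom.Smooth) ∧
    (d.hom.Etale ↔ t.hom.Etale ∧ c.hom.Etale) := by
  algebraize [p.hom, q.hom, r.hom, s.hom, p₂.hom, q₂.hom, r₂.hom, s₂.hom, d.hom, t.hom, c.hom, e.hom,
    r.hom.comp p.hom, r₂.hom.comp p₂.hom, t.hom.comp p.hom, c.hom.comp q.hom, e.hom.comp r.hom, e.hom.comp s.hom]
  have e1 : r.hom.comp p.hom = s.hom.comp q.hom := congrArg (fun q => q.hom) h.w
  have e2 : r₂.hom.comp p₂.hom = s₂.hom.comp q₂.hom := congrArg (fun q => q.hom) h₂.w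
  have e3 : t.hom.comp p.hom = p₂.hom.comp d.hom := congrArg (fun q => q.hom) hp
  have e4 : c.hom.comp q.hom = q₂.hom.comp d.hom := congrArg (fun q => q.hom) hq
  have e5 : e.hom.comp r.hom = r₂.hom.comp t.hom := congrArg (fun q => q.hom) hr.w
  have e6 : e.hom.comp s.hom = s₂.hom.comp c.hom := congrArg (fun q => q.hom) hs.w
  have : IsScalarTower B' A' A := .of_algebraMap_eq' e1
  have : IsScalarTower D' C' C := .of_algebraMap_eq' e2
  have : IsScalarTower B' D' D := .of_algebraMap_eq' e3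
  have : IsScalarTower B' D' C' := .of_algebraMap_eq' e4
  have : IsScalarTower B D C := .of_algebraMap_eq' e5
  have : IsScalarTower A' C' C := .of_algebraMap_eq' e6
  have hsq : EtMil.IsFibreSquare B' B A' A := ⟨h.surj, fun b a hba => by
    obtain ⟨x, hx, hx'⟩ := h.lift b a hba
    exact ⟨x, ⟨hx, hx'⟩, fun y hy => h.ext _ _ (hy.1.trans hx.symm) (hy.2.trans hx'.symm)⟩⟩
  have hsq₂ : EtMil.IsFibreSquare D' D C' C := ⟨h₂.surj, fun b a hba => by
    obtain ⟨x, hx, hx'⟩ := h₂.lift b a hba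
    exact ⟨x, ⟨hx, hx'⟩, fun y hy => h₂.ext _ _ (hy.1.trans hx.symm) (hy.2.trans hx'.symm)⟩⟩
  have : Algebra.IsPushout B A D C := CommRingCat.isPushout_iff_isPushout.1 hr
  have : Algebra.IsPushout A' A C' C := CommRingCat.isPushout_iff_isPushout.1 hs
  have : Algebra.IsPushout B D A C := Algebra.IsPushout.symm inferInstance
  have : Algebra.IsPushout A' C' A C := Algebra.IsPushout.symm inferInstance
  exact Groth.Agent.S6900.result B' B A' A hsq D' D C' C hsq₂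

end K641.MilProp
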