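import Groth.Agent.AlgSp.K641.MilCharts
import Groth.Agent.AlgSp.K641.MilProp

/-!
# Cubes with Milnor squares as top and bottom
-/

set_option autoImplicit false
universe u

open CategoryTheory CategoryTheory.Limits AlgebraicGeometry

namespace K641.MilCube

open AlgSp K641.MilRing K641.MilLoc K641.MilSp K641.MilCharts K635.Glue

variable {S : Scheme.{u}}

/-- A square of affine schemes is cartesian if it is cocartesian on global sections. -/
theorem isPullback_of_appTop {X Y Z P : Scheme.{u}} [IsAffine X] [IsAffine Y] [IsAffine Z] [IsAffine P] {fst : P ⟶ X}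
    {snd : P ⟶ Y} {f : X ⟶ Z} {g : Y ⟶ Z} (h : IsPushout f.appTop g.appTop fst.appTop snd.appTop) :
    IsPullback fst snd f g := by
  have h1 := isPullback_SpecMap_of_isPushout _ _ _ _ h
  exact IsPullback.of_iso h1 P.isoSpec.symm X.isoSpec.symm Y.isoSpec.symm Z.isoSpec.symm
    (Scheme.isoSpec_inv_naturality fst) (Scheme.isoSpec_inv_naturality snd) (Scheme.isoSpec_inv_naturality f)
    (Scheme.isoSpec_inv_naturality g)

section scheme

variable {T TY TX' TX T' TV TU' TU : Scheme.{u}} [IsAffine T] [IsAffine T'] {tY : TY ⟶ T} {tX' : TX' ⟶ T} {k₁ : TX ⟶ TY}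
  {k₂ : TX ⟶ TX'} {tV : TV ⟶ T'} {tU' : TU' ⟶ T'} {l₁ : TU ⟶ TV} {l₂ : TU ⟶ TU'} {h : T' ⟶ T} {m : TV ⟶ TY}
  {n : TU' ⟶ TX'} {x : TU ⟶ TX}

/-- Affine cubes. -/
theorem scheme_cube (sq : IsPullback k₁ k₂ tY tX') (sq' : IsPullback l₁ l₂ tV tU') [IsClosedImmersion tY]
    [IsAffineHom tX'] [IsClosedImmersion tV] [IsAffineHom tU'] (hR : RMil tY.appTop.hom tX'.appTop.hom)
    (hR' : RMil tV.appTop.hom tU'.appTop.hom) (hm : m ≫ tY = tV ≫ h) (hn : n ≫ tX' = tU' ≫ h)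
    (s₁ : IsPullback l₁ x m k₁) (s₂ : IsPullback l₂ x n k₂) :
    (IsPullback m tV tY h ∧ IsPullback n tU' tX' h) ∧
    (h.appTop.hom.FiniteType ↔ m.appTop.hom.FiniteType ∧ n.appTop.hom.FiniteType) ∧
    (h.appTop.hom.Flat ↔ m.appTop.hom.Flat ∧ n.appTop.hom.Flat) ∧
    (h.appTop.hom.Flat ∧ h.appTop.hom.FinitePresentation ↔
      (m.appTop.hom.Flat ∧ m.appTop.hom.FinitePresentation) ∧ (n.appTop.hom.Flat ∧ n.appTop.hom.FinitePresentation)) ∧
    (h.appTop.hom.Smooth ↔ m.appTop.hom.Smooth ∧ n.appTop.hom.Smooth) ∧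
    (h.appTop.hom.Etale ↔ m.appTop.hom.Etale ∧ n.appTop.hom.Etale) := by
  have a1 : IsAffine TY := isAffine_of_isAffineHom tY
  have a2 : IsAffine TX' := isAffine_of_isAffineHom tX'
  have a3 : IsAffine TX := .of_isPullback sq
  have a4 : IsAffine TV := isAffine_of_isAffineHom tV
  have a5 : IsAffine TU' := isAffine_of_isAffineHom tU'
  have a6 : IsAffine TU := .of_isPullback sq'
  have hM := K641.MilCat.RMil.isMilnor K641.MilSch.surjective_appTop hR (isPushout_appTop_of_isPullback sq)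
  have hM' := K641.MilCat.RMil.isMilnor K641.MilSch.surjective_appTop hR' (isPushout_appTop_of_isPullback sq')
  have e1 : tY.appTop ≫ m.appTop = h.appTop ≫ tV.appTop := by
    rw [← Scheme.Hom.comp_appTop, ← Scheme.Hom.comp_appTop, hm]
  have e2 : tX'.appTop ≫ n.appTop = h.appTop ≫ tU'.appTop := by
    rw [← Scheme.Hom.comp_appTop, ← Scheme.Hom.comp_appTop, hn]
  have p1 := isPushout_appTop_of_isPullback s₁
  have p2 := isPushout_appTop_of_isPullback s₂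
  obtain ⟨f1, f2⟩ := K641.MilCat.isPushout_faces hM hM' e1 e2 p1.flip p2.flip
  exact ⟨⟨isPullback_of_appTop f1, isPullback_of_appTop f2⟩, K641.MilProp.props hM hM' e1 e2 p1.flip p2.flip⟩

end scheme

section sheaf

/-- The corner of a base changed square. -/
theorem corner {X X' Y Y' : Sp S} {t : X ⟶ X'} {f : X ⟶ Y} {f' : X' ⟶ Y'} {t' : Y ⟶ Y'} (sq : IsPullback t f f' t')
    {T TY TX' TX : Over S} {b : (yon S).obj T ⟶ Y'} {gY : (yon S).obj TY ⟶ Y} {tY : TY ⟶ T}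
    (sqY : IsPullback gY ((yon S).map tY) t' b) {gX' : (yon S).obj TX' ⟶ X'} {tX' : TX' ⟶ T}
    (sqX' : IsPullback gX' ((yon S).map tX') f' b) {k₁ : TX ⟶ TY} {k₂ : TX ⟶ TX'} (sqk : IsPullback k₁ k₂ tY tX') :
    ∃ gX : (yon S).obj TX ⟶ X, gX ≫ t = (yon S).map k₂ ≫ gX' ∧ gX ≫ f = (yon S).map k₁ ≫ gY ∧
      IsPullback ((yon S).map k₁) gX gY f := by
  have w : ((yon S).map k₂ ≫ gX') ≫ f' = ((yon S).map k₁ ≫ gY) ≫ t' := by
    rw [Category.assoc, Category.assoc, sqX'.w, sqY.w, ← Category.assoc, ← Category.assoc, ← Functor.map_comp,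
      ← Functor.map_comp, sqk.w]
  have h1 := sq.lift_fst _ _ w
  have h2 := sq.lift_snd _ _ w
  refine ⟨sq.lift _ _ w, h1, h2, ?_⟩
  refine (IsPullback.of_right (h₁₂ := t) (v₁₃ := f') (h₂₂ := t') ?_ h2 sq).flip
  rw [h1, sqY.w]
  exact (sqk.map (yon S)).flip.paste_horiz sqX'

/-- A side of the cube of base changes. -/
theorem side {X X' Y Y' U U' V V' : Sp S} {t : X ⟶ X'} {f : X ⟶ Y} {f' : X' ⟶ Y'} {t' : Y ⟶ Y'}
    (sq : IsPullback t f f' t') {uU' : U ⟶ U'} {uV : U ⟶ V} {iU' : U' ⟶ V'} {iV : V ⟶ V'}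
    (sq' : IsPullback uU' uV iU' iV) {v : V ⟶ Y} {u' : U' ⟶ X'} {uX : U ⟶ X} (hUV : IsPullback uV uX v f)
    (hUU' : uU' ≫ u' = uX ≫ t)
    {T TY TX' TX T' TV TU' TU : Over S} {b : (yon S).obj T ⟶ Y'} {gY : (yon S).obj TY ⟶ Y} {tY : TY ⟶ T}
    (sqY : IsPullback gY ((yon S).map tY) t' b) {gX' : (yon S).obj TX' ⟶ X'} {tX' : TX' ⟶ T}
    (sqX' : IsPullback gX' ((yon S).map tX') f' b) {k₁ : TX ⟶ TY} {k₂ : TX ⟶ TX'} (sqk : IsPullback k₁ k₂ tY tX')
    {b' : (yon S).obj T' ⟶ V'} {gV : (yon S).obj TV ⟶ V} {tV : TV ⟶ T'}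
    (sqV : IsPullback gV ((yon S).map tV) iV b') {gU' : (yon S).obj TU' ⟶ U'} {tU' : TU' ⟶ T'}
    (sqU' : IsPullback gU' ((yon S).map tU') iU' b') {l₁ : TU ⟶ TV} {l₂ : TU ⟶ TU'} (sql : IsPullback l₁ l₂ tV tU')
    {m : TV ⟶ TY} {n : TU' ⟶ TX'} (hm : (yon S).map m ≫ gY = gV ≫ v) (hn : (yon S).map n ≫ gX' = gU' ≫ u')
    {x : TU ⟶ TX} (hx₁ : x ≫ k₁ = l₁ ≫ m) (hx₂ : x ≫ k₂ = l₂ ≫ n) : IsPullback l₁ x m k₁ := by
  obtain ⟨gX, a1, a2, a3⟩ := corner sq sqY sqX' sqk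
  obtain ⟨gU, b1, b2, b3⟩ := corner sq' sqV sqU' sql
  have e : gU ≫ uX = (yon S).map x ≫ gX := by
    apply sq.hom_ext
    · rw [Category.assoc, ← hUU', Category.assoc, a1, ← Category.assoc, b1, Category.assoc, ← hn, ← Category.assoc,
        ← Category.assoc, ← Functor.map_comp, ← Functor.map_comp, hx₂]
    · rw [Category.assoc, ← hUV.w, Category.assoc, a2, ← Category.assoc, b2, Category.assoc, ← hm, ← Category.assoc,
        ← Category.assoc, ← Functor.map_comp, ← Functor.map_comp, hx₁]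
  have h1 := b3.paste_vert hUV
  rw [e, ← hm] at h1
  refine IsPullback.of_map (yon S) hx₁.symm (IsPullback.of_bot h1 ?_ a3)
  rw [← Functor.map_comp, ← Functor.map_comp, hx₁]

/-- The local structure of the cube. -/
theorem local_cube {X X' Y Y' U U' V V' : Sp S} {t : X ⟶ X'} {f : X ⟶ Y} {f' : X' ⟶ Y'} {t' : Y ⟶ Y'}
    (sq : IsPullback t f f' t') {uU' : U ⟶ U'} {uV : U ⟶ V} {iU' : U' ⟶ V'} {iV : V ⟶ V'}
    (sq' : IsPullback uU' uV iU' iV) {v : V ⟶ Y} {u' : U' ⟶ X'} {uX : U ⟶ X} (hUV : IsPullback uV uX v f)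
    (hUU' : IsPullback uU' uX u' t) {v' : V' ⟶ Y'} (hv₁ : iV ≫ v' = v ≫ t') (hv₂ : iU' ≫ v' = u' ≫ f')
    (hM : Mil f' t') (hM' : Mil iU' iV)
    {T TY TX' T' TV TU' : Over S} {b : (yon S).obj T ⟶ Y'} {b' : (yon S).obj T' ⟶ V'} {h : T' ⟶ T}
    (w : b' ≫ v' = (yon S).map h ≫ b) (hT : IsAffine T.left) (hT' : IsAffine T'.left) (hb : RepWith @Etale b)
    (hb' : RepWith @Etale b') {gY : (yon S).obj TY ⟶ Y} {tY : TY ⟶ T}
    (sqY : IsPullback gY ((yon S).map tY) t' b) {gX' : (yon S).obj TX' ⟶ X'} {tX' : TX' ⟶ T}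
    (sqX' : IsPullback gX' ((yon S).map tX') f' b) {gV : (yon S).obj TV ⟶ V} {tV : TV ⟶ T'}
    (sqV : IsPullback gV ((yon S).map tV) iV b') {gU' : (yon S).obj TU' ⟶ U'} {tU' : TU' ⟶ T'}
    (sqU' : IsPullback gU' ((yon S).map tU') iU' b') :
    ∃ (m : TV ⟶ TY) (n : TU' ⟶ TX'), (yon S).map m ≫ gY = gV ≫ v ∧ (yon S).map n ≫ gX' = gU' ≫ u' ∧
      IsPullback m tV tY h ∧ IsPullback n tU' tX' h ∧
      (h.left.appTop.hom.FiniteType ↔ m.left.appTop.hom.FiniteType ∧ n.left.appTop.hom.FiniteType) ∧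
      (h.left.appTop.hom.Flat ↔ m.left.appTop.hom.Flat ∧ n.left.appTop.hom.Flat) ∧
      (h.left.appTop.hom.Flat ∧ h.left.appTop.hom.FinitePresentation ↔
        (m.left.appTop.hom.Flat ∧ m.left.appTop.hom.FinitePresentation) ∧
        (n.left.appTop.hom.Flat ∧ n.left.appTop.hom.FinitePresentation)) ∧
      (h.left.appTop.hom.Smooth ↔ m.left.appTop.hom.Smooth ∧ n.left.appTop.hom.Smooth) ∧
      (h.left.appTop.hom.Etale ↔ m.left.appTop.hom.Etale ∧ n.left.appTop.hom.Etale) := by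
  have w1 : (gV ≫ v) ≫ t' = (yon S).map (tV ≫ h) ≫ b := by
    rw [Category.assoc, ← hv₁, ← Category.assoc, sqV.w, Category.assoc, w, Functor.map_comp, Category.assoc]
  have w2 : (gU' ≫ u') ≫ f' = (yon S).map (tU' ≫ h) ≫ b := by
    rw [Category.assoc, ← hv₂, ← Category.assoc, sqU'.w, Category.assoc, w, Functor.map_comp, Category.assoc]
  obtain ⟨m, hm⟩ := (yon S).map_surjective (sqY.lift _ _ w1)
  obtain ⟨n, hn⟩ := (yon S).map_surjective (sqX'.lift _ _ w2)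
  have hm1 : (yon S).map m ≫ gY = gV ≫ v := by rw [hm, sqY.lift_fst]
  have hm2 : m ≫ tY = tV ≫ h := (yon S).map_injective (by rw [Functor.map_comp, hm, sqY.lift_snd])
  have hn1 : (yon S).map n ≫ gX' = gU' ≫ u' := by rw [hn, sqX'.lift_fst]
  have hn2 : n ≫ tX' = tU' ≫ h := (yon S).map_injective (by rw [Functor.map_comp, hn, sqX'.lift_snd])
  have sqk := IsPullback.of_hasPullback tY tX'
  have sql := IsPullback.of_hasPullback tV tU'
  have w3 : (pullback.fst tV tU' ≫ m) ≫ tY = (pullback.snd tV tU' ≫ n) ≫ tX' := by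
    rw [Category.assoc, hm2, Category.assoc, hn2, ← Category.assoc, sql.w, Category.assoc]
  have hx₁ := sqk.lift_fst _ _ w3
  have hx₂ := sqk.lift_snd _ _ w3
  have s₁ := side sq sq' hUV hUU'.w sqY sqX' sqk sqV sqU' sql hm1 hn1 hx₁ hx₂
  have s₂ := side sq.flip sq'.flip hUU' hUV.w sqX' sqY sqk.flip sqU' sqV sql.flip hn1 hm1 hx₂ hx₁
  have hE : ∀ {F G : Sp S} {c : F ⟶ G}, RepWith @Etale c → RepWith @Flat c := fun hc =>
    K597.repWith_mono (fun _ _ f (hf : Etale f) => (inferInstance : Flat f)) hc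
  have hR := hM.mil b gY tY gX' tX' hT (hE hb) sqY sqX'
  have hR' := hM'.mil b' gV tV gU' tU' hT' (hE hb') sqV sqU'
  have c1 : IsClosedImmersion tY.left := hM.closed.2 _ _ _ sqY
  have c2 : IsAffineHom tX'.left := hM.affine.2 _ _ _ sqX'
  have c3 : IsClosedImmersion tV.left := hM'.closed.2 _ _ _ sqV
  have c4 : IsAffineHom tU'.left := hM'.affine.2 _ _ _ sqU'
  have q1 : IsPullback (pullback.fst tY tX').left (pullback.snd tY tX').left tY.left tX'.left :=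
    sqk.map (Over.forget S)
  have q2 : IsPullback (pullback.fst tV tU').left (pullback.snd tV tU').left tV.left tU'.left :=
    sql.map (Over.forget S)
  have q3 := s₁.map (Over.forget S)
  have q4 := s₂.map (Over.forget S)
  obtain ⟨⟨r1, r2⟩, r3⟩ := scheme_cube q1 q2 hR hR' (congrArg (fun q => q.left) hm2) (congrArg (fun q => q.left) hn2)
    q3 q4
  exact ⟨m, n, hm1, hn1, IsPullback.of_map (Over.forget S) hm2 r1, IsPullback.of_map (Over.forget S) hn2 r2, r3⟩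

end sheaf

end K641.MilCube
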