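import Groth.Agent.AlgSp.K641.MilThick
import Groth.Agent.AlgSp.K594.Bootstrap
import Groth.Agent.AlgSp.K594.EqvRel
import Groth.Agent.AlgSp.K613.Cover

/-!
# Glueing equivalence relations along a Milnor square
-/

set_option autoImplicit false
universe u

open CategoryTheory CategoryTheory.Limits AlgebraicGeometry

namespace K641.MilEqv

open AlgSp K641.MilSp K641.MilThick K613.Cover K635.Glue

variable {S : Scheme.{u}}

/-- The relation `(s₁, s₂)` is an equivalence relation at the points that factor through `α`. -/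
structure FaceRel {A V' R' : Over S} (s₁ s₂ : R' ⟶ V') (α : A ⟶ V') : Prop where
  refl : ∀ (T : Over S) (w : T ⟶ A), ∃ φ : T ⟶ R', φ ≫ s₁ = w ≫ α ∧ φ ≫ s₂ = w ≫ α
  symm : ∀ (T : Over S) (w : T ⟶ A) (φ : T ⟶ R'), φ ≫ s₁ = w ≫ α →
    ∃ φ' : T ⟶ R', φ' ≫ s₁ = φ ≫ s₂ ∧ φ' ≫ s₂ = φ ≫ s₁
  trans : ∀ (T : Over S) (w : T ⟶ A) (φ₁ φ₂ : T ⟶ R'), φ₁ ≫ s₂ = w ≫ α → φ₂ ≫ s₁ = w ≫ α →
    ∃ φ : T ⟶ R', φ ≫ s₁ = φ₁ ≫ s₁ ∧ φ ≫ s₂ = φ₂ ≫ s₂

theorem faceRel_of {A RA V' R' : Over S} {r₁ r₂ : RA ⟶ A} {s₁ s₂ : R' ⟶ V'} {α : A ⟶ V'} {m : RA ⟶ R'}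
    (sq₁ : IsPullback m r₁ s₁ α) (sq₂ : IsPullback m r₂ s₂ α) (h : IsEqvRel r₂ r₁) : FaceRel s₁ s₂ α where
  refl T w := by
    obtain ⟨ρ, h1, h2⟩ := (h.equivalence T).refl w
    exact ⟨ρ ≫ m, by rw [Category.assoc, sq₁.w, ← Category.assoc, h1],
      by rw [Category.assoc, sq₂.w, ← Category.assoc, h2]⟩
  symm T w φ hφ := by
    obtain ⟨ρ', h1, h2⟩ := (h.equivalence T).symm ⟨sq₁.lift φ w hφ, rfl, rfl⟩
    refine ⟨ρ' ≫ m, ?_, ?_⟩
    · rw [Category.assoc, sq₁.w, ← Category.assoc, h1, Category.assoc, ← sq₂.w, ← Category.assoc, sq₁.lift_fst]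
    · rw [Category.assoc, sq₂.w, ← Category.assoc, h2, Category.assoc, ← sq₁.w, ← Category.assoc, sq₁.lift_fst]
  trans T w φ₁ φ₂ h₁ h₂ := by
    obtain ⟨ρ, h3, h4⟩ := (h.equivalence T).trans (x := sq₂.lift φ₁ w h₁ ≫ r₁) (y := w) (z := sq₁.lift φ₂ w h₂ ≫ r₂)
      ⟨sq₂.lift φ₁ w h₁, rfl, sq₂.lift_snd _ _ _⟩ ⟨sq₁.lift φ₂ w h₂, sq₁.lift_snd _ _ _, rfl⟩
    refine ⟨ρ ≫ m, ?_, ?_⟩
    · rw [Category.assoc, sq₁.w, ← Category.assoc, h3, Category.assoc, ← sq₁.w, ← Category.assoc, sq₂.lift_fst]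
    · rw [Category.assoc, sq₂.w, ← Category.assoc, h4, Category.assoc, ← sq₂.w, ← Category.assoc, sq₁.lift_fst]

/-- Etale schemes are the pushouts of their faces. -/
def Cov {A B V' : Over S} (α : A ⟶ V') (β : B ⟶ V') : Prop :=
  ∀ (T : Over S) (y : T ⟶ V'), Etale y.left → ∀ (Z : Over S) (φA : pullback y α ⟶ Z) (φB : pullback y β ⟶ Z),
    (∀ (W : Over S) (p : W ⟶ pullback y α) (q : W ⟶ pullback y β),
      p ≫ pullback.fst y α = q ≫ pullback.fst y β → p ≫ φA = q ≫ φB) →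
    ∃! φ : T ⟶ Z, pullback.fst y α ≫ φ = φA ∧ pullback.fst y β ≫ φ = φB

theorem cov_of_mil {A B V' : Over S} {α : A ⟶ V'} {β : B ⟶ V'} (h : Mil ((yon S).map α) ((yon S).map β)) :
    Cov α β := by
  intro T y hy Z φA φB hag
  have sqA := (IsPullback.of_hasPullback y α).map (yon S)
  have sqB := (IsPullback.of_hasPullback y β).map (yon S)
  have hM : Mil ((yon S).map (pullback.fst y α)) ((yon S).map (pullback.fst y β)) := by
    refine h.bc (IsAlgSpace.yon_obj _) (IsAlgSpace.yon_obj _) (w := (yon S).map y) ?_ sqA sqB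
    refine K597.locP_of_repWith K597.etLoc_flat.precomp ((repWith_yon_map_iff _ _).2 ?_)
    have := hy
    infer_instance
  have hpo := hM.isPushout_over (IsPullback.of_hasPullback (pullback.fst y β) (pullback.fst y α))
  have hw : pullback.snd (pullback.fst y β) (pullback.fst y α) ≫ φA =
      pullback.fst (pullback.fst y β) (pullback.fst y α) ≫ φB := hag _ _ _ pullback.condition.symm
  refine ⟨hpo.desc φA φB hw, ⟨hpo.inl_desc _ _ _, hpo.inr_desc _ _ _⟩, ?_⟩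
  rintro ψ ⟨h1, h2⟩
  apply hpo.hom_ext
  · rw [h1, hpo.inl_desc]
  · rw [h2, hpo.inr_desc]

section

variable {A B V' R' : Over S} {s₁ s₂ : R' ⟶ V'} {α : A ⟶ V'} {β : B ⟶ V'}
  (hinj : ∀ (T : Over S) (r r' : T ⟶ R'), r ≫ s₁ = r' ≫ s₁ → r ≫ s₂ = r' ≫ s₂ → r = r')
  (hc : Cov α β)

include hinj hc

theorem exists_rel {T : Over S} (y : T ⟶ V') (hy : Etale y.left) (x z : T ⟶ V')
    (hA : ∃ φ : pullback y α ⟶ R', φ ≫ s₁ = pullback.fst y α ≫ x ∧ φ ≫ s₂ = pullback.fst y α ≫ z)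
    (hB : ∃ φ : pullback y β ⟶ R', φ ≫ s₁ = pullback.fst y β ≫ x ∧ φ ≫ s₂ = pullback.fst y β ≫ z) :
    ∃ φ : T ⟶ R', φ ≫ s₁ = x ∧ φ ≫ s₂ = z := by
  obtain ⟨φA, h1, h2⟩ := hA
  obtain ⟨φB, h3, h4⟩ := hB
  obtain ⟨φ, ⟨h5, h6⟩, -⟩ := hc T y hy R' φA φB (fun W p q hpq => by
    refine hinj W _ _ ?_ ?_
    · rw [Category.assoc, h1, Category.assoc, h3, ← Category.assoc, hpq, Category.assoc]
    · rw [Category.assoc, h2, Category.assoc, h4, ← Category.assoc, hpq, Category.assoc])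
  refine ⟨φ, ?_, ?_⟩
  · refine (hc T y hy V' (pullback.fst y α ≫ x) (pullback.fst y β ≫ x) (fun W p q hpq => by
      rw [← Category.assoc, hpq, Category.assoc])).unique ⟨?_, ?_⟩ ⟨rfl, rfl⟩
    · rw [← Category.assoc, h5, h1]
    · rw [← Category.assoc, h6, h3]
  · refine (hc T y hy V' (pullback.fst y α ≫ z) (pullback.fst y β ≫ z) (fun W p q hpq => by
      rw [← Category.assoc, hpq, Category.assoc])).unique ⟨?_, ?_⟩ ⟨rfl, rfl⟩
    · rw [← Category.assoc, h5, h2]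
    · rw [← Category.assoc, h6, h4]

theorem isEqvRel_of_faces (h₁ : Etale s₁.left) (h₂ : Etale s₂.left) (hA : FaceRel s₁ s₂ α) (hB : FaceRel s₁ s₂ β) :
    IsEqvRel s₂ s₁ := by
  have refl : ∃ φ : V' ⟶ R', φ ≫ s₁ = 𝟙 V' ∧ φ ≫ s₂ = 𝟙 V' := by
    refine exists_rel hinj hc (𝟙 V') (by change Etale (𝟙 V'.left); infer_instance) _ _ ?_ ?_
    · obtain ⟨φ, h3, h4⟩ := hA.refl _ (pullback.snd (𝟙 V') α)
      exact ⟨φ, by rw [h3, pullback.condition], by rw [h4, pullback.condition]⟩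
    · obtain ⟨φ, h3, h4⟩ := hB.refl _ (pullback.snd (𝟙 V') β)
      exact ⟨φ, by rw [h3, pullback.condition], by rw [h4, pullback.condition]⟩
  have symm : ∃ φ : R' ⟶ R', φ ≫ s₁ = s₂ ∧ φ ≫ s₂ = s₁ := by
    refine exists_rel hinj hc s₁ h₁ _ _ ?_ ?_
    · obtain ⟨φ, h3, h4⟩ := hA.symm _ (pullback.snd s₁ α) (pullback.fst s₁ α) pullback.condition
      exact ⟨φ, h3, h4⟩
    · obtain ⟨φ, h3, h4⟩ := hB.symm _ (pullback.snd s₁ β) (pullback.fst s₁ β) pullback.condition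
      exact ⟨φ, h3, h4⟩
  have trans : ∃ φ : pullback s₂ s₁ ⟶ R', φ ≫ s₁ = pullback.fst s₂ s₁ ≫ s₁ ∧ φ ≫ s₂ = pullback.snd s₂ s₁ ≫ s₂ := by
    have hy : Etale (pullback.fst s₂ s₁ ≫ s₂).left := by
      have : Etale (pullback.fst s₂ s₁).left :=
        etale_of_isPullback (IsPullback.of_hasPullback s₂ s₁).flip h₁
      rw [Over.comp_left]
      infer_instance
    refine exists_rel hinj hc (pullback.fst s₂ s₁ ≫ s₂) hy _ _ ?_ ?_
    · obtain ⟨φ, h3, h4⟩ := hA.trans _ (pullback.snd (pullback.fst s₂ s₁ ≫ s₂) α)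
        (pullback.fst (pullback.fst s₂ s₁ ≫ s₂) α ≫ pullback.fst s₂ s₁)
        (pullback.fst (pullback.fst s₂ s₁ ≫ s₂) α ≫ pullback.snd s₂ s₁)
        ((Category.assoc _ _ _).trans pullback.condition)
        ((Category.assoc _ _ _).trans ((congrArg (fun m => pullback.fst (pullback.fst s₂ s₁ ≫ s₂) α ≫ m)
          pullback.condition.symm).trans pullback.condition))
      exact ⟨φ, by rw [h3, Category.assoc], by rw [h4, Category.assoc]⟩
    · obtain ⟨φ, h3, h4⟩ := hB.trans _ (pullback.snd (pullback.fst s₂ s₁ ≫ s₂) β)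
        (pullback.fst (pullback.fst s₂ s₁ ≫ s₂) β ≫ pullback.fst s₂ s₁)
        (pullback.fst (pullback.fst s₂ s₁ ≫ s₂) β ≫ pullback.snd s₂ s₁)
        ((Category.assoc _ _ _).trans pullback.condition)
        ((Category.assoc _ _ _).trans ((congrArg (fun m => pullback.fst (pullback.fst s₂ s₁ ≫ s₂) β ≫ m)
          pullback.condition.symm).trans pullback.condition))
      exact ⟨φ, by rw [h3, Category.assoc], by rw [h4, Category.assoc]⟩
  refine ⟨fun T r r' h3 h4 => hinj T r r' h3 h4, fun T => ⟨fun a => ?_, ?_, ?_⟩⟩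
  · obtain ⟨φ, h3, h4⟩ := refl
    exact ⟨a ≫ φ, by rw [Category.assoc, h3, Category.comp_id], by rw [Category.assoc, h4, Category.comp_id]⟩
  · rintro a b ⟨r, rfl, rfl⟩
    obtain ⟨φ, h3, h4⟩ := symm
    exact ⟨r ≫ φ, by rw [Category.assoc, h3], by rw [Category.assoc, h4]⟩
  · rintro a b c ⟨r, rfl, h⟩ ⟨r', h', rfl⟩
    obtain ⟨φ, h3, h4⟩ := trans
    refine ⟨pullback.lift r r' (h.trans h'.symm) ≫ φ, ?_, ?_⟩
    · rw [Category.assoc, h3, ← Category.assoc, pullback.lift_fst]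
    · rw [Category.assoc, h4, ← Category.assoc, pullback.lift_snd]

end

/-- A relation which restricts to a relation over a thickening is a relation. -/
theorem inj_of_thick {V RV V' R' : Over S} {r₁ r₂ : RV ⟶ V} {s₁ s₂ : R' ⟶ V'} {β : V ⟶ V'} {m : RV ⟶ R'}
    [IsClosedImmersion β.left] [Surjective β.left] (h₁ : Etale s₁.left)
    (sq₁ : IsPullback m r₁ s₁ β) (sq₂ : IsPullback m r₂ s₂ β) (h : IsEqvRel r₂ r₁) (T : Over S) (r r' : T ⟶ R')
    (e₁ : r ≫ s₁ = r' ≫ s₁) (e₂ : r ≫ s₂ = r' ≫ s₂) : r = r' := by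
  have hmono : Mono β := by
    have : Mono β.left := inferInstance
    exact Over.mono_of_mono_left β
  have hi := IsPullback.of_hasPullback (r ≫ s₁) β
  have c1 : IsClosedImmersion (pullback.fst (r ≫ s₁) β).left := closed_of_isPullback hi.flip inferInstance
  have c2 : Surjective (pullback.fst (r ≫ s₁) β).left := surj_of_isPullback hi.flip inferInstance
  let i := pullback.fst (r ≫ s₁) β
  let ρ : pullback (r ≫ s₁) β ⟶ RV := sq₁.lift (i ≫ r) (pullback.snd _ _) (by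
    rw [Category.assoc]
    exact pullback.condition)
  let ρ' : pullback (r ≫ s₁) β ⟶ RV := sq₁.lift (i ≫ r') (pullback.snd _ _) (by
    rw [Category.assoc, ← e₁]
    exact pullback.condition)
  have h1 : ρ ≫ m = i ≫ r := sq₁.lift_fst _ _ _
  have h2 : ρ' ≫ m = i ≫ r' := sq₁.lift_fst _ _ _
  have h3 : ρ = ρ' := by
    apply h.injective
    · rw [sq₁.lift_snd, sq₁.lift_snd]
    · rw [← cancel_mono β, Category.assoc, Category.assoc, ← sq₂.w, ← Category.assoc, ← Category.assoc, h1, h2,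
        Category.assoc, Category.assoc, e₂]
  have h4 : i ≫ r = i ≫ r' := by rw [← h1, ← h2, h3]
  exact (K635.EtLift.over_existsUnique_lift s₁ i (i ≫ r) (r ≫ s₁) (Category.assoc _ _ _)).unique
    ⟨rfl, rfl⟩ ⟨h4.symm, e₁.symm⟩

/-- Morphisms of quotients of etale equivalence relations with cartesian squares are cartesian over the charts. -/
theorem isPullback_quot {A RA V' R' : Over S} {r₁ r₂ : RA ⟶ A} {s₁ s₂ : R' ⟶ V'} {α : A ⟶ V'} {m : RA ⟶ R'}
    (sq₁ : IsPullback m r₁ s₁ α) (sq₂ : IsPullback m r₂ s₂ α) {Z Y' : Sp S} {z : (yon S).obj A ⟶ Z}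
    {π : (yon S).obj V' ⟶ Y'} (hz : IsPullback ((yon S).map r₁) ((yon S).map r₂) z z) (hzs : FSurj z)
    (hπ : IsPullback ((yon S).map s₁) ((yon S).map s₂) π π) {φ : Z ⟶ Y'} (hφ : z ≫ φ = (yon S).map α ≫ π) :
    IsPullback z ((yon S).map α) φ π := by
  let k : (yon S).obj A ⟶ pullback φ π := pullback.lift z ((yon S).map α) hφ
  have hk1 : k ≫ pullback.fst φ π = z := pullback.lift_fst _ _ _
  have hk2 : k ≫ pullback.snd φ π = (yon S).map α := pullback.lift_snd _ _ _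
  have hR' : IsEqvRel s₂ s₁ := K594.EqvRel.isEqvRel_of_isPullback π _ _ hπ
  have hRA : IsEqvRel r₂ r₁ := K594.EqvRel.isEqvRel_of_isPullback z _ _ hz
  have hmono : Mono k := by
    refine K613.Basic.mono_of_injective fun T x y hxy => ?_
    obtain ⟨x, rfl⟩ := (yon S).map_surjective x
    obtain ⟨y, rfl⟩ := (yon S).map_surjective y
    have h1 : (yon S).map x ≫ z = (yon S).map y ≫ z := by rw [← hk1, ← Category.assoc, hxy, Category.assoc]
    have h2 : x ≫ α = y ≫ α := by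
      apply (yon S).map_injective
      rw [Functor.map_comp, Functor.map_comp, ← hk2, ← Category.assoc, hxy, Category.assoc]
    obtain ⟨ρ, hρ⟩ := (yon S).map_surjective (hz.lift _ _ h1)
    have h3 : ρ ≫ r₁ = x := by
      apply (yon S).map_injective
      rw [Functor.map_comp, hρ, hz.lift_fst]
    have h4 : ρ ≫ r₂ = y := by
      apply (yon S).map_injective
      rw [Functor.map_comp, hρ, hz.lift_snd]
    obtain ⟨ρ₀, h5, h6⟩ := (hRA.equivalence T).refl x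
    have h7 : ρ ≫ m = ρ₀ ≫ m := by
      apply hR'.injective
      · rw [Category.assoc, Category.assoc, sq₁.w, ← Category.assoc, ← Category.assoc, h3, h5]
      · rw [Category.assoc, Category.assoc, sq₂.w, ← Category.assoc, ← Category.assoc, h4, h6, h2]
    have h8 : ρ = ρ₀ := sq₁.hom_ext h7 (by rw [h3, h5])
    rw [← h4, h8, h6]
  have hsurj : FSurj k := by
    intro T p
    obtain ⟨T', c, a, hc, ha⟩ := hzs T (p ≫ pullback.fst φ π)
    obtain ⟨a, rfl⟩ := (yon S).map_surjective a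
    obtain ⟨w, hw⟩ := (yon S).map_surjective (p ≫ pullback.snd φ π)
    have h1 : (yon S).map (a ≫ α) ≫ π = (yon S).map (c ≫ w) ≫ π := by
      rw [Functor.map_comp, Category.assoc, ← hφ, ← Category.assoc, ha, Functor.map_comp, hw]
      simp only [Category.assoc]
      rw [pullback.condition]
    obtain ⟨r, hr⟩ := (yon S).map_surjective (hπ.lift _ _ h1)
    have h2 : r ≫ s₁ = a ≫ α := by
      apply (yon S).map_injective
      rw [Functor.map_comp, hr, hπ.lift_fst]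
    have h3 : r ≫ s₂ = c ≫ w := by
      apply (yon S).map_injective
      rw [Functor.map_comp, hr, hπ.lift_snd]
    refine ⟨T', c, (yon S).map (sq₁.lift r a h2 ≫ r₂), hc, ?_⟩
    apply pullback.hom_ext
    · rw [Category.assoc, hk1, Functor.map_comp, Category.assoc, ← hz.w, ← Category.assoc, ← Functor.map_comp,
        sq₁.lift_snd, ha, Category.assoc]
    · rw [Category.assoc, hk2, ← Functor.map_comp, Category.assoc, ← sq₂.w, ← Category.assoc, sq₁.lift_fst, h3,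
        Functor.map_comp, hw, Category.assoc]
  have hiso : IsIso k := hsurj.isIso_of_mono
  exact IsPullback.of_iso_pullback ⟨hφ⟩ (asIso k) hk1 hk2

end K641.MilEqv
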