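import Groth.Agent.AlgSp.K641.MilCharts
import Groth.Agent.FlatB.PushMain
import Groth.Agent.S0440

/-!
# Pushouts of schemes are Milnor squares
-/

set_option autoImplicit false
universe u

open CategoryTheory CategoryTheory.Limits AlgebraicGeometry

namespace K641.MilExist

open AlgSp K641.MilRing K641.MilLoc K641.MilSp K641.MilCharts K635.Glue
open Groth.Agent Groth.Agent.FlatB.PushRing Groth.Agent.FlatB.PushPair Groth.Agent.FlatB.PushGlue

theorem rmil_congr {B' B A' B₁' B₁ A₁' : CommRingCat.{u}} {p : B' ⟶ B} {q : B' ⟶ A'} {p₁ : B₁' ⟶ B₁} {q₁ : B₁' ⟶ A₁'}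
    (e' : B₁' ≅ B') (e : B₁ ≅ B) (e'' : A₁' ≅ A') (hp : p₁ ≫ e.hom = e'.hom ≫ p) (hq : q₁ ≫ e''.hom = e'.hom ≫ q)
    (h : RMil p.hom q.hom) : RMil p₁.hom q₁.hom := by
  have hp' : ∀ x, e.hom.hom (p₁.hom x) = p.hom (e'.hom.hom x) := fun x => congrArg (fun q => q.hom x) hp
  have hq' : ∀ x, e''.hom.hom (q₁.hom x) = q.hom (e'.hom.hom x) := fun x => congrArg (fun q => q.hom x) hq
  have i1 : Function.Injective e'.hom.hom := e'.commRingCatIsoToRingEquiv.injective
  have i2 : Function.Injective e.hom.hom := e.commRingCatIsoToRingEquiv.injective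
  have i3 : Function.Injective e''.hom.hom := e''.commRingCatIsoToRingEquiv.injective
  have s1 : Function.Surjective e'.hom.hom := e'.commRingCatIsoToRingEquiv.surjective
  constructor
  · intro x h1 h2
    apply i1
    rw [map_zero]
    refine h.inj _ ?_ ?_
    · rw [← hp', h1, map_zero]
    · rw [← hq', h2, map_zero]
  · intro x h1 a
    obtain ⟨y, hy, hy'⟩ := h.ideal (e'.hom.hom x) (by rw [← hp', h1, map_zero]) (e''.hom.hom a)
    obtain ⟨y, rfl⟩ := s1 y
    refine ⟨y, i2 (by rw [hp', hy, map_zero]), i3 ?_⟩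
    rw [hq', hy', map_mul, hq']

theorem rmil_SpecMap {B' B A' : CommRingCat.{u}} {p : B' ⟶ B} {q : B' ⟶ A'} (h : RMil p.hom q.hom) :
    RMil (Spec.map p).appTop.hom (Spec.map q).appTop.hom :=
  rmil_congr (Scheme.ΓSpecIso B') (Scheme.ΓSpecIso B) (Scheme.ΓSpecIso A') (Scheme.ΓSpecIso_naturality p)
    (Scheme.ΓSpecIso_naturality q) h

theorem rmil_eqL {A' A B : Type u} [CommRing A'] [CommRing A] [CommRing B] (p : A' →+* A) (q : B →+* A) :
    RMil (eqL.snd p q) (eqL.fst p q) := by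
  constructor
  · intro x h1 h2
    exact eqL.ext h2 h1
  · intro x hx a
    have h1 : p (x.1.1 * a) = q 0 := by
      have h2 : p x.1.1 = q x.1.2 := eqL_prop x
      have h3 : x.1.2 = 0 := hx
      rw [map_mul, h2, h3, map_zero, zero_mul]
    exact ⟨⟨(x.1.1 * a, 0), h1⟩, rfl, rfl⟩

/-- The pushout of a closed immersion along a map with adapted pairs of affine opens is a Milnor square. -/
theorem exists_scheme {X Y Z : Scheme.{u}} {i : Z ⟶ X} {j : Z ⟶ Y} [IsClosedImmersion i]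
    (H : ∀ y : Y, ∃ P : Pair i j, y ∈ P.V) : ∃ (W : Scheme.{u}) (a : X ⟶ W) (b : Y ⟶ W), IsPushout i j a b ∧
      IsPullback i j a b ∧ IsClosedImmersion b ∧ IsAffineHom a ∧ (Function.Surjective i → Function.Surjective b) ∧
      (∀ w, (∃ x, a x = w) ∨ ∃ y, b y = w) ∧
      ∀ w : W, ∃ (V VX VY : Scheme.{u}) (c : V ⟶ W) (gY : VY ⟶ Y) (tY : VY ⟶ V) (gX : VX ⟶ X) (tX : VX ⟶ V) (v : V),
        IsAffine V ∧ IsOpenImmersion c ∧ IsPullback gY tY b c ∧ IsPullback gX tX a c ∧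
        RMil tY.appTop.hom tX.appTop.hom ∧ c v = w := by
  obtain ⟨a, ha⟩ := exists_a H
  obtain ⟨b, hb⟩ := exists_b H
  refine ⟨Po i j, a, b, FlatB.PushGlue.isPushout H a b ha hb, FlatB.PushMain.isPullback H a b ha hb,
    FlatB.PushMain.isClosedImmersion_b H b hb, FlatB.PushMain.isAffineHom_a H a ha,
    FlatB.PushMain.surjective_b H a b ha hb, FlatB.PushMain.surj a b ha hb, ?_⟩
  intro w
  obtain ⟨P, z, rfl⟩ := ι_surj w
  exact ⟨_, _, _, ι P, P.hV.fromSpec, bS P, P.hU.fromSpec, aS P, z, inferInstance, inferInstance,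
    (isPullback_b H b hb P).flip, (isPullback_a H a ha P).flip, rmil_SpecMap (rmil_eqL _ _), rfl⟩

end K641.MilExist
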