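import Groth.Agent.AlgSp.K641.MilCube
import Groth.Agent.AlgSp.K641.LocPb
import Groth.Agent.AlgSp.K642.Charts2

/-!
# Cubes with Milnor squares as top and bottom: global statements
-/

set_option autoImplicit false
universe u

open CategoryTheory CategoryTheory.Limits AlgebraicGeometry

namespace K641.MilGlobal

open AlgSp K641.MilRing K641.MilLoc K641.MilSp K641.MilCharts K641.MilCube K635.Glue

variable {S : Scheme.{u}}

/-- The five equivalences of Milnor patching. -/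
def Five {T T' TY TX' TV TU' : Over S} (h : T' ⟶ T) (m : TV ⟶ TY) (n : TU' ⟶ TX') : Prop :=
  (h.left.appTop.hom.FiniteType ↔ m.left.appTop.hom.FiniteType ∧ n.left.appTop.hom.FiniteType) ∧
      (h.left.appTop.hom.Flat ↔ m.left.appTop.hom.Flat ∧ n.left.appTop.hom.Flat) ∧
      (h.left.appTop.hom.Flat ∧ h.left.appTop.hom.FinitePresentation ↔
        (m.left.appTop.hom.Flat ∧ m.left.appTop.hom.FinitePresentation) ∧
        (n.left.appTop.hom.Flat ∧ n.left.appTop.hom.FinitePresentation)) ∧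
      (h.left.appTop.hom.Smooth ↔ m.left.appTop.hom.Smooth ∧ n.left.appTop.hom.Smooth) ∧
      (h.left.appTop.hom.Etale ↔ m.left.appTop.hom.Etale ∧ n.left.appTop.hom.Etale)

/-- The property is detected by the two faces, in the affine case. -/
def Detects (S : Scheme.{u}) (P : MorphismProperty Scheme.{u}) : Prop :=
  ∀ (T T' TY TX' TV TU' : Over S) (h : T' ⟶ T) (m : TV ⟶ TY) (n : TU' ⟶ TX'), IsAffine T.left → IsAffine T'.left →
    IsAffine TY.left → IsAffine TX'.left → IsAffine TV.left → IsAffine TU'.left → Five h m n → P m.left →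
    P n.left → P h.left

theorem detects_lft : Detects S @LocallyOfFiniteType := by
  intro T T' TY TX' TV TU' h m n h1 h2 h3 h4 h5 h6 h7 hm hn
  rw [HasRingHomProperty.iff_of_isAffine (P := @LocallyOfFiniteType)] at hm hn ⊢
  exact h7.1.2 ⟨hm, hn⟩

theorem detects_flat : Detects S @Flat := by
  intro T T' TY TX' TV TU' h m n h1 h2 h3 h4 h5 h6 h7 hm hn
  rw [HasRingHomProperty.iff_of_isAffine (P := @Flat)] at hm hn ⊢
  exact h7.2.1.2 ⟨hm, hn⟩

theorem detects_flat_lfp : Detects S (@Flat ⊓ @LocallyOfFinitePresentation : MorphismProperty Scheme.{u}) := by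
  rintro T T' TY TX' TV TU' h m n h1 h2 h3 h4 h5 h6 h7 ⟨hm, hm'⟩ ⟨hn, hn'⟩
  rw [HasRingHomProperty.iff_of_isAffine (P := @Flat)] at hm hn
  rw [HasRingHomProperty.iff_of_isAffine (P := @LocallyOfFinitePresentation)] at hm' hn'
  obtain ⟨r1, r2⟩ := h7.2.2.1.2 ⟨⟨hm, hm'⟩, hn, hn'⟩
  exact ⟨(HasRingHomProperty.iff_of_isAffine (P := @Flat)).2 r1,
    (HasRingHomProperty.iff_of_isAffine (P := @LocallyOfFinitePresentation)).2 r2⟩

theorem detects_smooth : Detects S @Smooth := by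
  intro T T' TY TX' TV TU' h m n h1 h2 h3 h4 h5 h6 h7 hm hn
  rw [HasRingHomProperty.iff_of_isAffine (P := @Smooth)] at hm hn ⊢
  exact h7.2.2.2.1.2 ⟨hm, hn⟩

theorem detects_etale : Detects S @Etale := by
  intro T T' TY TX' TV TU' h m n h1 h2 h3 h4 h5 h6 h7 hm hn
  rw [HasRingHomProperty.iff_of_isAffine (P := @Etale)] at hm hn ⊢
  exact h7.2.2.2.2.2 ⟨hm, hn⟩

section

variable {X X' Y Y' U U' V V' : Sp S} {t : X ⟶ X'} {f : X ⟶ Y} {f' : X' ⟶ Y'} {t' : Y ⟶ Y'}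
    (sq : IsPullback t f f' t') {uU' : U ⟶ U'} {uV : U ⟶ V} {iU' : U' ⟶ V'} {iV : V ⟶ V'}
    (sq' : IsPullback uU' uV iU' iV) {v : V ⟶ Y} {u' : U' ⟶ X'} {uX : U ⟶ X} (hUV : IsPullback uV uX v f)
    (hUU' : IsPullback uU' uX u' t) {v' : V' ⟶ Y'} (hv₁ : iV ≫ v' = v ≫ t') (hv₂ : iU' ≫ v' = u' ≫ f')
    (hM : Mil f' t') (hM' : Mil iU' iV) (hV' : IsAlgSpace V') (hY' : IsAlgSpace Y')

include sq sq' hUV hUU' hv₁ hv₂ hM hM' hV' hY'

/-- The vertical faces of a cube of Milnor squares are cartesian. -/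
theorem isPullback_faces : IsPullback iV v v' t' ∧ IsPullback iU' u' v' f' := by
  obtain ⟨ι, T, T', b, h, b', hT, hT', hb, hb', hw, hs⟩ := K642.Charts2.exists_affine_charts_over hV' hY' v'
  have hex : ∀ i, ∃ (TV TU' : Over S) (gV : (yon S).obj TV ⟶ V) (tV : TV ⟶ T' i) (gU' : (yon S).obj TU' ⟶ U')
      (tU' : TU' ⟶ T' i), IsPullback gV ((yon S).map tV) iV (b' i) ∧ IsPullback gU' ((yon S).map tU') iU' (b' i) ∧
      IsPullback ((yon S).map tV) (gV ≫ v) (b' i ≫ v') t' ∧ IsPullback ((yon S).map tU') (gU' ≫ u') (b' i ≫ v') f' := by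
    intro i
    obtain ⟨TY, tY, gY, sqY⟩ := hM.closed.1 (b i)
    obtain ⟨TX', tX', gX', sqX'⟩ := hM.affine.1 (b i)
    obtain ⟨TV, tV, gV, sqV⟩ := hM'.closed.1 (b' i)
    obtain ⟨TU', tU', gU', sqU'⟩ := hM'.affine.1 (b' i)
    obtain ⟨m, n, hm, hn, s1, s2, -⟩ := local_cube sq sq' hUV hUU' hv₁ hv₂ hM hM' (hw i) (hT i) (hT' i) (hb i)
      (hb' i) sqY sqX' sqV sqU'
    refine ⟨TV, TU', gV, tV, gU', tU', sqV, sqU', ?_, ?_⟩
    · rw [← hm, hw i]
      exact (s1.flip.map (yon S)).paste_vert sqY.flip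
    · rw [← hn, hw i]
      exact (s2.flip.map (yon S)).paste_vert sqX'.flip
  choose TV TU' gV tV gU' tU' s1 s2 s3 s4 using hex
  exact ⟨K641.LocPb.isPullback_of_charts hv₁ hb' hs s1 s3, K641.LocPb.isPullback_of_charts hv₂ hb' hs s2 s4⟩

/-- Local properties are detected on the vertical faces of a cube of Milnor squares. -/
theorem locP_of_faces {P : MorphismProperty Scheme.{u}} (hP : K597.EtLoc P) (hD : Detects S P) (h1 : LocP P v)
    (h2 : LocP P u') : LocP P v' := by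
  obtain ⟨ι, T, T', b, h, b', hT, hT', hb, hb', hw, hs⟩ := K642.Charts2.exists_affine_charts_over hV' hY' v'
  refine K597.locP_of_local hP v' fun U₀ a₀ ha₀ x => ?_
  obtain ⟨i, r, hr⟩ := hs (Points.ofPt a₀ x)
  obtain ⟨W, q, p, sqW⟩ := (hb' i).1 a₀
  obtain ⟨p, rfl⟩ := (yon S).map_surjective p
  obtain ⟨y, hy1, hy2⟩ := (K609.Points.ofPt_eq_ofPt_iff sqW r x).1 hr
  refine ⟨T' i, T i, W, b' i, b i, h i, p, q, hb i, hw i, ?_, sqW.w, ha₀.2 _ _ _ sqW.flip, (hb' i).2 _ _ _ sqW,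
    ⟨y, hy2⟩⟩
  obtain ⟨TY, tY, gY, sqY⟩ := hM.closed.1 (b i)
  obtain ⟨TX', tX', gX', sqX'⟩ := hM.affine.1 (b i)
  obtain ⟨TV, tV, gV, sqV⟩ := hM'.closed.1 (b' i)
  obtain ⟨TU', tU', gU', sqU'⟩ := hM'.affine.1 (b' i)
  obtain ⟨m, n, hm, hn, s1, s2, h5⟩ := local_cube sq sq' hUV hUU' hv₁ hv₂ hM hM' (hw i) (hT i) (hT' i) (hb i)
    (hb' i) sqY sqX' sqV sqU'
  have c1 : IsClosedImmersion tY.left := hM.closed.2 _ _ _ sqY
  have c2 : IsAffineHom tX'.left := hM.affine.2 _ _ _ sqX'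
  have c3 : IsClosedImmersion tV.left := hM'.closed.2 _ _ _ sqV
  have c4 : IsAffineHom tU'.left := hM'.affine.2 _ _ _ sqU'
  have d1 := hT i
  have d2 := hT' i
  have a1 : IsAffine TY.left := isAffine_of_isAffineHom tY.left
  have a2 : IsAffine TX'.left := isAffine_of_isAffineHom tX'.left
  have a4 : IsAffine TV.left := isAffine_of_isAffineHom tV.left
  have a5 : IsAffine TU'.left := isAffine_of_isAffineHom tU'.left
  have e1 : RepWith @Etale gV := (RepWith @Etale).of_isPullback sqV.flip (hb' i)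
  have e2 : RepWith @Etale gU' := (RepWith @Etale).of_isPullback sqU'.flip (hb' i)
  have e3 : RepWith @Etale gY := (RepWith @Etale).of_isPullback sqY.flip (hb i)
  have e4 : RepWith @Etale gX' := (RepWith @Etale).of_isPullback sqX'.flip (hb i)
  exact hD _ _ _ _ _ _ (h i) m n d1 d2 a1 a2 a4 a5 h5 (h1 gV gY m e1 e3 hm.symm) (h2 gU' gX' n e2 e4 hn.symm)

/-- Local properties hold exactly when they hold on the vertical faces. -/
theorem locP_iff {P : MorphismProperty Scheme.{u}} (hP : K597.EtLoc P) [P.IsStableUnderBaseChange]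
    (hD : Detects S P) (hY : IsAlgSpace Y) (hX' : IsAlgSpace X') :
    LocP P v' ↔ LocP P v ∧ LocP P u' := by
  obtain ⟨s1, s2⟩ := isPullback_faces sq sq' hUV hUU' hv₁ hv₂ hM hM' hV' hY'
  refine ⟨fun h => ⟨?_, ?_⟩, fun h => locP_of_faces sq sq' hUV hUU' hv₁ hv₂ hM hM' hV' hY' hP hD h.1 h.2⟩
  · exact K597.locP_bc hP s1 hV'.hasAtlas hY'.hasAtlas hY.hasAtlas h
  · exact K597.locP_bc hP s2 hV'.hasAtlas hY'.hasAtlas hX'.hasAtlas h

end

end K641.MilGlobal
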