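import Groth.Agent.AlgSp.K641.MilLift
import Groth.Prelude.Def_AlgSpInf

/-!
# Pushouts along a thickening and an affine morphism are Milnor squares
-/

set_option autoImplicit false
universe u

open CategoryTheory CategoryTheory.Limits AlgebraicGeometry

namespace K641.MilSpace

open AlgSp K641.MilSp

variable {S : Scheme.{u}}

/-- Existence of the pushout. -/
theorem exists_pushout {X X' Y : Space S} (t : X ⟶ X') (ht : IsThickMor t.hom) (f : X ⟶ Y) (hf : IsAffineMor f.hom)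
    (hL : LiftEt t.hom) :
    ∃ (Y' : Space S) (f' : X' ⟶ Y') (t' : Y ⟶ Y'), IsPushout t f f' t' ∧ IsThickMor t'.hom ∧
      IsPullback t.hom f.hom f'.hom t'.hom ∧ Mil f'.hom t'.hom := by
  obtain ⟨Y', f', t', hY', sq, hM, ht'⟩ := exists_mil X'.property Y.property t.hom ht f.hom
    (K597.Affine.isAffineMor_iff.1 hf) hL
  let Y'' : Space S := ⟨Y', hY'⟩
  let f'' : X' ⟶ Y'' := ObjectProperty.homMk f'
  let t'' : Y ⟶ Y'' := ObjectProperty.homMk t'
  exact ⟨Y'', f'', t'', K641.MilMain.isPushout (t' := t'') (f' := f'') sq hM ht', ht', sq, hM⟩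

/-- Every pushout is a Milnor square. -/
theorem mil_of_isPushout {X X' Y Y' : Space S} {t : X ⟶ X'} (ht : IsThickMor t.hom) {f : X ⟶ Y}
    (hf : IsAffineMor f.hom) (hL : LiftEt t.hom) {f' : X' ⟶ Y'} {t' : Y ⟶ Y'} (h : IsPushout t f f' t') :
    IsPullback t.hom f.hom f'.hom t'.hom ∧ Mil f'.hom t'.hom ∧ IsThickMor t'.hom := by
  obtain ⟨Y₁, f₁, t₁, hpo, ht₁, sq, hM⟩ := exists_pushout t ht f hf hL
  let e : Y₁ ≅ Y' := hpo.isoIsPushout _ _ h
  have e1 : f₁ ≫ e.hom = f' := hpo.inl_isoIsPushout_hom _ _ h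
  have e2 : t₁ ≫ e.hom = t' := hpo.inr_isoIsPushout_hom _ _ h
  let e' : Y₁.obj ≅ Y'.obj := (ObjectProperty.ι _).mapIso e
  have e1' : f₁.hom ≫ e'.hom = f'.hom := congrArg (fun q => q.hom) e1
  have e2' : t₁.hom ≫ e'.hom = t'.hom := congrArg (fun q => q.hom) e2
  refine ⟨?_, ?_, ?_⟩
  · exact IsPullback.of_iso sq (Iso.refl _) (Iso.refl _) (Iso.refl _) e' (by simp) (by simp)
      (by rw [e1', Iso.refl_hom, Category.id_comp]) (by rw [e2', Iso.refl_hom, Category.id_comp])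
  · have := K641.MilOver.mil_of_iso hM Y₁.property e'
    rwa [e1', e2'] at this
  · rw [← e2']
    exact (MorphismProperty.cancel_right_of_respectsIso (RepWith thick) t₁.hom e'.hom).2 ht₁

section

variable {X X' Y Y' U U' V V' : Space S}
    (t : X ⟶ X') (ht : IsThickMor t.hom) (f : X ⟶ Y) (hf : IsAffineMor f.hom) (f' : X' ⟶ Y')
    (t' : Y ⟶ Y') (hY' : IsPushout t f f' t') (v : V ⟶ Y) (u' : U' ⟶ X') (uV : U ⟶ V) (uU' : U ⟶ U')
    (uX : U ⟶ X) (hUV : IsPullback uV.hom uX.hom v.hom f.hom) (hUU' : IsPullback uU'.hom uX.hom u'.hom t.hom)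
    (iV : V ⟶ V') (iU' : U' ⟶ V') (hV' : IsPushout uV uU' iV iU') (v' : V' ⟶ Y')
    (hv'₁ : iV ≫ v' = v ≫ t') (hv'₂ : iU' ≫ v' = u' ≫ f') (hL : ∀ {A B : Space S} (t : A ⟶ B), IsThickMor t.hom →
      LiftEt t.hom)

include ht hf hY' hUV hUU' hV' hv'₁ hv'₂ hL

theorem data : IsPullback t.hom f.hom f'.hom t'.hom ∧ Mil f'.hom t'.hom ∧ IsPullback uU'.hom uV.hom iU'.hom iV.hom ∧
    Mil iU'.hom iV.hom ∧ iV.hom ≫ v'.hom = v.hom ≫ t'.hom ∧ iU'.hom ≫ v'.hom = u'.hom ≫ f'.hom := by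
  obtain ⟨h1, h2, -⟩ := mil_of_isPushout ht hf (hL t ht) hY'
  have htU : IsThickMor uU'.hom := (RepWith thick).of_isPullback hUU'.flip ht
  have hfU : IsAffineMor uV.hom := by
    rw [K597.Affine.isAffineMor_iff] at hf ⊢
    exact (RepWith @IsAffineHom).of_isPullback hUV.flip hf
  obtain ⟨h3, h4, -⟩ := mil_of_isPushout htU hfU (hL uU' htU) hV'.flip
  exact ⟨h1, h2, h3, h4, congrArg (fun q => q.hom) hv'₁, congrArg (fun q => q.hom) hv'₂⟩

theorem faces : IsPullback iV.hom v.hom v'.hom t'.hom ∧ IsPullback iU'.hom u'.hom v'.hom f'.hom := by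
  obtain ⟨h1, h2, h3, h4, h5, h6⟩ := data t ht f hf f' t' hY' v u' uV uU' uX hUV hUU' iV iU' hV' v' hv'₁ hv'₂ hL
  exact K641.MilGlobal.isPullback_faces h1 h3 hUV hUU' h5 h6 h2 h4 V'.property Y'.property

theorem locP_iff {P : MorphismProperty Scheme.{u}} (hP : K597.EtLoc P) [P.IsStableUnderBaseChange]
    (hD : K641.MilGlobal.Detects S P) : LocP P v'.hom ↔ LocP P v.hom ∧ LocP P u'.hom := by
  obtain ⟨h1, h2, h3, h4, h5, h6⟩ := data t ht f hf f' t' hY' v u' uV uU' uX hUV hUU' iV iU' hV' v' hv'₁ hv'₂ hL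
  exact K641.MilGlobal.locP_iff h1 h3 hUV hUU' h5 h6 h2 h4 V'.property Y'.property hP hD Y.property X'.property

end

end K641.MilSpace
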