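import Groth.Agent.AlgSp.K641.MilMain
import Groth.Agent.AlgSp.K641.MilGlobal
import Groth.Agent.S1442
import Groth.Agent.Old.H23.PushQf

/-!
# Pushouts of schemes along a closed immersion and an integral morphism
-/

set_option autoImplicit false
universe u

open CategoryTheory CategoryTheory.Limits AlgebraicGeometry

namespace K641.MilInt

open AlgSp K641.MilRing K641.MilLoc K641.MilSp K641.MilCharts K641.MilPush K641.MilThick K635.Glue
open Groth.Agent.FlatB.PushPair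

variable {S : Scheme.{u}}

/-- The condition on fibres. -/
def Aff {X Y Z : Scheme.{u}} (i : Z ⟶ X) (j : Z ⟶ Y) : Prop :=
  ∀ y : Y, ∃ U : X.Opens, IsAffineOpen U ∧ j ⁻¹' {y} ⊆ i ⁻¹' (U : Set X)

theorem exists_pair {X Y Z : Scheme.{u}} (i : Z ⟶ X) [IsClosedImmersion i] (j : Z ⟶ Y) [IsIntegralHom j]
    (h : Aff i j) (y : Y) : ∃ P : Pair i j, y ∈ P.V := by
  obtain ⟨U, V, hU, hV, hy, he⟩ := Groth.Agent.S1442.result i j h y
  exact ⟨⟨U, V, _, hU, hV, he, rfl⟩, hy⟩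

theorem aff_bc {X Y Z X' Y' Z' : Scheme.{u}} (i : Z ⟶ X) (j : Z ⟶ Y) (h3 : Aff i j) (i' : Z' ⟶ X') (j' : Z' ⟶ Y')
    (f : X' ⟶ X) (g : Y' ⟶ Y) (h : Z' ⟶ Z) (hX : h ≫ i = i' ≫ f) (hY : h ≫ j = j' ≫ g)
    [IsSeparated f] [LocallyQuasiFinite f] [LocallyOfFiniteType f] [IsIntegralHom j'] : Aff i' j' := by
  intro y'
  obtain ⟨U, hU, hyU⟩ := h3 (g y')
  obtain ⟨V, hV, hyV⟩ := Groth.Agent.Old.H23.PushQf.exists_affine f i' j' y' U hU (by
    intro z hz
    have h1 : f (i' z) = i (h z) := by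
      rw [← Scheme.Hom.comp_apply, ← hX, Scheme.Hom.comp_apply]
    have h2 : j (h z) = g y' := by
      rw [← hz, ← Scheme.Hom.comp_apply, hY, Scheme.Hom.comp_apply]
    rw [h1]
    exact hyU h2)
  exact ⟨V, hV, fun z hz => hyV z hz⟩

theorem etGlu {V VY VX' VX : Over S} {tY : VY ⟶ V} {tX' : VX' ⟶ V} {k₁ : VX ⟶ VY} {k₂ : VX ⟶ VX'}
    [IsClosedImmersion k₂.left] [IsIntegralHom k₁.left] (h3 : Aff k₂.left k₁.left) (sq : IsPullback k₁ k₂ tY tX')
    (hM : Mil ((yon S).map tX') ((yon S).map tY)) : EtGlu tY tX' k₁ k₂ := by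
  intro UY UX' UX uY uX' uX l₁ l₂ he1 he2 hs1 hs2 sq₁ sq₂
  have q2 : IsPullback l₂.left uX.left uX'.left k₂.left := sq₂.map (Over.forget S)
  have q1 : IsPullback l₁.left uX.left uY.left k₁.left := sq₁.map (Over.forget S)
  have c1 : IsClosedImmersion l₂.left :=
    MorphismProperty.of_isPullback (P := @IsClosedImmersion) q2.flip inferInstance
  have c2 : IsIntegralHom l₁.left :=
    MorphismProperty.of_isPullback (P := @IsIntegralHom) q1.flip inferInstance
  have c3 : LocallyQuasiFinite uX'.left := K597.locallyQuasiFinite_of_etale _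
  have h3' : Aff l₂.left l₁.left := by
    refine aff_bc k₂.left k₁.left h3 l₂.left l₁.left uX'.left uY.left uX.left ?_ ?_
    · exact (congrArg CommaMorphism.left sq₂.w).symm
    · exact (congrArg CommaMorphism.left sq₁.w).symm
  obtain ⟨U, m₂, m₁, hpo, hpb, hM', -, hj⟩ := K641.MilOver.exists_over (exists_pair l₂.left l₁.left h3')
  have hw : l₂ ≫ uX' ≫ tX' = l₁ ≫ uY ≫ tY := by
    rw [← Category.assoc, sq₂.w, ← Category.assoc, sq₁.w, Category.assoc, Category.assoc, sq.w]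
  let u : U ⟶ V := hpo.desc (uX' ≫ tX') (uY ≫ tY) hw
  have hu1 : m₂ ≫ u = uX' ≫ tX' := hpo.inl_desc _ _ _
  have hu2 : m₁ ≫ u = uY ≫ tY := hpo.inr_desc _ _ _
  have sqA := (sq.flip).map (yon S)
  have sqB := hpb.map (yon S)
  have w1 : (yon S).map m₁ ≫ (yon S).map u = (yon S).map uY ≫ (yon S).map tY := by
    rw [← Functor.map_comp, ← Functor.map_comp, hu2]
  have w2 : (yon S).map m₂ ≫ (yon S).map u = (yon S).map uX' ≫ (yon S).map tX' := by
    rw [← Functor.map_comp, ← Functor.map_comp, hu1]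
  obtain ⟨f1, f2⟩ := K641.MilGlobal.isPullback_faces sqA sqB (sq₁.map (yon S)) (sq₂.map (yon S)) w1 w2 hM hM'
    (IsAlgSpace.yon_obj _) (IsAlgSpace.yon_obj _)
  refine ⟨U, u, m₁, m₂, ?_, IsPullback.of_map (yon S) hu2 f1, IsPullback.of_map (yon S) hu1 f2, hpo.w.symm⟩
  have := K641.MilGlobal.locP_of_faces sqA sqB (sq₁.map (yon S)) (sq₂.map (yon S)) w1 w2 hM hM'
    (IsAlgSpace.yon_obj _) (IsAlgSpace.yon_obj _) K597.etLoc_etale K641.MilGlobal.detects_etale
    (K597.locP_of_repWith K597.etLoc_etale.precomp ((repWith_yon_map_iff _ _).2 he1))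
    (K597.locP_of_repWith K597.etLoc_etale.precomp ((repWith_yon_map_iff _ _).2 he2))
  exact locP_yon_map this

end K641.MilInt
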