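import Groth.Agent.AlgSp.K641.MilSpace
import Groth.Prelude.Def_AlgSpOX2

/-!
# Lifting etale schemes from the equivalence of small etale sites
-/

set_option autoImplicit false
universe u

open CategoryTheory CategoryTheory.Limits AlgebraicGeometry

namespace K641.MilSpace

open AlgSp

variable {S : Scheme.{u}}

theorem liftEt_of_bc {X X' : Sp S} {t : X ⟶ X'} (ht : Representable t) (h : (EtOver.bc ht).EssSurj) : LiftEt t := by
  intro U u hu
  let E : EtOver X := EtOver.mk u hu
  obtain ⟨E', ⟨e⟩⟩ := h.mem_essImage E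
  let e' : (EtOver.bcObj ht E').obj ≅ E.obj := (ObjectProperty.ι _).mapIso e
  let i : (EtOver.bcObj ht E').obj.left ≅ U := (CostructuredArrow.proj _ _).mapIso e'
  have hi : (yon S).map i.hom ≫ u = (EtOver.bcObj ht E').obj.hom := CostructuredArrow.w e'.hom
  refine ⟨E'.obj.left, E'.obj.hom, i.inv ≫ EtOver.bcπ ht E', E'.property, ?_⟩
  refine IsPullback.of_iso (EtOver.isPullback_bcObj ht E').flip ((yon S).mapIso i) (Iso.refl _) (Iso.refl _) (Iso.refl _)
    ?_ ?_ ?_ ?_
  · simp
  · simpa using hi.symm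
  · simp
  · simp

end K641.MilSpace
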