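import Groth.Agent.AlgSp.K641.ColimSch
import Groth.Agent.AlgSp.K635.Glue

/-!
# Pushouts of algebraic spaces are local on the target
-/

set_option autoImplicit false
universe u

open CategoryTheory CategoryTheory.Limits AlgebraicGeometry

namespace K641.MilLoc

open AlgSp K635.Glue

variable {S : Scheme.{u}}

/-- Comparison of the base changes of `f : F ⟶ G` to two schemes. -/
theorem exists_bc {F G : Sp S} {f : F ⟶ G} {V VF T TF : Over S} {p : (yon S).obj V ⟶ G}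
    {gV : (yon S).obj VF ⟶ F} {tV : VF ⟶ V} (sqV : IsPullback gV ((yon S).map tV) f p)
    {gT : (yon S).obj TF ⟶ F} {tT : TF ⟶ T} (v : T ⟶ V)
    (sqT : IsPullback gT ((yon S).map tT) f ((yon S).map v ≫ p)) :
    ∃ w : TF ⟶ VF, IsPullback w tT tV v ∧ (yon S).map w ≫ gV = gT := by
  have h : gT ≫ f = (yon S).map (tT ≫ v) ≫ p := by
    rw [sqT.w, Functor.map_comp, Category.assoc]
  refine ⟨(yon S).preimage (sqV.lift gT ((yon S).map (tT ≫ v)) h), ?_, ?_⟩
  · have w1 : (yon S).preimage (sqV.lift gT ((yon S).map (tT ≫ v)) h) ≫ tV = tT ≫ v := by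
      apply (yon S).map_injective
      rw [Functor.map_comp, (yon S).map_preimage, sqV.lift_snd]
    refine IsPullback.of_map (yon S) w1 (IsPullback.of_right ?_ ?_ sqV)
    · rw [(yon S).map_preimage, sqV.lift_fst]
      exact sqT
    · rw [← Functor.map_comp, w1, Functor.map_comp]
  · rw [(yon S).map_preimage, sqV.lift_fst]

/-- Hypothesis of local-to-global: affine charts are pushouts against `F`. -/
def LocPush {X' Y Y' : Sp S} (f' : X' ⟶ Y') (t' : Y ⟶ Y') (F : Sp S) : Prop :=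
  ∀ (V VY VX' VX : Over S) (c : (yon S).obj V ⟶ Y') (_ : IsAffChart c) (gY : (yon S).obj VY ⟶ Y) (tY : VY ⟶ V)
    (_ : IsPullback gY ((yon S).map tY) t' c) (gX' : (yon S).obj VX' ⟶ X') (tX' : VX' ⟶ V)
    (_ : IsPullback gX' ((yon S).map tX') f' c) (k₁ : VX ⟶ VY) (k₂ : VX ⟶ VX') (_ : IsPullback k₁ k₂ tY tX')
    (a : (yon S).obj VX' ⟶ F) (b : (yon S).obj VY ⟶ F) (_ : (yon S).map k₂ ≫ a = (yon S).map k₁ ≫ b),
    ∃! φ : (yon S).obj V ⟶ F, (yon S).map tX' ≫ φ = a ∧ (yon S).map tY ≫ φ = b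

/-- The target is covered by charts: test for equality of two maps out of `X' ⟶ Y'`. -/
theorem hom_ext_over_charts {X' Y' F : Sp S} (hY' : IsAlgSpace Y') {f' : X' ⟶ Y'} (hf' : Representable f')
    {φ ψ : X' ⟶ F}
    (h : ∀ (V VX' : Over S) (c : (yon S).obj V ⟶ Y') (_ : IsAffChart c) (gX' : (yon S).obj VX' ⟶ X') (tX' : VX' ⟶ V)
    (_ : IsPullback gX' ((yon S).map tX') f' c), gX' ≫ φ = gX' ≫ ψ) : φ = ψ := by
  refine hom_ext_yon fun T x => ?_
  obtain ⟨ι, W, g, V, c, k, -, hg, hs, hc, hw⟩ := exists_cover_chart hY' (x ≫ f')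
  refine K635.Glue.hom_ext_cover W g (fun i ↦ ?_) (fun i ↦ ?_) hs (fun i ↦ ?_)
  · have := hg i; infer_instance
  · have := hg i; infer_instance
  · obtain ⟨VX', tX', gX', sq⟩ := hf' (c i)
    have w1 : ((yon S).map (g i) ≫ x) ≫ f' = (yon S).map (k i) ≫ c i := by
      rw [Category.assoc]
      exact hw i
    have h1 := sq.lift_fst _ _ w1
    rw [← Category.assoc, ← h1, Category.assoc, h _ _ (c i) (hc i) gX' tX' sq, ← Category.assoc, h1,
      Category.assoc]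

/-- Pushouts against `F` are local on the target. -/
theorem existsUnique_of_locPush {X X' Y Y' : Sp S} (hY' : IsAlgSpace Y') {t : X ⟶ X'} {f : X ⟶ Y} {f' : X' ⟶ Y'}
    {t' : Y ⟶ Y'} (sq : IsPullback t f f' t') (hf' : Representable f') (ht' : Representable t') {F : Sp S}
    (hL : LocPush f' t' F) (a : X' ⟶ F) (b : Y ⟶ F) (w : t ≫ a = f ≫ b) :
    ∃! φ : Y' ⟶ F, f' ≫ φ = a ∧ t' ≫ φ = b := by
  -- data over a chart
  have hex : ∀ (V : Over S) (c : (yon S).obj V ⟶ Y') (_ : IsAffChart c), ∃! φ : (yon S).obj V ⟶ F,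
      (∀ (VX' : Over S) (gX' : (yon S).obj VX' ⟶ X') (tX' : VX' ⟶ V) (_ : IsPullback gX' ((yon S).map tX') f' c),
        (yon S).map tX' ≫ φ = gX' ≫ a) ∧
      (∀ (VY : Over S) (gY : (yon S).obj VY ⟶ Y) (tY : VY ⟶ V) (_ : IsPullback gY ((yon S).map tY) t' c),
        (yon S).map tY ≫ φ = gY ≫ b) := by
    intro V c hc
    obtain ⟨VX', tX', gX', sqX⟩ := hf' c
    obtain ⟨VY, tY, gY, sqY⟩ := ht' c
    have sqVX := IsPullback.of_hasPullback tY tX'
    have w1 : (yon S).map (pullback.snd tY tX') ≫ gX' ≫ a = (yon S).map (pullback.fst tY tX') ≫ gY ≫ b := by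
      have w2 : ((yon S).map (pullback.snd tY tX') ≫ gX') ≫ f' = ((yon S).map (pullback.fst tY tX') ≫ gY) ≫ t' := by
        rw [Category.assoc, Category.assoc, sqX.w, sqY.w, ← Category.assoc, ← Category.assoc, ← Functor.map_comp,
          ← Functor.map_comp, sqVX.w]
      obtain ⟨l, e1, e2⟩ : ∃ l, l ≫ t = (yon S).map (pullback.snd tY tX') ≫ gX' ∧
        l ≫ f = (yon S).map (pullback.fst tY tX') ≫ gY := ⟨_, sq.lift_fst _ _ w2, sq.lift_snd _ _ w2⟩
      rw [← Category.assoc, ← Category.assoc, ← e1, ← e2, Category.assoc, Category.assoc, w]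
    obtain ⟨φ, ⟨h1, h2⟩, h3⟩ := hL V VY VX' _ c hc gY tY sqY gX' tX' sqX _ _ sqVX (gX' ≫ a) (gY ≫ b) w1
    refine ⟨φ, ⟨fun VX₁ g₁ t₁ sq₁ => ?_, fun VY₁ g₁ t₁ sq₁ => ?_⟩, fun ψ hψ => h3 ψ ⟨hψ.1 _ _ _ sqX, hψ.2 _ _ _ sqY⟩⟩
    · have sq₁' : IsPullback g₁ ((yon S).map t₁) f' ((yon S).map (𝟙 V) ≫ c) := by
        rwa [CategoryTheory.Functor.map_id, Category.id_comp]
      obtain ⟨m, hm, hm'⟩ := exists_bc sqX (𝟙 V) sq₁'
      rw [← hm', Category.assoc, ← h1, ← Category.assoc, ← Functor.map_comp, hm.w, Category.comp_id]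
    · have sq₁' : IsPullback g₁ ((yon S).map t₁) t' ((yon S).map (𝟙 V) ≫ c) := by
        rwa [CategoryTheory.Functor.map_id, Category.id_comp]
      obtain ⟨m, hm, hm'⟩ := exists_bc sqY (𝟙 V) sq₁'
      rw [← hm', Category.assoc, ← h2, ← Category.assoc, ← Functor.map_comp, hm.w, Category.comp_id]
  choose Φ hΦ hΦ' using hex
  obtain ⟨φ, hφ⟩ := exists_hom_of_charts hY' F Φ (fun V W c hc g hc' hg => by
    refine hΦ' W _ hc' _ ⟨fun VX₁ g₁ t₁ sq₁ => ?_, fun VY₁ g₁ t₁ sq₁ => ?_⟩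
    · obtain ⟨VX', tX', gX', sqX⟩ := hf' c
      obtain ⟨m, hm, hm'⟩ := exists_bc sqX g sq₁
      rw [← hm', Category.assoc, ← (hΦ V c hc).1 _ _ _ sqX, ← Category.assoc, ← Category.assoc, ← Functor.map_comp,
        ← Functor.map_comp, hm.w]
    · obtain ⟨VY, tY, gY, sqY⟩ := ht' c
      obtain ⟨m, hm, hm'⟩ := exists_bc sqY g sq₁
      rw [← hm', Category.assoc, ← (hΦ V c hc).2 _ _ _ sqY, ← Category.assoc, ← Category.assoc, ← Functor.map_comp,
        ← Functor.map_comp, hm.w])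
  refine ⟨φ, ⟨?_, ?_⟩, ?_⟩
  · refine hom_ext_over_charts hY' hf' fun V VX' c hc gX' tX' sqX => ?_
    rw [← Category.assoc, sqX.w, Category.assoc, hφ V c hc, (hΦ V c hc).1 _ _ _ sqX]
  · refine hom_ext_over_charts hY' ht' fun V VY c hc gY tY sqY => ?_
    rw [← Category.assoc, sqY.w, Category.assoc, hφ V c hc, (hΦ V c hc).2 _ _ _ sqY]
  · rintro ψ ⟨h1, h2⟩
    refine hom_ext_charts hY' fun V c hc => ?_
    rw [hφ V c hc]
    refine hΦ' V c hc _ ⟨fun VX₁ g₁ t₁ sq₁ => ?_, fun VY₁ g₁ t₁ sq₁ => ?_⟩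
    · rw [← Category.assoc, ← sq₁.w, Category.assoc, h1]
    · rw [← Category.assoc, ← sq₁.w, Category.assoc, h2]

end K641.MilLoc
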