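import Groth.Agent.AlgSp.K641.MilPush
import Groth.Agent.AlgSp.K635.EtLift

/-!
# Milnor squares of thickenings
-/

set_option autoImplicit false
universe u

open CategoryTheory CategoryTheory.Limits AlgebraicGeometry

namespace K641.MilThick

open AlgSp K641.MilRing K641.MilLoc K641.MilSp K641.MilPush K635.Glue

variable {S : Scheme.{u}}

theorem etale_of_isPullback {A B C D : Over S} {f : A ⟶ B} {g : A ⟶ C} {h : B ⟶ D} {k : C ⟶ D}
    (sq : IsPullback f g h k) (hh : Etale h.left) : Etale g.left :=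
  MorphismProperty.of_isPullback (P := @Etale) (sq.map (Over.forget S)) hh

theorem closed_of_isPullback {A B C D : Over S} {f : A ⟶ B} {g : A ⟶ C} {h : B ⟶ D} {k : C ⟶ D}
    (sq : IsPullback f g h k) (hh : IsClosedImmersion h.left) : IsClosedImmersion g.left :=
  MorphismProperty.of_isPullback (P := @IsClosedImmersion) (sq.map (Over.forget S)) hh

theorem surj_of_isPullback {A B C D : Over S} {f : A ⟶ B} {g : A ⟶ C} {h : B ⟶ D} {k : C ⟶ D}
    (sq : IsPullback f g h k) (hh : Surjective h.left) : Surjective g.left :=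
  MorphismProperty.of_isPullback (P := @Surjective) (sq.map (Over.forget S)) hh

/-- Cartesian squares of etale schemes can be checked over a thickening. -/
theorem isPullback_of_thick {V VX' VX U UX' UX : Over S} {k : VX ⟶ VX'} (hk : IsClosedImmersion k.left)
    (hk' : Surjective k.left) {tX' : VX' ⟶ V} {u : U ⟶ V} (hu : Etale u.left) {uX' : UX' ⟶ VX'}
    (hu' : Etale uX'.left) {uX : UX ⟶ VX} {l : UX ⟶ UX'} (sq : IsPullback l uX uX' k) {m : UX' ⟶ U}
    (hm : m ≫ u = uX' ≫ tX') (sq' : IsPullback (l ≫ m) uX u (k ≫ tX')) : IsPullback m uX' u tX' := by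
  let κ : UX' ⟶ pullback u tX' := pullback.lift m uX' hm
  have hκ1 : κ ≫ pullback.fst u tX' = m := pullback.lift_fst _ _ _
  have hκ2 : κ ≫ pullback.snd u tX' = uX' := pullback.lift_snd _ _ _
  have sqn : IsPullback (l ≫ κ) uX (pullback.snd u tX') k := by
    refine IsPullback.of_right ?_ ?_ (IsPullback.of_hasPullback u tX')
    · rw [Category.assoc, hκ1]
      exact sq'
    · rw [Category.assoc, hκ2, sq.w]
  have e1 : Etale (pullback.snd u tX').left := etale_of_isPullback (IsPullback.of_hasPullback u tX') hu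
  have c1 : IsClosedImmersion (l ≫ κ).left := closed_of_isPullback sqn.flip hk
  have c2 : Surjective (l ≫ κ).left := surj_of_isPullback sqn.flip hk'
  have c3 : IsClosedImmersion l.left := closed_of_isPullback sq.flip hk
  have c4 : Surjective l.left := surj_of_isPullback sq.flip hk'
  obtain ⟨inv, ⟨h1, h2⟩, -⟩ := K635.EtLift.over_existsUnique_lift uX' (l ≫ κ) l (pullback.snd u tX')
    (by rw [sqn.w, sq.w])
  have i1 : κ ≫ inv = 𝟙 _ := by
    refine (K635.EtLift.over_existsUnique_lift uX' l l uX' rfl).unique ⟨?_, ?_⟩ ⟨Category.comp_id _, Category.id_comp _⟩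
    · rw [← Category.assoc, h1]
    · rw [Category.assoc, h2, hκ2]
  have i2 : inv ≫ κ = 𝟙 _ := by
    refine (K635.EtLift.over_existsUnique_lift (pullback.snd u tX') (l ≫ κ) (l ≫ κ) (pullback.snd u tX') rfl).unique
      ⟨?_, ?_⟩ ⟨Category.comp_id _, Category.id_comp _⟩
    · rw [← Category.assoc, h1]
    · rw [Category.assoc, hκ2, h2]
  exact IsPullback.of_iso_pullback ⟨hm⟩ ⟨κ, inv, i1, i2⟩ hκ1 hκ2

/-- Etale schemes glue along a square with a thickening. -/
theorem etGlu {V VY VX' VX : Over S} {tY : VY ⟶ V} {tX' : VX' ⟶ V} {k₁ : VX ⟶ VY} {k₂ : VX ⟶ VX'}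
    (sq : IsPullback k₁ k₂ tY tX') [IsClosedImmersion tY.left] [Surjective tY.left]
    {UY UX' UX : Over S} {uY : UY ⟶ VY} {uX' : UX' ⟶ VX'} {uX : UX ⟶ VX} {l₁ : UX ⟶ UY} {l₂ : UX ⟶ UX'}
    (hY : Etale uY.left) (hX' : Etale uX'.left) (sq₁ : IsPullback l₁ uX uY k₁) (sq₂ : IsPullback l₂ uX uX' k₂) :
    ∃ (U : Over S) (u : U ⟶ V) (m₁ : UY ⟶ U) (m₂ : UX' ⟶ U), Etale u.left ∧ IsPullback m₁ uY u tY ∧
      IsPullback m₂ uX' u tX' ∧ l₁ ≫ m₁ = l₂ ≫ m₂ := by
  obtain ⟨U, u, i, hu, sqi⟩ := K635.EtLift.over_exists_etale_lift tY uY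
  have hk : IsClosedImmersion k₂.left := closed_of_isPullback sq ‹_›
  have hk' : Surjective k₂.left := surj_of_isPullback sq ‹_›
  have c3 : IsClosedImmersion l₂.left := closed_of_isPullback sq₂.flip hk
  have c4 : Surjective l₂.left := surj_of_isPullback sq₂.flip hk'
  have w : (l₁ ≫ i) ≫ u = l₂ ≫ uX' ≫ tX' := by
    rw [Category.assoc, sqi.w, ← Category.assoc, sq₁.w, Category.assoc, sq.w, ← Category.assoc, ← sq₂.w,
      Category.assoc]
  obtain ⟨m, ⟨h1, h2⟩, -⟩ := K635.EtLift.over_existsUnique_lift u l₂ (l₁ ≫ i) (uX' ≫ tX') w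
  refine ⟨U, u, i, m, hu, sqi, ?_, h1.symm⟩
  refine isPullback_of_thick hk hk' hu hX' sq₂ h2 ?_
  rw [h1, ← sq.w]
  exact sq₁.paste_horiz sqi

end K641.MilThick
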