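import Groth.Agent.AlgSp.K641.MilOver
import Groth.Agent.AlgSp.K641.MilThick

/-!
# Milnor squares with a thickening are pushouts of algebraic spaces
-/

set_option autoImplicit false
universe u

open CategoryTheory CategoryTheory.Limits AlgebraicGeometry

namespace K641.MilMain

open AlgSp K641.MilRing K641.MilLoc K641.MilSp K641.MilCharts K641.MilPush K641.MilThick K635.Glue

variable {S : Scheme.{u}}

theorem locPush {X' Y Y' : Sp S} {f' : X' ⟶ Y'} {t' : Y ⟶ Y'} (h : Mil f' t') (hY' : IsAlgSpace Y')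
    (ht : RepWith thick t') {Z : Sp S} (hZ : IsAlgSpace Z) : LocPush f' t' Z := by
  intro V VY VX' VX c hc gY tY sqY gX' tX' sqX' k₁ k₂ sq a b hab
  have hth : thick tY.left := ht.2 _ _ _ sqY
  have h1 : IsClosedImmersion tY.left := hth.1
  have h2 : Surjective tY.left := hth.2
  refine existsUnique_desc sq ?_ ?_ (fun x => Or.inr (h2.surj x)) hZ a b hab
  · exact h.bc hY' (IsAlgSpace.yon_obj V) (w := c)
      (K597.locP_of_repWith K597.etLoc_flat.precomp
        (K597.repWith_mono (fun _ _ f (hf : Etale f) => (inferInstance : Flat f)) hc.et)) sqX'.flip sqY.flip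
  · exact fun UY UX' UX uY uX' uX l₁ l₂ hY hX' _ _ sq₁ sq₂ => etGlu sq hY hX' sq₁ sq₂

/-- Milnor squares with a thickening are pushouts against algebraic spaces. -/
theorem existsUnique {X X' Y Y' : Sp S} {t : X ⟶ X'} {f : X ⟶ Y} {f' : X' ⟶ Y'} {t' : Y ⟶ Y'}
    (sq : IsPullback t f f' t') (h : Mil f' t') (hY' : IsAlgSpace Y') (ht : RepWith thick t') {Z : Sp S}
    (hZ : IsAlgSpace Z) (a : X' ⟶ Z) (b : Y ⟶ Z) (w : t ≫ a = f ≫ b) :
    ∃! φ : Y' ⟶ Z, f' ≫ φ = a ∧ t' ≫ φ = b :=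
  existsUnique_of_locPush hY' sq h.affine.1 h.closed.1 (locPush h hY' ht hZ) a b w

theorem isPushout_of_existsUnique {X X' Y Y' : Space S} {t : X ⟶ X'} {f : X ⟶ Y} {f' : X' ⟶ Y'} {t' : Y ⟶ Y'}
    (w : t ≫ f' = f ≫ t')
    (h : ∀ (Z : Space S) (a : X'.obj ⟶ Z.obj) (b : Y.obj ⟶ Z.obj), t.hom ≫ a = f.hom ≫ b →
      ∃! φ : Y'.obj ⟶ Z.obj, f'.hom ≫ φ = a ∧ t'.hom ≫ φ = b) : IsPushout t f f' t' := by
  have h' : ∀ s : PushoutCocone t f, ∃! φ : Y'.obj ⟶ s.pt.obj, f'.hom ≫ φ = s.inl.hom ∧ t'.hom ≫ φ = s.inr.hom :=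
    fun s => h s.pt s.inl.hom s.inr.hom (congrArg (fun q => q.hom) s.condition)
  choose φ hφ hφ' using h'
  refine ⟨⟨w⟩, ⟨PushoutCocone.IsColimit.mk _ (fun s => ObjectProperty.homMk (φ s)) ?_ ?_ ?_⟩⟩
  · exact fun s => ObjectProperty.hom_ext _ (hφ s).1
  · exact fun s => ObjectProperty.hom_ext _ (hφ s).2
  · intro s m h1 h2
    apply ObjectProperty.hom_ext
    exact hφ' s _ ⟨congrArg (fun q => q.hom) h1, congrArg (fun q => q.hom) h2⟩

/-- Milnor squares with a thickening are pushouts of algebraic spaces. -/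
theorem isPushout {X X' Y Y' : Space S} {t : X ⟶ X'} {f : X ⟶ Y} {f' : X' ⟶ Y'} {t' : Y ⟶ Y'}
    (sq : IsPullback t.hom f.hom f'.hom t'.hom) (h : Mil f'.hom t'.hom) (ht : RepWith thick t'.hom) :
    IsPushout t f f' t' :=
  isPushout_of_existsUnique (ObjectProperty.hom_ext _ sq.w) fun Z a b w =>
    existsUnique sq h Y'.property ht Z.property a b w

end K641.MilMain
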