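import Groth.Agent.AlgSp.K641.MilExist

/-!
# Pushouts of schemes over `S` are Milnor squares
-/

set_option autoImplicit false
universe u

open CategoryTheory CategoryTheory.Limits AlgebraicGeometry

namespace K641.MilOver

open AlgSp K641.MilRing K641.MilLoc K641.MilSp K641.MilCharts K635.Glue
open Groth.Agent.FlatB.PushPair

variable {S : Scheme.{u}}

/-- Transport along an isomorphism. -/
theorem mil_of_iso {X' Y Y' Y'' : Sp S} {f' : X' ⟶ Y'} {t' : Y ⟶ Y'} (h : Mil f' t') (hY' : IsAlgSpace Y')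
    (e : Y' ≅ Y'') : Mil (f' ≫ e.hom) (t' ≫ e.hom) := by
  refine h.bc hY' (hY'.of_iso e) (w := e.inv) (bX' := 𝟙 _) (bY := 𝟙 _) ?_ ?_ ?_
  · refine K597.locP_of_repWith K597.etLoc_flat.precomp ?_
    exact (RepWith @Flat).of_isIso e.inv
  · exact IsPullback.of_vert_isIso ⟨by simp⟩
  · exact IsPullback.of_vert_isIso ⟨by simp⟩

theorem exists_over {X Y Z : Over S} {i : Z ⟶ X} {j : Z ⟶ Y} [IsClosedImmersion i.left]
    (H : ∀ y : Y.left, ∃ P : Pair i.left j.left, y ∈ P.V) :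
    ∃ (W : Over S) (a : X ⟶ W) (b : Y ⟶ W), IsPushout i j a b ∧ IsPullback i j a b ∧
      Mil ((yon S).map a) ((yon S).map b) ∧ (Function.Surjective i.left → Function.Surjective b.left) ∧
      (∀ w : W.left, (∃ x, a.left x = w) ∨ ∃ y, b.left y = w) := by
  obtain ⟨W, a, b, hpo, hpb, hcl, haf, hsu, hjs, hch⟩ := K641.MilExist.exists_scheme (i := i.left) (j := j.left) H
  have hw : i.left ≫ X.hom = j.left ≫ Y.hom := by rw [Over.w, Over.w]
  let h : W ⟶ S := hpo.desc X.hom Y.hom hw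
  have hha : a ≫ h = X.hom := hpo.inl_desc _ _ _
  have hhb : b ≫ h = Y.hom := hpo.inr_desc _ _ _
  let W' : Over S := Over.mk h
  let a' : X ⟶ W' := Over.homMk a hha
  let b' : Y ⟶ W' := Over.homMk b hhb
  have w' : i ≫ a' = j ≫ b' := by
    apply Over.OverMorphism.ext
    exact hpo.w
  refine ⟨W', a', b', IsPushout.of_map (Over.forget S) w' hpo, IsPullback.of_map (Over.forget S) w' hpb, ?_, hsu, hjs⟩
  refine mil_of_charts ((repWith_yon_map_iff _ _).2 hcl) ((repWith_yon_map_iff _ _).2 haf) fun z => ?_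
  obtain ⟨w, rfl⟩ := K609.Points.ofScheme_surjective W' z
  obtain ⟨V, VX, VY, c, gY, tY, gX, tX, v, hV, hc, sqY, sqX, hR, hv⟩ := hch w
  let V' : Over S := Over.mk (c ≫ h)
  let c' : V' ⟶ W' := Over.homMk c rfl
  let VY' : Over S := Over.mk (tY ≫ c ≫ h)
  let tY' : VY' ⟶ V' := Over.homMk tY rfl
  have e1 : gY ≫ Y.hom = tY ≫ c ≫ h := by
    rw [← hhb, ← Category.assoc, sqY.w, Category.assoc]
  let gY' : VY' ⟶ Y := Over.homMk gY e1
  let VX' : Over S := Over.mk (tX ≫ c ≫ h)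
  let tX' : VX' ⟶ V' := Over.homMk tX rfl
  have e2 : gX ≫ X.hom = tX ≫ c ≫ h := by
    rw [← hha, ← Category.assoc, sqX.w, Category.assoc]
  let gX' : VX' ⟶ X := Over.homMk gX e2
  have w1 : gY' ≫ b' = tY' ≫ c' := by
    apply Over.OverMorphism.ext
    exact sqY.w
  have w2 : gX' ≫ a' = tX' ≫ c' := by
    apply Over.OverMorphism.ext
    exact sqX.w
  have s1 : IsPullback gY' tY' b' c' := IsPullback.of_map (Over.forget S) w1 sqY
  have s2 : IsPullback gX' tX' a' c' := IsPullback.of_map (Over.forget S) w2 sqX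
  refine ⟨V', VY', VX', (yon S).map c', (yon S).map gY', tY', (yon S).map gX', tX', v, hV, ?_, s1.map (yon S),
    s2.map (yon S), hR, ?_⟩
  · refine (repWith_yon_map_iff _ _).2 ?_
    change Etale c
    infer_instance
  · rw [K609.Points.ofPt_yon_map]
    exact congrArg (Points.ofScheme W') hv

/-- Pushouts of schemes over `S` (with adapted pairs of affine opens) are Milnor squares. -/
theorem mil_of_isPushout {X Y Z W : Over S} {i : Z ⟶ X} {j : Z ⟶ Y} {a : X ⟶ W} {b : Y ⟶ W} [IsClosedImmersion i.left]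
    (H : ∀ y : Y.left, ∃ P : Pair i.left j.left, y ∈ P.V) (hpo : IsPushout i j a b) :
    IsPullback i j a b ∧
      Mil ((yon S).map a) ((yon S).map b) ∧ (Function.Surjective i.left → Function.Surjective b.left) ∧
      (∀ w : W.left, (∃ x, a.left x = w) ∨ ∃ y, b.left y = w) := by
  obtain ⟨W₁, a₁, b₁, hpo₁, hpb₁, hM, hs, hj⟩ := exists_over H
  let e : W₁ ≅ W := hpo₁.isoIsPushout _ _ hpo
  have e1 : a₁ ≫ e.hom = a := hpo₁.inl_isoIsPushout_hom _ _ hpo
  have e2 : b₁ ≫ e.hom = b := hpo₁.inr_isoIsPushout_hom _ _ hpo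
  have hel : Function.Surjective e.hom.left := by
    have : IsIso e.hom.left := inferInstanceAs (IsIso ((Over.forget S).map e.hom))
    exact Surjective.surj
  refine ⟨?_, ?_, ?_, ?_⟩
  · exact IsPullback.of_iso hpb₁ (Iso.refl _) (Iso.refl _) (Iso.refl _) e (by simp) (by simp)
      (by rw [e1, Iso.refl_hom, Category.id_comp]) (by rw [e2, Iso.refl_hom, Category.id_comp])
  · have := mil_of_iso hM (IsAlgSpace.yon_obj _) ((yon S).mapIso e)
    rwa [Functor.mapIso_hom, ← Functor.map_comp, ← Functor.map_comp, e1, e2] at this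
  · intro hi w
    obtain ⟨w, rfl⟩ := hel w
    obtain ⟨y, hy⟩ := hs hi w
    exact ⟨y, by rw [← e2, Over.comp_left, Scheme.Hom.comp_apply, hy]⟩
  · intro w
    obtain ⟨w, rfl⟩ := hel w
    rcases hj w with ⟨x, hx⟩ | ⟨x, hx⟩
    · exact Or.inl ⟨x, by rw [← e1, Over.comp_left, Scheme.Hom.comp_apply, hx]⟩
    · exact Or.inr ⟨x, by rw [← e2, Over.comp_left, Scheme.Hom.comp_apply, hx]⟩

end K641.MilOver
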