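import Groth.Agent.FlatB.PushMain
import Groth.Agent.S0440

/-!
# Adapted pairs of affine opens for a thickening and an affine morphism
-/

set_option autoImplicit false
universe u

open CategoryTheory CategoryTheory.Limits AlgebraicGeometry

namespace K641.MilPair

open Groth.Agent.FlatB.PushPair

theorem exists_pair {X X' Y : Scheme.{u}} (t : X ⟶ X') [IsClosedImmersion t] (ht : Function.Surjective t) (f : X ⟶ Y)
    [IsAffineHom f] (y : Y) : ∃ P : Pair t f, y ∈ P.V := by
  obtain ⟨V, hV, hyV, -⟩ := exists_isAffineOpen_mem_and_subset (U := ⊤) (x := y) trivial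
  let e : X ≃ₜ X' := t.isClosedEmbedding.toHomeomorph.trans
    ((Homeomorph.setCongr ht.range_eq).trans (Homeomorph.Set.univ _))
  have he : ∀ x, e x = t x := fun x => rfl
  let U : X'.Opens := ⟨e.symm ⁻¹' (f ⁻¹ᵁ V : Set X), (f ⁻¹ᵁ V).isOpen.preimage e.symm.continuous⟩
  have hU : t ⁻¹ᵁ U = f ⁻¹ᵁ V := by
    ext x
    change e.symm (t x) ∈ (f ⁻¹ᵁ V : Set X) ↔ _
    rw [← he, e.symm_apply_apply]
  refine ⟨⟨U, V, _, ?_, hV, hU, rfl⟩, hyV⟩
  have : IsAffine (t ⁻¹ᵁ U).toScheme := by rw [hU]; exact hV.preimage f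
  apply Groth.Agent.S0440.result (t ∣_ U)
  have : Surjective t := ⟨ht⟩
  exact (IsZariskiLocalAtTarget.restrict (P := @Surjective) this U).surj

end K641.MilPair
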