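import Mathlib.CategoryTheory.Limits.Shapes.Pullback.IsPullback.Basic
import Mathlib.CategoryTheory.Limits.Shapes.Pullback.Cospan
import Mathlib.CategoryTheory.Limits.Shapes.Pullback.Equifibered

/-!
# Diagrams of shape `WalkingSpan`
-/

set_option autoImplicit false

open CategoryTheory CategoryTheory.Limits

namespace K641.SpanCat

universe v u

variable {C : Type u} [Category.{v} C] {D : WalkingSpan ⥤ C}

/-- A cocone on a diagram of shape `WalkingSpan`. -/
theorem exists_cocone {U : C} (m₂ : D.obj WalkingSpan.left ⟶ U) (m₁ : D.obj WalkingSpan.right ⟶ U)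
    (w : D.map WalkingSpan.Hom.fst ≫ m₂ = D.map WalkingSpan.Hom.snd ≫ m₁) :
    ∃ ι : D ⟶ (Functor.const _).obj U, ι.app WalkingSpan.left = m₂ ∧ ι.app WalkingSpan.right = m₁ ∧
      ι.app WalkingSpan.zero = D.map WalkingSpan.Hom.fst ≫ m₂ := by
  let φ : ∀ i, D.obj i ⟶ U := fun i => match i with
    | none => D.map WalkingSpan.Hom.fst ≫ m₂
    | some WalkingPair.left => m₂
    | some WalkingPair.right => m₁
  have hφ : ∀ ⦃i j : WalkingSpan⦄ (g : i ⟶ j), D.map g ≫ φ j = φ i ≫ 𝟙 U := by
    intro i j g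
    rw [Category.comp_id]
    rcases g with _ | ⟨_ | _⟩
    · exact (congrArg (· ≫ _) (D.map_id _)).trans (Category.id_comp _)
    · rfl
    · exact w.symm
  exact ⟨{ app := φ, naturality := hφ }, rfl, rfl, rfl⟩

/-- Pushout squares give colimit cocones. -/
theorem isColimit_of_isPushout (c : Cocone D) (h : IsPushout (D.map WalkingSpan.Hom.fst) (D.map WalkingSpan.Hom.snd)
    (c.ι.app WalkingSpan.left) (c.ι.app WalkingSpan.right)) : Nonempty (IsColimit c) := by
  have hw : ∀ s : Cocone D, D.map WalkingSpan.Hom.fst ≫ s.ι.app WalkingSpan.left =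
      D.map WalkingSpan.Hom.snd ≫ s.ι.app WalkingSpan.right := fun s => by
    rw [s.w, s.w]
  have hfac : ∀ (s : Cocone D) (j : WalkingSpan), c.ι.app j ≫ h.desc _ _ (hw s) = s.ι.app j := by
    rintro s (_ | _ | _)
    · have h1 : c.ι.app none = D.map WalkingSpan.Hom.fst ≫ c.ι.app WalkingSpan.left := (c.w _).symm
      have h2 : s.ι.app none = D.map WalkingSpan.Hom.fst ≫ s.ι.app WalkingSpan.left := (s.w _).symm
      rw [h1, h2, Category.assoc, h.inl_desc]
    · exact h.inl_desc _ _ _
    · exact h.inr_desc _ _ _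
  exact ⟨{ desc := fun s => h.desc _ _ (hw s), fac := hfac,
           uniq := fun s m hm => h.hom_ext ((hm _).trans (hfac s WalkingSpan.left).symm)
             ((hm _).trans (hfac s WalkingSpan.right).symm) }⟩

end K641.SpanCat
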