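import Groth.Agent.AlgSp.K641.MilSp
import Groth.Agent.AlgSp.K641.SpanCat
import Mathlib.CategoryTheory.Comma.Over.Pullback

/-!
# Milnor squares are pushouts of algebraic spaces
-/

set_option autoImplicit false
universe u

open CategoryTheory CategoryTheory.Limits AlgebraicGeometry

namespace K641.MilPush

open AlgSp K641.MilRing K641.MilLoc K641.MilSp K641.SpanCat K635.Glue

variable {S : Scheme.{u}}

/-- Separated etale schemes glue along the square. -/
def EtGlu {V VY VX' VX : Over S} (tY : VY ⟶ V) (tX' : VX' ⟶ V) (k₁ : VX ⟶ VY) (k₂ : VX ⟶ VX') : Prop :=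
  ∀ (UY UX' UX : Over S) (uY : UY ⟶ VY) (uX' : UX' ⟶ VX') (uX : UX ⟶ VX) (l₁ : UX ⟶ UY) (l₂ : UX ⟶ UX'),
    Etale uY.left → Etale uX'.left → IsSeparated uY.left → IsSeparated uX'.left → IsPullback l₁ uX uY k₁ →
    IsPullback l₂ uX uX' k₂ →
    ∃ (U : Over S) (u : U ⟶ V) (m₁ : UY ⟶ U) (m₂ : UX' ⟶ U), Etale u.left ∧ IsPullback m₁ uY u tY ∧
      IsPullback m₂ uX' u tX' ∧ l₁ ≫ m₁ = l₂ ≫ m₂

/-- Milnor squares of schemes with glueing of separated etale schemes are pushouts against algebraic spaces. -/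
theorem existsUnique_desc {V VY VX' VX : Over S} {tY : VY ⟶ V} {tX' : VX' ⟶ V} {k₁ : VX ⟶ VY} {k₂ : VX ⟶ VX'}
    (sq : IsPullback k₁ k₂ tY tX') (h : Mil ((yon S).map tX') ((yon S).map tY)) (hE : EtGlu tY tX' k₁ k₂)
    (hs : ∀ x : V.left, (∃ y, tX'.left y = x) ∨ ∃ y, tY.left y = x) {Z : Sp S} (hZ : IsAlgSpace Z)
    (a : (yon S).obj VX' ⟶ Z) (b : (yon S).obj VY ⟶ Z) (hab : (yon S).map k₂ ≫ a = (yon S).map k₁ ≫ b) :
    ∃! φ : (yon S).obj V ⟶ Z, (yon S).map tX' ≫ φ = a ∧ (yon S).map tY ≫ φ = b := by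
  let D : WalkingSpan ⥤ Over S := span k₂ k₁
  obtain ⟨ι, hι1, hι2, hι0⟩ := exists_cocone (D := D) (U := V) tX' tY sq.w.symm
  let c : Cocone D := ⟨V, ι⟩
  have hι2' : c.ι.app WalkingSpan.right = tY := hι2
  have hι1' : c.ι.app WalkingSpan.left = tX' := hι1
  have hcolim : IsColimit c := by
    refine (isColimit_of_isPushout c ?_).some
    rw [hι1', hι2']
    exact h.isPushout_over sq
  -- condition (3)
  have h₃ : ∀ (D' : WalkingSpan ⥤ Over S) (α : D' ⟶ D) (c' : Cocone D') (a : c'.pt ⟶ c.pt), Etale a.left →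
      (∀ i, IsPullback (c'.ι.app i) (α.app i) a (c.ι.app i)) →
      Nonempty (IsColimit ((Over.forget S).mapCocone c')) := by
    intro D' α c' a ha hca
    have sqL : IsPullback (c'.ι.app WalkingSpan.left) (α.app WalkingSpan.left) a tX' := by
      have := hca WalkingSpan.left
      rwa [hι1'] at this
    have sqR : IsPullback (c'.ι.app WalkingSpan.right) (α.app WalkingSpan.right) a tY := by
      have := hca WalkingSpan.right
      rwa [hι2'] at this
    have sq0 : IsPullback (D'.map WalkingSpan.Hom.fst) (α.app WalkingSpan.zero) (α.app WalkingSpan.left) k₂ := by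
      have h1 := hca WalkingSpan.zero
      have e1 : c'.ι.app WalkingSpan.zero = D'.map WalkingSpan.Hom.fst ≫ c'.ι.app WalkingSpan.left := (c'.w _).symm
      have e2 : c.ι.app WalkingSpan.zero = k₂ ≫ tX' := hι0
      rw [e1, e2] at h1
      exact IsPullback.of_right h1 (α.naturality WalkingSpan.Hom.fst) sqL
    have sqtop : IsPullback (D'.map WalkingSpan.Hom.snd) (D'.map WalkingSpan.Hom.fst)
        (c'.ι.app WalkingSpan.right) (c'.ι.app WalkingSpan.left) := by
      refine IsPullback.of_right (h₁₂ := α.app WalkingSpan.right) (h₂₂ := a) (v₁₃ := tY) ?_ ?_ sqR.flip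
      · have h1 := sq0.flip.paste_horiz sq
        have e3 : α.app WalkingSpan.zero ≫ k₁ = D'.map WalkingSpan.Hom.snd ≫ α.app WalkingSpan.right :=
          (α.naturality WalkingSpan.Hom.snd).symm
        have e4 : α.app WalkingSpan.left ≫ tX' = c'.ι.app WalkingSpan.left ≫ a := sqL.w.symm
        rw [e3, e4] at h1
        exact h1
      · rw [c'.w, c'.w]
    have hM : Mil ((yon S).map (c'.ι.app WalkingSpan.left)) ((yon S).map (c'.ι.app WalkingSpan.right)) := by
      refine h.bc (IsAlgSpace.yon_obj _) (IsAlgSpace.yon_obj _) (w := (yon S).map a) ?_ (sqL.map (yon S))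
        (sqR.map (yon S))
      refine K597.locP_of_repWith K597.etLoc_flat.precomp ((repWith_yon_map_iff _ _).2 ?_)
      have := ha
      infer_instance
    have h1 : IsColimit c' := (isColimit_of_isPushout c' (hM.isPushout_over sqtop)).some
    have : PreservesColimits (Over.forget S) := (Over.forgetAdjStar S).leftAdjoint_preservesColimits
    exact ⟨isColimitOfPreserves (Over.forget S) h1⟩
  -- condition (4)
  have h₄ : ∀ (D' : WalkingSpan ⥤ Over S) (α : D' ⟶ D), NatTrans.Equifibered α → (∀ i, Etale (α.app i).left) →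
      (∀ i, IsSeparated (α.app i).left) →
      ∃ (c' : Cocone D') (a : c'.pt ⟶ c.pt), Etale a.left ∧
        ∀ i, IsPullback (c'.ι.app i) (α.app i) a (c.ι.app i) := by
    intro D' α hα he hsep
    obtain ⟨U, u, m₁, m₂, hu, sq₁, sq₂, hm⟩ := hE _ _ _ (α.app WalkingSpan.right) (α.app WalkingSpan.left)
      (α.app WalkingSpan.zero) (D'.map WalkingSpan.Hom.snd) (D'.map WalkingSpan.Hom.fst) (he _) (he _) (hsep _)
      (hsep _) (hα WalkingSpan.Hom.snd) (hα WalkingSpan.Hom.fst)
    obtain ⟨ι', h1, h2, h0⟩ := exists_cocone (D := D') (U := U) m₂ m₁ hm.symm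
    refine ⟨⟨U, ι'⟩, u, hu, ?_⟩
    rintro (_ | _ | _)
    · change IsPullback (ι'.app WalkingSpan.zero) (α.app WalkingSpan.zero) u (ι.app WalkingSpan.zero)
      rw [h0, hι0]
      exact (hα WalkingSpan.Hom.fst).paste_horiz sq₂
    · change IsPullback (ι'.app WalkingSpan.left) (α.app WalkingSpan.left) u (ι.app WalkingSpan.left)
      rw [h1, hι1]
      exact sq₂
    · change IsPullback (ι'.app WalkingSpan.right) (α.app WalkingSpan.right) u (ι.app WalkingSpan.right)
      rw [h2, hι2]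
      exact sq₁
  obtain ⟨ζ, hζ1, hζ2, -⟩ := exists_cocone (D := D ⋙ yon S) (U := Z) a b hab
  obtain ⟨φ, hφ⟩ := K641.ColimSch.exists_desc (D := D) (c := c) (fun x => by
    rcases hs x with ⟨y, hy⟩ | ⟨y, hy⟩
    · exact ⟨WalkingSpan.left, y, by rw [hι1']; exact hy⟩
    · exact ⟨WalkingSpan.right, y, by rw [hι2']; exact hy⟩) h₃ h₄ hZ (fun i => ζ.app i) (fun i j g => by
      have := ζ.naturality g
      exact this.trans (Category.comp_id _))
  have key : ∀ ψ : (yon S).obj V ⟶ Z, (yon S).map tX' ≫ ψ = a → (yon S).map tY ≫ ψ = b →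
      ∀ i, (yon S).map (c.ι.app i) ≫ ψ = ζ.app i := by
    intro ψ h1 h2
    have eL : (yon S).map (c.ι.app WalkingSpan.left) ≫ ψ = ζ.app WalkingSpan.left :=
      (congrArg (fun m => (yon S).map m ≫ ψ) hι1').trans (h1.trans hζ1.symm)
    have eR : (yon S).map (c.ι.app WalkingSpan.right) ≫ ψ = ζ.app WalkingSpan.right :=
      (congrArg (fun m => (yon S).map m ≫ ψ) hι2').trans (h2.trans hζ2.symm)
    have e0 : (yon S).map (c.ι.app WalkingSpan.zero) ≫ ψ = ζ.app WalkingSpan.zero := by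
      have e1 : c.ι.app WalkingSpan.zero = D.map WalkingSpan.Hom.fst ≫ c.ι.app WalkingSpan.left := (c.w _).symm
      have e2 : (D ⋙ yon S).map WalkingSpan.Hom.fst ≫ ζ.app WalkingSpan.left = ζ.app WalkingSpan.zero :=
        (ζ.naturality WalkingSpan.Hom.fst).trans (Category.comp_id _)
      rw [e1, Functor.map_comp, Category.assoc, eL]
      exact e2
    rintro (_ | _ | _)
    exacts [e0, eL, eR]
  refine ⟨φ, ⟨?_, ?_⟩, ?_⟩
  · exact (congrArg (fun m => (yon S).map m ≫ φ) hι1').symm.trans ((hφ WalkingSpan.left).trans hζ1)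
  · exact (congrArg (fun m => (yon S).map m ≫ φ) hι2').symm.trans ((hφ WalkingSpan.right).trans hζ2)
  · rintro ψ ⟨h1, h2⟩
    exact K641.ColimSch.hom_ext_of_isColimit hcolim hZ.diag ψ φ fun i => (key ψ h1 h2 i).trans (hφ i).symm

end K641.MilPush
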