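import Groth.Agent.Etalg.Milnor
import Groth.Agent.Pi1C.MilnorEtCat
import Mathlib.Algebra.Category.Ring.Constructions
import Mathlib.RingTheory.RingHom.Flat
import Mathlib.RingTheory.Flat.Basic

/-!
# Milnor squares of rings in terms of the cospan of spectra

`RMil p q` for `p : B' → B` (surjective in practice), `q : B' → A'`: the kernel of `p` maps bijectively to an ideal of
`A'`.  Then `B' = B ×_A A'` with `A = B ⊗_{B'} A'`.
-/

set_option autoImplicit false
universe u

open CategoryTheory TensorProduct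

namespace K641.MilRing

open Groth.Agent

/-- `ker p` maps bijectively to an ideal of `A'`. -/
structure RMil {B' B A' : Type u} [CommRing B'] [CommRing B] [CommRing A'] (p : B' →+* B) (q : B' →+* A') : Prop where
  inj : ∀ x, p x = 0 → q x = 0 → x = 0
  ideal : ∀ x, p x = 0 → ∀ a : A', ∃ y, p y = 0 ∧ q y = q x * a

/-- A flat cover detects zero in modules. -/
theorem eq_zero_of_flat_cover {A : Type u} [CommRing A] {ι : Type*} (B : ι → Type u) [∀ i, CommRing (B i)]
    [∀ i, Algebra A (B i)] [∀ i, Module.Flat A (B i)]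
    (h : ∀ p : PrimeSpectrum A, ∃ (i : ι) (q : PrimeSpectrum (B i)), q.comap (algebraMap A (B i)) = p)
    {Q : Type u} [AddCommGroup Q] [Module A Q] (m : Q)
    (hm : ∀ i, (1 : B i) ⊗ₜ[A] m = 0) : m = 0 := by
  by_contra h0
  let φ : A →ₗ[A] Q := LinearMap.toSpanSingleton A Q m
  let I : Ideal A := LinearMap.ker φ
  have hI : I ≠ ⊤ := by
    intro hI
    have : (1 : A) ∈ I := by rw [hI]; trivial
    rw [LinearMap.mem_ker, LinearMap.toSpanSingleton_apply, one_smul] at this
    exact h0 this
  obtain ⟨n, hn, hIn⟩ := I.exists_le_maximal hI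
  obtain ⟨i, q, hq⟩ := h ⟨n, hn.isPrime⟩
  let ψ : (A ⧸ I) →ₗ[A] Q := I.liftQ φ le_rfl
  have hψ : Function.Injective ψ := by
    rw [← LinearMap.ker_eq_bot]
    exact Submodule.ker_liftQ_eq_bot' _ _ rfl
  have h1 := Module.Flat.lTensor_preserves_injective_linearMap (M := B i) ψ hψ
  have h2 : (1 : B i) ⊗ₜ[A] (1 : A ⧸ I) = 0 := by
    apply h1
    rw [map_zero, LinearMap.lTensor_tmul]
    have : ψ 1 = m := by
      change φ 1 = m
      rw [LinearMap.toSpanSingleton_apply, one_smul]
    rw [this, hm i]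
  have h3 : (1 : A ⧸ I) ⊗ₜ[A] (1 : B i) = 0 := by
    have := congrArg (TensorProduct.comm A (B i) (A ⧸ I)) h2
    rwa [TensorProduct.comm_tmul, map_zero] at this
  rw [Etalg.Milnor.one_tmul_eq_zero_iff (R := A) (S := A ⧸ I) Ideal.Quotient.mk_surjective] at h3
  have h4 : RingHom.ker (algebraMap A (A ⧸ I)) = I := Ideal.mk_ker
  rw [h4] at h3
  have h5 : (I • (⊤ : Submodule A (B i))) ≤ q.asIdeal.restrictScalars A := by
    rw [Submodule.smul_le]
    intro r hr b _
    rw [Algebra.smul_def]
    have : r ∈ (q.comap (algebraMap A (B i))).asIdeal := by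
      rw [hq]
      exact hIn hr
    exact q.asIdeal.mul_mem_right _ this
  exact q.isPrime.ne_top ((Ideal.eq_top_iff_one _).2 (h5 h3))

section alg

variable {B' B A' D' D C' : Type u} [CommRing B'] [CommRing B] [CommRing A'] [CommRing D'] [CommRing D] [CommRing C']
  [Algebra B' B] [Algebra B' A'] [Algebra B' D'] [Algebra D' D] [Algebra D' C'] [Algebra A' C'] [Algebra B' C']
  [IsScalarTower B' D' C'] [IsScalarTower B' A' C']

/-- elements of `I D'` come from `D' ⊗ I` -/
theorem exists_tensor (I : Ideal B') (x : D') (hx : x ∈ Ideal.map (algebraMap B' D') I) : ∃ z : D' ⊗[B'] I,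
      (TensorProduct.rid B' D') (I.subtype.lTensor D' z) = x := by
  have h1 : x ∈ (I • (⊤ : Submodule B' D')) := by
    rw [Ideal.smul_top_eq_map]
    exact hx
  refine Submodule.smul_induction_on h1 (fun r hr d _ => ⟨d ⊗ₜ ⟨r, hr⟩, ?_⟩) ?_
  · rw [LinearMap.lTensor_tmul, TensorProduct.rid_tmul]
    rfl
  · rintro a b ⟨z, hz⟩ ⟨w, hw⟩
    exact ⟨z + w, by rw [map_add, map_add, hz, hw]⟩

/-- the restriction of `B' → A'` to an ideal -/
noncomputable def res (B' A' : Type u) [CommRing B'] [CommRing A'] [Algebra B' A'] (I : Ideal B') : I →ₗ[B'] A' :=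
  (Algebra.linearMap B' A').comp I.subtype

theorem res_apply (I : Ideal B') (i : I) : res B' A' I i = algebraMap B' A' i.1 := rfl

theorem equiv_lTensor_res [Algebra.IsPushout B' D' A' C'] (I : Ideal B') (z : D' ⊗[B'] I) :
    Algebra.IsPushout.equiv B' D' A' C' ((res B' A' I).lTensor D' z) =
      algebraMap D' C' ((TensorProduct.rid B' D') (I.subtype.lTensor D' z)) := by
  induction z with
  | zero => simp
  | add a b ha hb => rw [map_add, map_add, ha, hb, map_add, map_add, map_add]
  | tmul d i =>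
    rw [LinearMap.lTensor_tmul, Algebra.IsPushout.equiv_tmul, LinearMap.lTensor_tmul, TensorProduct.rid_tmul,
      Algebra.smul_def, map_mul, ← IsScalarTower.algebraMap_apply, mul_comm, res_apply,
      ← IsScalarTower.algebraMap_apply]
    rfl

/-- Flat base change. -/
theorem flat_aux [Algebra.IsPushout B' D' A' C'] [Module.Flat B' D']
    (hker : ∀ x : D', algebraMap D' D x = 0 → x ∈ Ideal.map (algebraMap B' D') (RingHom.ker (algebraMap B' B)))
    (hker' : ∀ b, algebraMap B' B b = 0 → algebraMap D' D (algebraMap B' D' b) = 0)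
    (h : RMil (algebraMap B' B) (algebraMap B' A')) : RMil (algebraMap D' D) (algebraMap D' C') := by
  let I : Ideal B' := RingHom.ker (algebraMap B' B)
  have hρ : Function.Injective (res B' A' I) := by
    rw [← LinearMap.ker_eq_bot, eq_bot_iff]
    rintro ⟨x, hx⟩ hx'
    exact Subtype.ext (h.inj x hx hx')
  have hρ' := Module.Flat.lTensor_preserves_injective_linearMap (M := D') _ hρ
  let e : D' ⊗[B'] A' ≃ₐ[D'] C' := Algebra.IsPushout.equiv B' D' A' C'
  have he : ∀ (d : D') (a : A'), e (d ⊗ₜ a) = algebraMap D' C' d * algebraMap A' C' a := fun d a => by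
    rw [Algebra.IsPushout.equiv_tmul]
  constructor
  · intro x hx hx'
    obtain ⟨z, rfl⟩ := exists_tensor I x (hker x hx)
    have h1 : (res B' A' I).lTensor D' z = 0 := by
      apply e.injective
      rw [equiv_lTensor_res, hx', map_zero]
    have h2 : z = 0 := hρ' (by rw [h1, map_zero])
    rw [h2, map_zero, map_zero]
  · intro x hx c
    have h1 : x ∈ (I • (⊤ : Submodule B' D')) := by
      rw [Ideal.smul_top_eq_map]
      exact hker x hx
    refine Submodule.smul_induction_on h1 (fun i hi d _ => ?_) ?_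
    · obtain ⟨w, rfl⟩ := e.surjective c
      induction w with
      | zero => exact ⟨0, map_zero _, by rw [map_zero, map_zero, mul_zero]⟩
      | add a b ha hb =>
        obtain ⟨y, hy, hy'⟩ := ha
        obtain ⟨y₂, hy₂, hy₂'⟩ := hb
        exact ⟨y + y₂, by rw [map_add, hy, hy₂, add_zero], by rw [map_add, hy', hy₂', map_add, mul_add]⟩
      | tmul d₂ a =>
        obtain ⟨j, hj, hj'⟩ := h.ideal i hi a
        refine ⟨algebraMap B' D' j * (d * d₂), by rw [map_mul, hker' j hj, zero_mul], ?_⟩
        rw [he, map_mul, map_mul, ← IsScalarTower.algebraMap_apply, IsScalarTower.algebraMap_apply B' A' C', hj',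
          map_mul, Algebra.smul_def, map_mul, ← IsScalarTower.algebraMap_apply B' D' C',
          ← IsScalarTower.algebraMap_apply B' A' C']
        ring
    · rintro a b ⟨y, hy, hy'⟩ ⟨y₂, hy₂, hy₂'⟩
      exact ⟨y + y₂, by rw [map_add, hy, hy₂, add_zero], by rw [map_add, hy', hy₂', map_add, add_mul]⟩

end alg

section desc

variable {B' B A' : Type u} [CommRing B'] [CommRing B] [CommRing A'] [Algebra B' B] [Algebra B' A']
  {ι : Type*} (D' D C' : ι → Type u) [∀ i, CommRing (D' i)] [∀ i, CommRing (D i)] [∀ i, CommRing (C' i)]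
  [∀ i, Algebra B' (D' i)] [∀ i, Algebra (D' i) (D i)] [∀ i, Algebra (D' i) (C' i)] [∀ i, Algebra A' (C' i)]
  [∀ i, Algebra B' (C' i)] [∀ i, IsScalarTower B' (D' i) (C' i)] [∀ i, IsScalarTower B' A' (C' i)]
  [∀ i, Algebra.IsPushout B' (D' i) A' (C' i)] [∀ i, Module.Flat B' (D' i)]

/-- Flat descent. -/
theorem desc_aux
    (hcov : ∀ p : PrimeSpectrum B', ∃ (i : ι) (q : PrimeSpectrum (D' i)), q.comap (algebraMap B' (D' i)) = p)
    (hker : ∀ i, ∀ x : D' i, algebraMap (D' i) (D i) x = 0 →
      x ∈ Ideal.map (algebraMap B' (D' i)) (RingHom.ker (algebraMap B' B)))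
    (hker' : ∀ i, ∀ b, algebraMap B' B b = 0 → algebraMap (D' i) (D i) (algebraMap B' (D' i) b) = 0)
    (h : ∀ i, RMil (algebraMap (D' i) (D i)) (algebraMap (D' i) (C' i))) :
    RMil (algebraMap B' B) (algebraMap B' A') := by
  let I : Ideal B' := RingHom.ker (algebraMap B' B)
  constructor
  · intro x hx hx'
    refine eq_zero_of_flat_cover D' hcov x fun i => ?_
    have h1 : algebraMap B' (D' i) x = 0 := by
      refine (h i).inj _ (hker' i x hx) ?_
      rw [← IsScalarTower.algebraMap_apply, IsScalarTower.algebraMap_apply B' A' (C' i), hx', map_zero]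
    apply (TensorProduct.rid B' (D' i)).injective
    rw [TensorProduct.rid_tmul, map_zero, Algebra.smul_def, h1, zero_mul]
  · intro x hx a
    let N : Submodule B' A' := LinearMap.range (res B' A' I)
    have h0 : N.mkQ (algebraMap B' A' x * a) = 0 := by
      refine eq_zero_of_flat_cover D' hcov _ fun i => ?_
      obtain ⟨y, hy, hy'⟩ := (h i).ideal (algebraMap B' (D' i) x) (hker' i x hx) (algebraMap A' (C' i) a)
      obtain ⟨z, rfl⟩ := exists_tensor I y (hker i y hy)
      have h1 : (res B' A' I).lTensor (D' i) z = 1 ⊗ₜ (algebraMap B' A' x * a) := by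
        apply (Algebra.IsPushout.equiv B' (D' i) A' (C' i)).injective
        rw [equiv_lTensor_res, hy', Algebra.IsPushout.equiv_tmul, map_one, one_mul, map_mul,
          ← IsScalarTower.algebraMap_apply, ← IsScalarTower.algebraMap_apply]
      have h2 : N.mkQ ∘ₗ res B' A' I = 0 := by
        ext i
        exact (Submodule.Quotient.mk_eq_zero _).2 ⟨i, rfl⟩
      rw [← LinearMap.lTensor_tmul, ← h1, ← LinearMap.comp_apply, ← LinearMap.lTensor_comp, h2,
        LinearMap.lTensor_zero, LinearMap.zero_apply]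
    obtain ⟨⟨y, hy⟩, hy'⟩ := (Submodule.Quotient.mk_eq_zero _).1 h0
    exact ⟨y, hy, hy'⟩

end desc

end K641.MilRing
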