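import Groth.Agent.AlgSp.K641.MilCat
import Groth.Agent.FlatB.PushSpec
import Mathlib.AlgebraicGeometry.Morphisms.ClosedImmersion

/-!
# Affine Milnor squares of schemes
-/

set_option autoImplicit false
universe u

open CategoryTheory CategoryTheory.Limits AlgebraicGeometry

namespace K641.MilSch

open K641.MilRing K641.MilCat
open Groth.Agent.Pi1C.MilnorEt (IsMilnor)
open Groth.Agent.FlatB.PushRing

/-- The spectrum of a Milnor square is a pushout of schemes. -/
theorem isPushout_Spec_of_isMilnor {B' B A' A : CommRingCat.{u}} {p : B' ⟶ B} {q : B' ⟶ A'} {r : B ⟶ A} {s : A' ⟶ A}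
    (h : IsMilnor p q r s) : IsPushout (Spec.map s) (Spec.map r) (Spec.map q) (Spec.map p) := by
  have h1 := Groth.Agent.FlatB.PushSpec.isPushout_Spec (p := s.hom) (q := r.hom) h.surj
  have hc : s.hom.comp q.hom = r.hom.comp p.hom := congrArg (fun q => q.hom) h.w.symm
  let e : B' →+* eqL s.hom r.hom := eqL.lift q.hom p.hom hc
  have he : Function.Bijective e := by
    constructor
    · intro x y hxy
      exact h.ext x y (congrArg (fun z => z.1.2) hxy) (congrArg (fun z => z.1.1) hxy)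
    · intro z
      obtain ⟨x, hx, hx'⟩ := h.lift z.1.2 z.1.1 (eqL_prop z).symm
      exact ⟨x, eqL.ext hx' hx⟩
  have : IsIso (CommRingCat.ofHom e) := (RingEquiv.ofBijective e he).toCommRingCatIso.isIso_hom
  refine IsPushout.of_iso h1 (Iso.refl _) (Iso.refl _) (Iso.refl _) (asIso (Spec.map (CommRingCat.ofHom e)))
    (by simp) (by simp) ?_ ?_
  · rw [asIso_hom, Iso.refl_hom, Category.id_comp, ← Spec.map_comp]
    rfl
  · rw [asIso_hom, Iso.refl_hom, Category.id_comp, ← Spec.map_comp]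
    rfl

/-- Affine Milnor squares are pushouts of schemes. -/
theorem isPushout_of_rmil {V VY VX' VX : Scheme.{u}} [IsAffine V] {tY : VY ⟶ V} {tX' : VX' ⟶ V} {k₁ : VX ⟶ VY}
    {k₂ : VX ⟶ VX'} (sq : IsPullback k₁ k₂ tY tX') [IsClosedImmersion tY] [IsAffineHom tX']
    (h : RMil tY.appTop.hom tX'.appTop.hom) : IsPushout k₂ k₁ tX' tY := by
  have h1 : IsAffine VY := isAffine_of_isAffineHom tY
  have h2 : IsAffine VX' := isAffine_of_isAffineHom tX'
  have h3 := isPushout_appTop_of_isPullback sq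
  have h4 : IsAffine VX := .of_isPullback sq
  have hs : Function.Surjective tY.appTop.hom := (IsClosedImmersion.isAffine_surjective_of_isAffine tY).2
  have h5 := isPushout_Spec_of_isMilnor (K641.MilCat.RMil.isMilnor hs h h3)
  exact IsPushout.of_iso h5 VX.isoSpec.symm VX'.isoSpec.symm VY.isoSpec.symm V.isoSpec.symm
    (Scheme.isoSpec_inv_naturality k₂) (Scheme.isoSpec_inv_naturality k₁) (Scheme.isoSpec_inv_naturality tX')
    (Scheme.isoSpec_inv_naturality tY)

variable {V VY VX' T TY TX' : Scheme.{u}} [IsAffine V] [IsAffine T] {tY : VY ⟶ V} {tX' : VX' ⟶ V}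
  [IsClosedImmersion tY] [IsAffineHom tX'] {g : T ⟶ V}

theorem surjective_appTop : Function.Surjective tY.appTop.hom :=
  (IsClosedImmersion.isAffine_surjective_of_isAffine tY).2

theorem flat_appTop [Flat g] : g.appTop.hom.Flat := HasRingHomProperty.appTop @Flat g ‹_›

/-- Flat base change. -/
theorem rmil_of_flat [Flat g] (h : RMil tY.appTop.hom tX'.appTop.hom) {uY : TY ⟶ T} {gY : TY ⟶ VY}
    (sqY : IsPullback gY uY tY g) {uX' : TX' ⟶ T} {gX' : TX' ⟶ VX'} (sqX' : IsPullback gX' uX' tX' g) :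
    RMil uY.appTop.hom uX'.appTop.hom := by
  have h1 : IsAffine VY := isAffine_of_isAffineHom tY
  have h2 : IsAffine VX' := isAffine_of_isAffineHom tX'
  exact K641.MilCat.rmil_of_flat surjective_appTop h flat_appTop (isPushout_appTop_of_isPullback sqY.flip)
    (isPushout_appTop_of_isPullback sqX'.flip)

theorem exists_spec_point {X Y : Scheme.{u}} [IsAffine X] [IsAffine Y] (f : X ⟶ Y) {y : PrimeSpectrum Γ(Y, ⊤)} {x : X}
    (hx : f x = Y.isoSpec.inv y) : (X.isoSpec.hom x : PrimeSpectrum Γ(X, ⊤)).comap f.appTop.hom = y := by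
  have h1 : Y.isoSpec.hom (f x) = (Spec.map f.appTop) (X.isoSpec.hom x) := by
    rw [← Scheme.Hom.comp_apply, ← Scheme.Hom.comp_apply, Scheme.isoSpec_hom_naturality]
  have h2 : Y.isoSpec.hom (Y.isoSpec.inv y) = y := by
    rw [← Scheme.Hom.comp_apply, Iso.inv_hom_id]
    rfl
  rw [hx, h2] at h1
  exact h1.symm

/-- Flat descent. -/
theorem rmil_of_cover {ι : Type*} {T TY TX' : ι → Scheme.{u}} [∀ i, IsAffine (T i)] {g : ∀ i, T i ⟶ V}
    (hg : ∀ i, Flat (g i)) (hcov : ∀ v : V, ∃ (i : ι) (x : T i), g i x = v)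
    {uY : ∀ i, TY i ⟶ T i} {gY : ∀ i, TY i ⟶ VY} (sqY : ∀ i, IsPullback (gY i) (uY i) tY (g i))
    {uX' : ∀ i, TX' i ⟶ T i} {gX' : ∀ i, TX' i ⟶ VX'} (sqX' : ∀ i, IsPullback (gX' i) (uX' i) tX' (g i))
    (h : ∀ i, RMil (uY i).appTop.hom (uX' i).appTop.hom) :
    RMil tY.appTop.hom tX'.appTop.hom := by
  have h1 : IsAffine VY := isAffine_of_isAffineHom tY
  have h2 : IsAffine VX' := isAffine_of_isAffineHom tX'
  refine K641.MilCat.rmil_of_cover surjective_appTop (fun i => ?_) (fun y => ?_)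
    (fun i => isPushout_appTop_of_isPullback (sqY i).flip)
    (fun i => isPushout_appTop_of_isPullback (sqX' i).flip) h
  · have := hg i
    exact flat_appTop
  · obtain ⟨i, x, hx⟩ := hcov (V.isoSpec.inv y)
    exact ⟨i, _, exists_spec_point (g i) hx⟩

end K641.MilSch
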