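import Groth.Agent.AlgSp.K641.MilSch
import Groth.Agent.AlgSp.K641.MilLoc
import Groth.Agent.AlgSp.K597.EtLoc
import Groth.Agent.AlgSp.K597.LocP

/-!
# Milnor squares of algebraic spaces

`Mil f' t'` for `f' : X' ⟶ Y'` affine and `t' : Y ⟶ Y'` a closed immersion: on affine flat charts of `Y'` the square
`X' ×_{Y'} Y, X', Y, Y'` is the spectrum of a Milnor square.
-/

set_option autoImplicit false
universe u

open CategoryTheory CategoryTheory.Limits AlgebraicGeometry

namespace K641.MilSp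

open AlgSp K641.MilRing K641.MilLoc K635.Glue

variable {S : Scheme.{u}}

/-- Milnor cospans of algebraic spaces. -/
structure Mil {X' Y Y' : Sp S} (f' : X' ⟶ Y') (t' : Y ⟶ Y') : Prop where
  closed : RepWith @IsClosedImmersion t'
  affine : RepWith @IsAffineHom f'
  mil : ∀ ⦃T TY TX' : Over S⦄ (g : (yon S).obj T ⟶ Y') (gY : (yon S).obj TY ⟶ Y) (tY : TY ⟶ T)
    (gX' : (yon S).obj TX' ⟶ X') (tX' : TX' ⟶ T), IsAffine T.left → RepWith @Flat g →
      IsPullback gY ((yon S).map tY) t' g → IsPullback gX' ((yon S).map tX') f' g →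
      RMil tY.left.appTop.hom tX'.left.appTop.hom

theorem flat_comp {T : Over S} {W' Y' : Sp S} (hW : IsAlgSpace W') (hY : IsAlgSpace Y') {g : (yon S).obj T ⟶ W'}
    (hg : RepWith @Flat g) {w : W' ⟶ Y'} (hw : LocP @Flat w) : RepWith @Flat (g ≫ w) := by
  refine K597.repWith_of_locP K597.etLoc_flat hY.hasAtlas (hY.representable_from_yon _) ?_
  exact K597.locP_comp K597.etLoc_flat (IsAlgSpace.yon_obj T).hasAtlas hW.hasAtlas hY.hasAtlas
    (K597.locP_of_repWith K597.etLoc_flat.precomp hg) hw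

/-- Flat base change. -/
theorem Mil.bc {X' Y Y' W' WX' WY : Sp S} {f' : X' ⟶ Y'} {t' : Y ⟶ Y'} (h : Mil f' t') (hY' : IsAlgSpace Y')
    (hW' : IsAlgSpace W') {w : W' ⟶ Y'} (hw : LocP @Flat w) {aX' : WX' ⟶ W'} {bX' : WX' ⟶ X'}
    (sqX' : IsPullback aX' bX' w f') {aY : WY ⟶ W'} {bY : WY ⟶ Y} (sqY : IsPullback aY bY w t') : Mil aX' aY where
  closed := (RepWith @IsClosedImmersion).of_isPullback sqY.flip h.closed
  affine := (RepWith @IsAffineHom).of_isPullback sqX'.flip h.affine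
  mil _ _ _ g gY tY gX' tX' hT hg sq₁ sq₂ :=
    h.mil (g ≫ w) (gY ≫ bY) tY (gX' ≫ bX') tX' hT (flat_comp hW' hY' hg hw)
      (sq₁.flip.paste_vert sqY |>.flip) (sq₂.flip.paste_vert sqX' |>.flip)

/-- A Milnor cospan is a pushout against schemes, on charts. -/
theorem Mil.locPush_yon {X' Y Y' : Sp S} {f' : X' ⟶ Y'} {t' : Y ⟶ Y'} (h : Mil f' t') (Z : Over S) :
    LocPush f' t' ((yon S).obj Z) := by
  intro V VY VX' VX c hc gY tY sqY gX' tX' sqX' k₁ k₂ sq a b hab
  obtain ⟨a, rfl⟩ := (yon S).map_surjective a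
  obtain ⟨b, rfl⟩ := (yon S).map_surjective b
  have := hc.aff
  have hcl : IsClosedImmersion tY.left := h.closed.2 _ _ _ sqY
  have haf : IsAffineHom tX'.left := h.affine.2 _ _ _ sqX'
  have hR := h.mil c gY tY gX' tX' hc.aff (K597.repWith_mono (fun _ _ f (hf : Etale f) => (inferInstance : Flat f)) hc.et)
    sqY sqX'
  have sq' : IsPullback k₁.left k₂.left tY.left tX'.left := sq.map (Over.forget S)
  have hpo : IsPushout k₂.left k₁.left tX'.left tY.left := K641.MilSch.isPushout_of_rmil sq' hR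
  have hpo' : IsPushout k₂ k₁ tX' tY := IsPushout.of_map (Over.forget S) sq.w.symm hpo
  have hab' : k₂ ≫ a = k₁ ≫ b := (yon S).map_injective (by rw [Functor.map_comp, Functor.map_comp, hab])
  refine ⟨(yon S).map (hpo'.desc a b hab'), ⟨?_, ?_⟩, ?_⟩
  · change (yon S).map tX' ≫ (yon S).map (hpo'.desc a b hab') = _
    rw [← Functor.map_comp, hpo'.inl_desc]
  · change (yon S).map tY ≫ (yon S).map (hpo'.desc a b hab') = _
    rw [← Functor.map_comp, hpo'.inr_desc]
  · rintro φ ⟨h1, h2⟩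
    obtain ⟨φ, rfl⟩ := (yon S).map_surjective φ
    rw [← Functor.map_comp] at h1 h2
    congr 1
    apply hpo'.hom_ext
    · rw [hpo'.inl_desc, (yon S).map_injective h1]
    · rw [hpo'.inr_desc, (yon S).map_injective h2]

/-- Milnor squares of schemes are pushouts of schemes over `S`. -/
theorem Mil.isPushout_over {V VY VX' VX : Over S} {tY : VY ⟶ V} {tX' : VX' ⟶ V} {k₁ : VX ⟶ VY}
    {k₂ : VX ⟶ VX'} (sq : IsPullback k₁ k₂ tY tX') (h : Mil ((yon S).map tX') ((yon S).map tY)) :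
    IsPushout k₂ k₁ tX' tY := by
  have hex : ∀ (Z : Over S) (a : VX' ⟶ Z) (b : VY ⟶ Z), k₂ ≫ a = k₁ ≫ b →
      ∃! φ : V ⟶ Z, tX' ≫ φ = a ∧ tY ≫ φ = b := by
    intro Z a b hab
    obtain ⟨φ, ⟨h1, h2⟩, h3⟩ := existsUnique_of_locPush (IsAlgSpace.yon_obj V) (sq.flip.map (yon S))
      (representable_yon_map _) (representable_yon_map _) (h.locPush_yon Z) ((yon S).map a) ((yon S).map b)
      (by rw [← Functor.map_comp, ← Functor.map_comp, hab])
    obtain ⟨φ, rfl⟩ := (yon S).map_surjective φ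
    refine ⟨φ, ⟨(yon S).map_injective (by rw [Functor.map_comp, h1]),
      (yon S).map_injective (by rw [Functor.map_comp, h2])⟩, ?_⟩
    rintro ψ ⟨h4, h5⟩
    refine (yon S).map_injective (h3 _ ⟨?_, ?_⟩)
    · rw [← Functor.map_comp, h4]
    · rw [← Functor.map_comp, h5]
  refine ⟨⟨sq.w.symm⟩, ⟨PushoutCocone.IsColimit.mk _ (fun s => (hex s.pt s.inl s.inr s.condition).choose) ?_ ?_ ?_⟩⟩
  · exact fun s => (hex s.pt s.inl s.inr s.condition).choose_spec.1.1
  · exact fun s => (hex s.pt s.inl s.inr s.condition).choose_spec.1.2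
  · exact fun s m h1 h2 => (hex s.pt s.inl s.inr s.condition).choose_spec.2 m ⟨h1, h2⟩

end K641.MilSp
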