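import Groth.Agent.AlgSp.K641.MilEqv
import Groth.Agent.AlgSp.K641.MilGlobal
import Groth.Agent.AlgSp.K641.MilMain
import Groth.Agent.AlgSp.K641.MilPair
import Groth.Agent.AlgSp.K595.DescInst
import Groth.Agent.AlgSp.K597.Affine
import Groth.Agent.AlgSp.K631.Base

/-!
# Existence of Milnor squares of algebraic spaces
-/

set_option autoImplicit false
universe u

open CategoryTheory CategoryTheory.Limits AlgebraicGeometry

namespace K641.MilSpace

open AlgSp K641.MilRing K641.MilSp K641.MilThick K641.MilEqv K613.Cover K635.Glue K641.MilCharts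
open Groth.Agent.FlatB.PushPair

variable {S : Scheme.{u}}

/-- Etale schemes lift. -/
def LiftEt {X X' : Sp S} (t : X ⟶ X') : Prop :=
  ∀ (U : Over S) (u : (yon S).obj U ⟶ X), RepWith @Etale u → ∃ (U' : Over S) (u' : (yon S).obj U' ⟶ X')
    (k : U ⟶ U'), RepWith @Etale u' ∧ IsPullback ((yon S).map k) u u' t

/-- Points of composites. -/
theorem surj_of_comp {F G H : Sp S} {a : F ⟶ G} {b : G ⟶ H} (h : Function.Surjective (Points.map (a ≫ b))) :
    Function.Surjective (Points.map b) := by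
  intro z
  obtain ⟨x, rfl⟩ := h z
  exact ⟨Points.map a x, (Points.map_comp _ _ _).symm⟩

theorem exists_ker_map {X Y : Sp S} {f : X ⟶ Y} {U V Q R : Over S} {c : U ⟶ V} {u : (yon S).obj U ⟶ X}
    {v : (yon S).obj V ⟶ Y} (sq : IsPullback u ((yon S).map c) f v) {q₁ q₂ : Q ⟶ U} {r₁ r₂ : R ⟶ V}
    (hq : IsPullback ((yon S).map q₁) ((yon S).map q₂) u u) (hr : IsPullback ((yon S).map r₁) ((yon S).map r₂) v v) :
    ∃ g : Q ⟶ R, IsPullback g q₁ r₁ c ∧ IsPullback g q₂ r₂ c := by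
  have hw : (yon S).map (q₁ ≫ c) ≫ v = (yon S).map (q₂ ≫ c) ≫ v := by
    rw [Functor.map_comp, Functor.map_comp, Category.assoc, Category.assoc, ← sq.w, ← Category.assoc,
      ← Category.assoc, hq.w]
  obtain ⟨g, hg⟩ := (yon S).map_surjective (hr.lift _ _ hw)
  have h1 : g ≫ r₁ = q₁ ≫ c := (yon S).map_injective (by rw [Functor.map_comp, hg, hr.lift_fst])
  have h2 : g ≫ r₂ = q₂ ≫ c := (yon S).map_injective (by rw [Functor.map_comp, hg, hr.lift_snd])
  refine ⟨g, IsPullback.of_map (yon S) h1 ?_, IsPullback.of_map (yon S) h2 ?_⟩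
  · have e1 := (hq.flip.paste_horiz sq.flip)
    have e2 : IsPullback ((yon S).map g ≫ (yon S).map r₂) ((yon S).map q₁) v ((yon S).map c ≫ v) := by
      rw [← Functor.map_comp, h2, Functor.map_comp, ← sq.w]
      exact e1
    exact IsPullback.of_right e2 (by rw [← Functor.map_comp, ← Functor.map_comp, h1]) hr.flip
  · have e1 := (hq.paste_horiz sq.flip)
    have e2 : IsPullback ((yon S).map g ≫ (yon S).map r₁) ((yon S).map q₂) v ((yon S).map c ≫ v) := by
      rw [← Functor.map_comp, h1, Functor.map_comp, ← sq.w]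
      exact e1
    exact IsPullback.of_right e2 (by rw [← Functor.map_comp, ← Functor.map_comp, h2]) hr

theorem mil_of_cover {X' Y Y' : Sp S} {f' : X' ⟶ Y'} {t' : Y ⟶ Y'} (hcl : RepWith @IsClosedImmersion t')
    (haf : RepWith @IsAffineHom f') {V VX VY : Over S} {π : (yon S).obj V ⟶ Y'} (hπ : RepWith @Etale π)
    (hπs : Function.Surjective (Points.map π)) {aX : VX ⟶ V} {x : (yon S).obj VX ⟶ X'} {aY : VY ⟶ V}
    {y : (yon S).obj VY ⟶ Y} (sqX : IsPullback x ((yon S).map aX) f' π) (sqY : IsPullback y ((yon S).map aY) t' π)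
    (hM : Mil ((yon S).map aX) ((yon S).map aY)) : Mil f' t' := by
  refine mil_of_charts hcl haf fun z => ?_
  obtain ⟨p, rfl⟩ := hπs z
  obtain ⟨p, rfl⟩ := K609.Points.ofScheme_surjective V p
  obtain ⟨O, hO, hp, -⟩ := exists_affine_nhd p ⊤ trivial
  have hO' : IsAffine (opn V O).left := hO
  have hι : Etale (opnι V O).left := by
    change Etale O.ι
    infer_instance
  obtain ⟨TY, tY, gY, sq1⟩ := hM.closed.1 ((yon S).map (opnι V O))
  obtain ⟨TX, tX, gX, sq2⟩ := hM.affine.1 ((yon S).map (opnι V O))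
  refine ⟨opn V O, TY, TX, (yon S).map (opnι V O) ≫ π, gY ≫ y, tY, gX ≫ x, tX, ⟨p, hp⟩, hO', ?_, ?_, ?_, ?_, ?_⟩
  · exact MorphismProperty.comp_mem _ _ _ ((repWith_yon_map_iff _ _).2 hι) hπ
  · exact (sq1.flip.paste_vert sqY.flip).flip
  · exact (sq2.flip.paste_vert sqX.flip).flip
  · refine hM.mil _ gY tY gX tX hO' ((repWith_yon_map_iff _ _).2 ?_) sq1 sq2
    infer_instance
  · rw [K609.Points.ofPt_yon_map_comp]
    rfl

theorem exists_kernelPair {F : Sp S} {A : Over S} {q : (yon S).obj A ⟶ F} (hq : RepWith @Etale q) :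
    ∃ (B : Over S) (x y : B ⟶ A), IsPullback ((yon S).map x) ((yon S).map y) q q ∧ Etale x.left ∧ Etale y.left := by
  obtain ⟨B, y, x, sq⟩ := hq.1 q
  obtain ⟨x, rfl⟩ := (yon S).map_surjective x
  exact ⟨B, x, y, sq, hq.2 _ _ _ sq.flip, hq.2 _ _ _ sq⟩

theorem exists_desc_quot {A RA V' R' : Over S} {r₁ r₂ : RA ⟶ A} {s₁ s₂ : R' ⟶ V'} {α : A ⟶ V'} {m : RA ⟶ R'}
    (sq₁ : IsPullback m r₁ s₁ α) (sq₂ : IsPullback m r₂ s₂ α) {Z Y' : Sp S} {z : (yon S).obj A ⟶ Z}
    {π : (yon S).obj V' ⟶ Y'} (hz : IsPullback ((yon S).map r₁) ((yon S).map r₂) z z) (hzs : FSurj z)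
    (hπ : IsPullback ((yon S).map s₁) ((yon S).map s₂) π π) :
    ∃ φ : Z ⟶ Y', z ≫ φ = (yon S).map α ≫ π ∧ IsPullback z ((yon S).map α) φ π := by
  obtain ⟨φ, hφ, -⟩ := hzs.desc ((yon S).map α ≫ π) (fun T x y hxy => by
    obtain ⟨l, rfl, rfl⟩ : ∃ l, l ≫ (yon S).map r₁ = x ∧ l ≫ (yon S).map r₂ = y :=
      ⟨hz.lift x y hxy, hz.lift_fst _ _ _, hz.lift_snd _ _ _⟩
    rw [Category.assoc, Category.assoc, ← Category.assoc ((yon S).map r₁), ← Category.assoc ((yon S).map r₂),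
      ← Functor.map_comp, ← Functor.map_comp, ← sq₁.w, ← sq₂.w, Functor.map_comp, Functor.map_comp, Category.assoc,
      Category.assoc, hπ.w])
  exact ⟨φ, hφ, isPullback_quot sq₁ sq₂ hz hzs hπ hφ⟩

/-- Existence of the Milnor square of a thickening and an affine morphism. -/
theorem exists_mil {X X' Y : Sp S} (hX' : IsAlgSpace X') (hY : IsAlgSpace Y) (t : X ⟶ X') (ht : RepWith thick t)
    (f : X ⟶ Y) (hf : RepWith @IsAffineHom f) (hL : LiftEt t) :
    ∃ (Y' : Sp S) (f' : X' ⟶ Y') (t' : Y ⟶ Y'), IsAlgSpace Y' ∧ IsPullback t f f' t' ∧ Mil f' t' ∧ RepWith thick t' := by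
  obtain ⟨V, v, hv, hvs⟩ := hY.atlas
  obtain ⟨U, c, u, sqU⟩ := hf.1 v
  have hu : RepWith @Etale u := MorphismProperty.of_isPullback sqU.flip hv
  have hus : RepWith @Surjective u := MorphismProperty.of_isPullback sqU.flip hvs
  obtain ⟨U', u', k, hu', sqk⟩ := hL U u hu
  have sqU' : IsPullback u ((yon S).map k) t u' := sqk.flip
  have hk : thick k.left := ht.2 _ _ _ sqU'
  have hk1 : IsClosedImmersion k.left := hk.1
  have hk2 : Surjective k.left := hk.2
  have hc : IsAffineHom c.left := hf.2 _ _ _ sqU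
  have hus' : RepWith @Surjective u' := by
    rw [K609.Points.repWith_surjective_iff hu'.1]
    apply surj_of_comp (a := (yon S).map k)
    rw [← sqU'.w]
    intro z
    obtain ⟨x, rfl⟩ := K609.Points.surjective_map_of_repWith_surjective (K597.repWith_mono (fun _ _ f hf => hf.2) ht) z
    obtain ⟨y, rfl⟩ := K609.Points.surjective_map_of_repWith_surjective hus x
    exact ⟨y, Points.map_comp _ _ _⟩
  obtain ⟨V', a, b, hpo, hpb, hM, hs, -⟩ := K641.MilOver.exists_over (i := k) (j := c)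
    (K641.MilPair.exists_pair k.left hk2.surj c.left)
  have hb1 : IsClosedImmersion b.left := (repWith_yon_map_iff _ _).1 hM.closed
  have hb2 : Surjective b.left := ⟨hs hk2.surj⟩
  -- the kernel pairs
  obtain ⟨R, r₁, r₂, hR, hr₁, hr₂⟩ := exists_kernelPair hv
  obtain ⟨Q, q₁, q₂, hQ, hq₁, hq₂⟩ := exists_kernelPair hu
  obtain ⟨Q', q₁', q₂', hQ', hq₁', hq₂'⟩ := exists_kernelPair hu'
  obtain ⟨g, sg₁, sg₂⟩ := exists_ker_map sqU hQ hR
  obtain ⟨h, sh₁, sh₂⟩ := exists_ker_map sqU' hQ hQ'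
  obtain ⟨R', s₁, m₁, m₂, hs₁, sm₁, sn₁, hm⟩ := etGlu hpb.flip hr₁ hq₁' sg₁ sh₁
  -- the total square
  have sqR : IsPullback h g m₂ m₁ := by
    refine IsPullback.of_right (h₁₂ := q₁') (h₂₂ := s₁) (v₁₃ := a) ?_ hm.symm sn₁.flip
    have e1 := sg₁.flip.paste_horiz hpb
    rw [sh₁.w, sm₁.w]
    exact e1
  have hM' : Mil ((yon S).map m₂) ((yon S).map m₁) := by
    refine hM.bc (IsAlgSpace.yon_obj _) (IsAlgSpace.yon_obj _) (w := (yon S).map s₁) ?_ (sn₁.map (yon S))
      (sm₁.map (yon S))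
    refine K597.locP_of_repWith K597.etLoc_flat.precomp ((repWith_yon_map_iff _ _).2 ?_)
    infer_instance
  have hpoR : IsPushout h g m₂ m₁ := hM'.isPushout_over sqR.flip
  have hw₂ : h ≫ q₂' ≫ a = g ≫ r₂ ≫ b := by
    rw [← Category.assoc, sh₂.w, Category.assoc, hpo.w, ← Category.assoc, ← Category.assoc, sg₂.w]
  let s₂ : R' ⟶ V' := hpoR.desc (q₂' ≫ a) (r₂ ≫ b) hw₂
  have hs21 : m₂ ≫ s₂ = q₂' ≫ a := hpoR.inl_desc _ _ _
  have hs22 : m₁ ≫ s₂ = r₂ ≫ b := hpoR.inr_desc _ _ _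
  have w1 : (yon S).map m₁ ≫ (yon S).map s₂ = (yon S).map r₂ ≫ (yon S).map b := by
    rw [← Functor.map_comp, ← Functor.map_comp, hs22]
  have w2 : (yon S).map m₂ ≫ (yon S).map s₂ = (yon S).map q₂' ≫ (yon S).map a := by
    rw [← Functor.map_comp, ← Functor.map_comp, hs21]
  obtain ⟨f1, f2⟩ := K641.MilGlobal.isPullback_faces (hpb.map (yon S)) (sqR.map (yon S)) (sg₂.map (yon S))
    (sh₂.map (yon S)) w1 w2 hM hM' (IsAlgSpace.yon_obj _) (IsAlgSpace.yon_obj _)
  have sm₂ : IsPullback m₁ r₂ s₂ b := IsPullback.of_map (yon S) hs22 f1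
  have sn₂ : IsPullback m₂ q₂' s₂ a := IsPullback.of_map (yon S) hs21 f2
  have hs₂ : Etale s₂.left := by
    have := K641.MilGlobal.locP_of_faces (hpb.map (yon S)) (sqR.map (yon S)) (sg₂.map (yon S))
      (sh₂.map (yon S)) w1 w2 hM hM' (IsAlgSpace.yon_obj _) (IsAlgSpace.yon_obj _) K597.etLoc_etale
      K641.MilGlobal.detects_etale
      (K597.locP_of_repWith K597.etLoc_etale.precomp ((repWith_yon_map_iff _ _).2 hr₂))
      (K597.locP_of_repWith K597.etLoc_etale.precomp ((repWith_yon_map_iff _ _).2 hq₂'))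
    exact locP_yon_map this
  -- the equivalence relation
  have eR : IsEqvRel r₂ r₁ := K594.EqvRel.isEqvRel_of_isPullback v _ _ hR
  have eQ' : IsEqvRel q₂' q₁' := K594.EqvRel.isEqvRel_of_isPullback u' _ _ hQ'
  have eR' : IsEtaleEqvRel s₂ s₁ := by
    refine ⟨isEqvRel_of_faces (α := a) (β := b) (inj_of_thick hs₁ sm₁ sm₂ eR) (cov_of_mil hM) hs₁ hs₂
      (faceRel_of sn₁ sn₂ eQ') (faceRel_of sm₁ sm₂ eR), hs₂, hs₁⟩
  obtain ⟨Y', π, pres, hY'alg⟩ : ∃ (Y' : Sp S) (π : (yon S).obj V' ⟶ Y'), IsPresentation s₂ s₁ π ∧ IsAlgSpace Y' :=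
    ⟨_, _, K594.Bootstrap.quot_isPresentation eR', (K594.Bootstrap.quot_isAlgSpace eR').1⟩
  obtain ⟨f', hf'1, sqf⟩ := exists_desc_quot sn₁ sn₂ hQ' (ESurj.of_repWith hu' hus').fSurj pres.isPullback
  obtain ⟨t', ht'1, sqt⟩ := exists_desc_quot sm₁ sm₂ hR (ESurj.of_repWith hv hvs).fSurj pres.isPullback
  have hepi : Epi u := (ESurj.of_repWith hu hus).fSurj.epi
  have hw : t ≫ f' = f ≫ t' := by
    rw [← cancel_epi u, ← Category.assoc, sqU'.w, Category.assoc, hf'1, ← Category.assoc u f, sqU.w, Category.assoc,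
      ht'1, ← Category.assoc, ← Category.assoc, ← Functor.map_comp, ← Functor.map_comp, hpb.w]
  have haf : RepWith @IsAffineHom f' := by
    rw [← K597.Affine.isAffineMor_iff]
    refine K597.Affine.isAffineMor_of_cover sqf pres.etale pres.surjective ?_
    rw [K597.Affine.isAffineMor_iff]
    exact hM.affine
  have hta : RepWith @IsAffineHom t' := by
    rw [← K597.Affine.isAffineMor_iff]
    refine K597.Affine.isAffineMor_of_cover sqt pres.etale pres.surjective ?_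
    rw [K597.Affine.isAffineMor_iff]
    exact K597.repWith_mono (fun _ _ f (hf : IsClosedImmersion f) => (inferInstance : IsAffineHom f)) hM.closed
  have hπF : FSurj π := (ESurj.of_repWith pres.etale pres.surjective).fSurj
  have hcl : RepWith @IsClosedImmersion t' := by
    have := K595.DescInst.isClosedImmersion.{u}
    exact hπF.repWith sqt hta.1 hM.closed
  have hsu : RepWith @Surjective t' :=
    hπF.repWith sqt hta.1 ((repWith_yon_map_iff _ _).2 hb2)
  refine ⟨Y', f', t', hY'alg, ?_, ?_, ?_⟩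
  · refine K641.LocPb.isPullback_of_charts (ι := PUnit.{u + 1}) hw (b := fun _ => u') (fun _ => hu') ?_
      (p := fun _ => u) (q := fun _ => k) (fun _ => sqU') (fun _ => ?_)
    · intro z
      obtain ⟨x, hx⟩ := K609.Points.surjective_ofPt_of_repWith_surjective hus' z
      exact ⟨⟨⟩, x, hx⟩
    · rw [hf'1, sqU.w]
      exact (hpb.map (yon S)).paste_vert sqt.flip
  · refine mil_of_cover hcl haf pres.etale ?_ sqf sqt hM
    exact K609.Points.surjective_map_of_repWith_surjective pres.surjective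
  · exact ⟨hta.1, fun T V g fst snd sq => ⟨hcl.2 _ _ _ sq, hsu.2 _ _ _ sq⟩⟩

end K641.MilSpace
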