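import Groth.Agent.AlgSp.K635.EtTop
import Groth.Agent.AlgSp.K613.Chart

/-!
# Descent data along a proper surjective morphism as maps `U ×_Y X ⟶ U`

* `Desc S`: the statement of S12201.
* `eff`: a descent datum on `U ⟶ X` in the form of a transport map `τ : U ×_Y X ⟶ U`.
* `effPlus`: glueing with a closed subspace of the base.
-/

set_option autoImplicit false
set_option linter.unusedVariables false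
universe u
open CategoryTheory CategoryTheory.Limits AlgebraicGeometry Opposite

namespace K641.ModGlue

open AlgSp

/-- The statement of S12201. -/
def Desc (S : Scheme.{u}) : Prop :=
  ∀ {X Y X₂ X₃ U U₀ U₁ W₀ W₁ W₂ : AlgSp.Space S} (f : X ⟶ Y)
    (hf : AlgSp.IsProperMor f.hom) (hfs : AlgSp.IsSurjectiveMor f.hom)
    (p₀ p₁ : X₂ ⟶ X) (hX₂ : IsPullback p₀.hom p₁.hom f.hom f.hom)
    (π₀₁ π₁₂ π₀₂ : X₃ ⟶ X₂) (hX₃ : IsPullback π₀₁.hom π₁₂.hom p₁.hom p₀.hom)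
    (h₀₂ : π₀₂ ≫ p₀ = π₀₁ ≫ p₀) (h₀₂' : π₀₂ ≫ p₁ = π₁₂ ≫ p₁)
    (u : U ⟶ X) (hu : AlgSp.IsEtaleMor u.hom)
    (a₀ : U₀ ⟶ U) (b₀ : U₀ ⟶ X₂) (hU₀ : IsPullback a₀.hom b₀.hom u.hom p₀.hom)
    (a₁ : U₁ ⟶ U) (b₁ : U₁ ⟶ X₂) (hU₁ : IsPullback a₁.hom b₁.hom u.hom p₁.hom)
    (φ : U₀ ≅ U₁) (hφ : φ.hom ≫ b₁ = b₀)
    (c₀ : W₀ ⟶ U) (d₀ : W₀ ⟶ X₃) (hW₀ : IsPullback c₀.hom d₀.hom u.hom (π₀₁ ≫ p₀).hom)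
    (c₁ : W₁ ⟶ U) (d₁ : W₁ ⟶ X₃) (hW₁ : IsPullback c₁.hom d₁.hom u.hom (π₀₁ ≫ p₁).hom)
    (c₂ : W₂ ⟶ U) (d₂ : W₂ ⟶ X₃) (hW₂ : IsPullback c₂.hom d₂.hom u.hom (π₁₂ ≫ p₁).hom)
    (e₀ : W₀ ⟶ U₀) (he₀ : e₀ ≫ a₀ = c₀) (he₀' : e₀ ≫ b₀ = d₀ ≫ π₀₁)
    (e₁ : W₁ ⟶ U₀) (he₁ : e₁ ≫ a₀ = c₁) (he₁' : e₁ ≫ b₀ = d₁ ≫ π₁₂)
    (e₂ : W₀ ⟶ U₀) (he₂ : e₂ ≫ a₀ = c₀) (he₂' : e₂ ≫ b₀ = d₀ ≫ π₀₂)
    (ψ₀₁ : W₀ ⟶ W₁) (hψ₀₁ : ψ₀₁ ≫ d₁ = d₀) (hψ₀₁' : ψ₀₁ ≫ c₁ = e₀ ≫ φ.hom ≫ a₁)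
    (ψ₁₂ : W₁ ⟶ W₂) (hψ₁₂ : ψ₁₂ ≫ d₂ = d₁) (hψ₁₂' : ψ₁₂ ≫ c₂ = e₁ ≫ φ.hom ≫ a₁)
    (ψ₀₂ : W₀ ⟶ W₂) (hψ₀₂ : ψ₀₂ ≫ d₂ = d₀) (hψ₀₂' : ψ₀₂ ≫ c₂ = e₂ ≫ φ.hom ≫ a₁)
    (cocycle : ψ₀₁ ≫ ψ₁₂ = ψ₀₂),
    ∃ (V : AlgSp.Space S) (v : V ⟶ Y) (g : U ⟶ V), AlgSp.IsEtaleMor v.hom ∧
      IsPullback g.hom u.hom v.hom f.hom ∧ a₀ ≫ g = φ.hom ≫ a₁ ≫ g

variable {S : Scheme.{u}}

/-- `P` as an algebraic space. -/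
noncomputable abbrev pb {A B C : Space S} (f : A ⟶ C) (g : B ⟶ C) : Space S :=
  ⟨pullback f.hom g.hom, K613.Chart.isAlgSpace_pullback A.2 B.2 C.2 _ _⟩

noncomputable abbrev pb1 {A B C : Space S} (f : A ⟶ C) (g : B ⟶ C) : pb f g ⟶ A := ⟨pullback.fst f.hom g.hom⟩
noncomputable abbrev pb2 {A B C : Space S} (f : A ⟶ C) (g : B ⟶ C) : pb f g ⟶ B := ⟨pullback.snd f.hom g.hom⟩

theorem isPb {A B C : Space S} (f : A ⟶ C) (g : B ⟶ C) :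
    IsPullback (pb1 f g).hom (pb2 f g).hom f.hom g.hom := IsPullback.of_hasPullback _ _

/-- maps into a pullback -/
theorem exists_map {A B C P T : Space S} {a : P ⟶ A} {b : P ⟶ B} {f : A ⟶ C} {g : B ⟶ C}
    (h : IsPullback a.hom b.hom f.hom g.hom) (x : T ⟶ A) (y : T ⟶ B) (w : x ≫ f = y ≫ g) :
    ∃ z : T ⟶ P, z ≫ a = x ∧ z ≫ b = y := by
  have w' : x.hom ≫ f.hom = y.hom ≫ g.hom := congrArg (·.hom) w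
  refine ⟨⟨h.lift x.hom y.hom w'⟩, ?_, ?_⟩
  · ext1; exact h.lift_fst _ _ _
  · ext1; exact h.lift_snd _ _ _

theorem map_ext {A B C P T : Space S} {a : P ⟶ A} {b : P ⟶ B} {f : A ⟶ C} {g : B ⟶ C}
    (h : IsPullback a.hom b.hom f.hom g.hom) {x y : T ⟶ P} (h1 : x ≫ a = y ≫ a) (h2 : x ≫ b = y ≫ b) : x = y := by
  ext1
  exact h.hom_ext (congrArg (·.hom) h1) (congrArg (·.hom) h2)

/-- Effectivity in terms of transport maps: `U₀ = U ×_Y X`. -/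
theorem eff (H : Desc S) {X Y U U₀ : Space S} (f : X ⟶ Y) (hf : IsProperMor f.hom) (hfs : IsSurjectiveMor f.hom)
    (u : U ⟶ X) (hu : IsEtaleMor u.hom) (a : U₀ ⟶ U) (b : U₀ ⟶ X) (hU₀ : IsPullback a.hom b.hom (u ≫ f).hom f.hom)
    (τ : U₀ ⟶ U) (hτ : τ ≫ u = b)
    (hid : ∀ (T : Space S) (s : T ⟶ U₀), s ≫ a ≫ u = s ≫ b → s ≫ τ = s ≫ a)
    (hco : ∀ (T : Space S) (s t r : T ⟶ U₀), t ≫ a = s ≫ τ → r ≫ a = s ≫ a → r ≫ b = t ≫ b → t ≫ τ = r ≫ τ) :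
    ∃ (V : Space S) (v : V ⟶ Y) (g : U ⟶ V), IsEtaleMor v.hom ∧
      IsPullback g.hom u.hom v.hom f.hom ∧ a ≫ g = τ ≫ g := by
  -- the spaces
  let p₀ := pb1 f f
  let p₁ := pb2 f f
  have hX₂ : IsPullback p₀.hom p₁.hom f.hom f.hom := isPb f f
  let π₀₁ := pb1 p₁ p₀
  let π₁₂ := pb2 p₁ p₀
  have hX₃ : IsPullback π₀₁.hom π₁₂.hom p₁.hom p₀.hom := isPb p₁ p₀
  have w₂ : p₀ ≫ f = p₁ ≫ f := by ext1; exact hX₂.w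
  have w₃ : π₀₁ ≫ p₁ = π₁₂ ≫ p₀ := by ext1; exact hX₃.w
  obtain ⟨π₀₂, h₀₂, h₀₂'⟩ := exists_map hX₂ (π₀₁ ≫ p₀) (π₁₂ ≫ p₁) (by
    rw [Category.assoc, w₂, reassoc_of% w₃, w₂, Category.assoc])
  have w₀ : a ≫ u ≫ f = b ≫ f := by ext1; exact hU₀.w
  obtain ⟨b₀, hb₀, hb₀'⟩ := exists_map hX₂ (a ≫ u) b (by rw [Category.assoc, w₀])
  have hU₀' : IsPullback a.hom b₀.hom u.hom p₀.hom := by
    have e1 : b₀.hom ≫ p₀.hom = a.hom ≫ u.hom := congrArg (·.hom) hb₀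
    have e2 : b₀.hom ≫ p₁.hom = b.hom := congrArg (·.hom) hb₀'
    refine ⟨⟨e1.symm⟩, ⟨PullbackCone.IsLimit.mk _ (fun c => hU₀.lift c.fst (c.snd ≫ p₁.hom) ?_) (fun c => ?_)
      (fun c => ?_) (fun c m h1 h2 => ?_)⟩⟩
    · have : c.fst ≫ (u ≫ f).hom = (c.fst ≫ u.hom) ≫ f.hom := by rw [Category.assoc]; rfl
      rw [this, c.condition, Category.assoc, Category.assoc, hX₂.w]
    · exact hU₀.lift_fst _ _ _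
    · apply hX₂.hom_ext
      · rw [Category.assoc, e1, hU₀.lift_fst_assoc, c.condition]
      · rw [Category.assoc, e2, hU₀.lift_snd]
    · apply hU₀.hom_ext
      · rw [hU₀.lift_fst, h1]
      · rw [hU₀.lift_snd, ← h2, Category.assoc, e2]
  let U₁ := pb u p₁
  let a₁ := pb1 u p₁
  let b₁ := pb2 u p₁
  have hU₁ : IsPullback a₁.hom b₁.hom u.hom p₁.hom := isPb u p₁
  have w₁ : a₁ ≫ u = b₁ ≫ p₁ := by ext1; exact hU₁.w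
  obtain ⟨φ, hφa, hφb⟩ := exists_map hU₁ τ b₀ (by rw [hτ, hb₀'])
  obtain ⟨t, hta, htb⟩ := exists_map hU₀ a₁ (b₁ ≫ p₀) (by rw [reassoc_of% w₁, Category.assoc, w₂])
  obtain ⟨σ, hσa, hσb⟩ := exists_map hU₀ (t ≫ τ) (a₁ ≫ u) (by
    rw [Category.assoc, reassoc_of% hτ, reassoc_of% htb, w₂, Category.assoc, reassoc_of% w₁])
  obtain ⟨r₀, hr₀a, hr₀b⟩ := exists_map hU₀ a (a ≫ u) (by rw [Category.assoc])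
  obtain ⟨r₁, hr₁a, hr₁b⟩ := exists_map hU₀ a₁ (a₁ ≫ u) (by rw [Category.assoc])
  have φσ : φ ≫ σ = 𝟙 _ := by
    refine map_ext hU₀ ?_ ?_
    · rw [Category.assoc, hσa, Category.id_comp, ← Category.assoc,
        hco _ (𝟙 _) (φ ≫ t) r₀ (by rw [Category.assoc, hta, hφa, Category.id_comp]) (by rw [hr₀a, Category.id_comp])
          (by rw [hr₀b, Category.assoc, htb, reassoc_of% hφb, hb₀]),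
        hid _ r₀ (by rw [reassoc_of% hr₀a, hr₀b]), hr₀a]
    · rw [Category.assoc, hσb, Category.id_comp, reassoc_of% hφa, hτ]
  have σφ : σ ≫ φ = 𝟙 _ := by
    refine map_ext hU₁ ?_ ?_
    · rw [Category.assoc, hφa, Category.id_comp,
        hco _ t σ r₁ hσa (by rw [hr₁a, hta]) (by rw [hr₁b, hσb]),
        hid _ r₁ (by rw [reassoc_of% hr₁a, hr₁b]), hr₁a]
    · rw [Category.assoc, hφb, Category.id_comp]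
      refine map_ext hX₂ ?_ ?_
      · rw [Category.assoc, hb₀, reassoc_of% hσa, hτ, htb]
      · rw [Category.assoc, hb₀', hσb, w₁]
  -- the triple overlaps
  have hW₀ := isPb u (π₀₁ ≫ p₀)
  have hW₁ := isPb u (π₀₁ ≫ p₁)
  have hW₂ := isPb u (π₁₂ ≫ p₁)
  have w₀' : pb1 u (π₀₁ ≫ p₀) ≫ u = pb2 u (π₀₁ ≫ p₀) ≫ π₀₁ ≫ p₀ := by ext1; exact hW₀.w
  have w₁' : pb1 u (π₀₁ ≫ p₁) ≫ u = pb2 u (π₀₁ ≫ p₁) ≫ π₀₁ ≫ p₁ := by ext1; exact hW₁.w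
  have w₂' : pb1 u (π₁₂ ≫ p₁) ≫ u = pb2 u (π₁₂ ≫ p₁) ≫ π₁₂ ≫ p₁ := by ext1; exact hW₂.w
  obtain ⟨e₀, he₀, he₀'⟩ := exists_map hU₀' (pb1 u (π₀₁ ≫ p₀)) (pb2 u (π₀₁ ≫ p₀) ≫ π₀₁) (by
    rw [w₀', Category.assoc])
  obtain ⟨e₁, he₁, he₁'⟩ := exists_map hU₀' (pb1 u (π₀₁ ≫ p₁)) (pb2 u (π₀₁ ≫ p₁) ≫ π₁₂) (by
    rw [w₁', w₃, Category.assoc])
  obtain ⟨e₂, he₂, he₂'⟩ := exists_map hU₀' (pb1 u (π₀₁ ≫ p₀)) (pb2 u (π₀₁ ≫ p₀) ≫ π₀₂) (by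
    rw [w₀', Category.assoc, h₀₂])
  obtain ⟨ψ₀₁, hψ₀₁', hψ₀₁⟩ := exists_map hW₁ (e₀ ≫ φ ≫ a₁) (pb2 u (π₀₁ ≫ p₀)) (by
    rw [Category.assoc, Category.assoc, w₁, reassoc_of% hφb, reassoc_of% he₀'])
  obtain ⟨ψ₁₂, hψ₁₂', hψ₁₂⟩ := exists_map hW₂ (e₁ ≫ φ ≫ a₁) (pb2 u (π₀₁ ≫ p₁)) (by
    rw [Category.assoc, Category.assoc, w₁, reassoc_of% hφb, reassoc_of% he₁'])
  obtain ⟨ψ₀₂, hψ₀₂', hψ₀₂⟩ := exists_map hW₂ (e₂ ≫ φ ≫ a₁) (pb2 u (π₀₁ ≫ p₀)) (by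
    rw [Category.assoc, Category.assoc, w₁, reassoc_of% hφb, reassoc_of% he₂', h₀₂'])
  obtain ⟨V, v, g, h1, h2, h3⟩ := H f hf hfs p₀ p₁ hX₂ π₀₁ π₁₂ π₀₂ hX₃ h₀₂ h₀₂' u hu a b₀ hU₀' a₁ b₁ hU₁
    ⟨φ, σ, φσ, σφ⟩ hφb _ _ hW₀ _ _ hW₁ _ _ hW₂ e₀ he₀ he₀' e₁ he₁ he₁' e₂ he₂ he₂' ψ₀₁ hψ₀₁ hψ₀₁'
    ψ₁₂ hψ₁₂ hψ₁₂' ψ₀₂ hψ₀₂ hψ₀₂' (by
      refine map_ext hW₂ ?_ ?_
      · rw [Category.assoc, hψ₁₂', hψ₀₂', hφa, ← Category.assoc]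
        refine hco _ e₀ (ψ₀₁ ≫ e₁) e₂ ?_ ?_ ?_
        · rw [Category.assoc, he₁, hψ₀₁', hφa]
        · rw [he₂, he₀]
        · rw [← hb₀', reassoc_of% he₂', Category.assoc, reassoc_of% he₁', reassoc_of% hψ₀₁, h₀₂']
      · rw [Category.assoc, hψ₁₂, hψ₀₁, hψ₀₂])
  refine ⟨V, v, g, h1, h2, ?_⟩
  rw [h3]
  change φ ≫ a₁ ≫ g = τ ≫ g
  rw [reassoc_of% hφa]

end K641.ModGlue
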