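import Groth.Agent.AlgSp.K641.ModGlue1
import Groth.Agent.AlgSp.K596.ClosedQC

/-!
# Glueing an etale space on `X` with an etale space on `Z`

* `exists_tau`: `X ⟶ Y` proper, `i : Z ⟶ Y` closed immersion such that `X ⟶ Y` is a monomorphism over the complement of `Z`,
  `U ⟶ X` and `W ⟶ Z` etale with the same pullback to `X_Z`: the transport map `U ×_Y X ⟶ U`.
* `effPlus`: the glued space.
-/

set_option autoImplicit false
set_option linter.unusedVariables false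
universe u
open CategoryTheory CategoryTheory.Limits AlgebraicGeometry Opposite

namespace K641.ModGlue

open AlgSp K635.EtTop

variable {S : Scheme.{u}}

section Tau

variable {X Y Z XZ Uo U UZ W : Sp S} {f : X ⟶ Y} {i : Z ⟶ Y} {kX : XZ ⟶ X} {fZ : XZ ⟶ Z} {jU : Uo ⟶ Y} {u : U ⟶ X}
  {kU : UZ ⟶ U} {uZ : UZ ⟶ XZ} {w : W ⟶ Z} {q : UZ ⟶ W}

/-- the standing hypotheses -/
structure Dat (f : X ⟶ Y) (i : Z ⟶ Y) (kX : XZ ⟶ X) (fZ : XZ ⟶ Z) (jU : Uo ⟶ Y) (u : U ⟶ X)
    (kU : UZ ⟶ U) (uZ : UZ ⟶ XZ) (w : W ⟶ Z) (q : UZ ⟶ W) : Prop where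
  hX : IsAlgSpace X
  hY : IsAlgSpace Y
  hZ : IsAlgSpace Z
  hXZ : IsAlgSpace XZ
  hU : IsAlgSpace U
  hUZ : IsAlgSpace UZ
  hW : IsAlgSpace W
  sep : IsSeparatedMor f
  uc : IsUnivClosedMor f
  surj : Function.Surjective (Points.map f)
  hi : RepWith @IsClosedImmersion i
  sqX : IsPullback kX fZ f i
  range : Set.range (Points.map jU) = (Set.range (Points.map i))ᶜ
  mono : ∀ {T : Sp S} (x₀ x₁ : T ⟶ X) (t : T ⟶ Uo), x₀ ≫ f = t ≫ jU → x₁ ≫ f = t ≫ jU → x₀ = x₁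
  et : IsEtaleMor u
  etW : IsEtaleMor w
  sqU : IsPullback kU uZ u kX
  sqW : IsPullback q uZ w fZ

variable (D : Dat f i kX fZ jU u kU uZ w q)
include D

theorem Dat.mono_i : Mono i := K610.Factor.mono_of_isClosedImmersion D.hi

theorem Dat.mono_kX : Mono kX := by
  have := D.mono_i
  exact MorphismProperty.of_isPullback (P := MorphismProperty.monomorphisms (Sp S)) D.sqX.flip this

theorem Dat.mono_kU : Mono kU := by
  have := D.mono_kX
  exact MorphismProperty.of_isPullback (P := MorphismProperty.monomorphisms (Sp S)) D.sqU.flip this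

/-- Every point is over `Z` or over the complement: a test for equality of points etc. -/
theorem Dat.cases {T : Sp S} (t : T ⟶ Y) (x : Points T) :
    (∃ (T' : Sp S) (p : T' ⟶ T) (x' : Points T') (z : T' ⟶ Z), Points.map p x' = x ∧ p ≫ t = z ≫ i) ∨
    (∃ (T' : Sp S) (p : T' ⟶ T) (x' : Points T') (z : T' ⟶ Uo), Points.map p x' = x ∧ p ≫ t = z ≫ jU) := by
  by_cases h : Points.map t x ∈ Set.range (Points.map i)
  · obtain ⟨y, hy⟩ := h
    obtain ⟨z, hz1, hz2⟩ := K610.Base.exists_of_isPullback (IsPullback.of_hasPullback t i) x y hy.symm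
    exact Or.inl ⟨_, pullback.fst t i, z, pullback.snd t i, hz1, pullback.condition⟩
  · have h' : Points.map t x ∈ Set.range (Points.map jU) := by rw [D.range]; exact h
    obtain ⟨y, hy⟩ := h'
    obtain ⟨z, hz1, hz2⟩ := K610.Base.exists_of_isPullback (IsPullback.of_hasPullback t jU) x y hy.symm
    exact Or.inr ⟨_, pullback.fst t jU, z, pullback.snd t jU, hz1, pullback.condition⟩

/-- transport over `Z` -/
theorem Dat.exists_m {T : Sp S} (s : T ⟶ U) (x : T ⟶ X) (z : T ⟶ Z) (h1 : s ≫ u ≫ f = z ≫ i) (h2 : x ≫ f = z ≫ i) :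
    ∃ m m' : T ⟶ UZ, m ≫ kU = s ∧ m' ≫ q = m ≫ q ∧ m' ≫ kU ≫ u = x := by
  obtain ⟨m, hm, hm'⟩ : ∃ m : T ⟶ UZ, m ≫ kU = s ∧ m ≫ uZ ≫ fZ = z := by
    refine ⟨D.sqU.lift s (D.sqX.lift (s ≫ u) z (by rw [Category.assoc, h1])) (by rw [D.sqX.lift_fst]), ?_, ?_⟩
    · rw [D.sqU.lift_fst]
    · rw [D.sqU.lift_snd_assoc, D.sqX.lift_snd]
  refine ⟨m, D.sqW.lift (m ≫ q) (D.sqX.lift x z h2) ?_, hm, ?_, ?_⟩
  · rw [D.sqX.lift_snd, Category.assoc, D.sqW.w, hm']
  · rw [D.sqW.lift_fst]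
  · rw [D.sqU.w, D.sqW.lift_snd_assoc, D.sqX.lift_fst]

theorem Dat.m_unique {T : Sp S} {m m' : T ⟶ UZ} (h : m ≫ q = m' ≫ q) (h' : m ≫ kU ≫ u = m' ≫ kU ≫ u) : m = m' := by
  have := D.mono_kX
  refine D.sqW.hom_ext h ?_
  rw [← cancel_mono kX, Category.assoc, Category.assoc, ← D.sqU.w, h']

/-- The transport map. -/
theorem Dat.exists_tau {U₀ : Sp S} (hU₀' : IsAlgSpace U₀) {a : U₀ ⟶ U} {b : U₀ ⟶ X} (hU₀ : IsPullback a b (u ≫ f) f) :
    ∃ τ : U₀ ⟶ U, τ ≫ u = b ∧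
      (∀ (T : Sp S) (s : T ⟶ U₀), s ≫ a ≫ u = s ≫ b → s ≫ τ = s ≫ a) ∧
      (∀ (T : Sp S) (s : T ⟶ U₀) (m m' : T ⟶ UZ), m ≫ kU = s ≫ a → m' ≫ q = m ≫ q → m' ≫ kU ≫ u = s ≫ b →
        s ≫ τ = m' ≫ kU) := by
  have hmi := D.mono_i
  have hmkU := D.mono_kU
  -- the diagonal piece
  obtain ⟨gA, hgA1, hgA2⟩ : ∃ gA : U ⟶ U₀, gA ≫ a = 𝟙 _ ∧ gA ≫ b = u :=
    ⟨hU₀.lift (𝟙 _) u (by rw [Category.id_comp]), hU₀.lift_fst _ _ _, hU₀.lift_snd _ _ _⟩
  have hgA : IsUnivClosedMor gA := by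
    obtain ⟨θ, hθ1, hθ2⟩ : ∃ θ : U₀ ⟶ pullback f f, θ ≫ pullback.fst f f = a ≫ u ∧ θ ≫ pullback.snd f f = b :=
      ⟨pullback.lift (a ≫ u) b (by rw [Category.assoc, hU₀.w]), pullback.lift_fst _ _ _, pullback.lift_snd _ _ _⟩
    have sq : IsPullback gA u θ (pullback.diagonal f) := by
      refine ⟨⟨?_⟩, ⟨PullbackCone.IsLimit.mk _ (fun c => c.fst ≫ a) (fun c => ?_) (fun c => ?_) (fun c m h1 h2 => ?_)⟩⟩
      · apply pullback.hom_ext
        · rw [Category.assoc, Category.assoc, hθ1, pullback.diagonal_fst, Category.comp_id,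
            reassoc_of% hgA1]
        · rw [Category.assoc, Category.assoc, hθ2, pullback.diagonal_snd, Category.comp_id, hgA2]
      · have e1 := congrArg (· ≫ pullback.fst f f) c.condition
        have e2 := congrArg (· ≫ pullback.snd f f) c.condition
        simp only [Category.assoc] at e1 e2
        rw [hθ1, pullback.diagonal_fst, Category.comp_id] at e1
        rw [hθ2, pullback.diagonal_snd, Category.comp_id] at e2
        apply hU₀.hom_ext
        · rw [Category.assoc, hgA1, Category.comp_id]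
        · rw [Category.assoc, hgA2, Category.assoc, e1, e2]
      · have e1 := congrArg (· ≫ pullback.fst f f) c.condition
        simp only [Category.assoc] at e1
        rw [hθ1, pullback.diagonal_fst, Category.comp_id] at e1
        rw [Category.assoc, e1]
      · rw [← h1, Category.assoc, hgA1, Category.comp_id]
    exact isUnivClosedMor_of_closed ((RepWith @IsClosedImmersion).of_isPullback sq.flip D.sep)
  -- the piece over `Z`
  obtain ⟨UB, gB, zB, sqB, hUB⟩ : ∃ (UB : Sp S) (gB : UB ⟶ U₀) (zB : UB ⟶ Z), IsPullback gB zB (b ≫ f) i ∧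
      IsAlgSpace UB :=
    ⟨_, _, _, IsPullback.of_hasPullback _ _, K613.Chart.isAlgSpace_pullback hU₀' D.hZ D.hY _ _⟩
  have hgBm : Mono gB := MorphismProperty.of_isPullback (P := MorphismProperty.monomorphisms (Sp S)) sqB.flip hmi
  have hgB : IsUnivClosedMor gB := isUnivClosedMor_of_closed
    ((RepWith @IsClosedImmersion).of_isPullback sqB.flip D.hi)
  have hgBw : gB ≫ b ≫ f = zB ≫ i := sqB.w
  obtain ⟨m, m', hm, hm', hm''⟩ := D.exists_m (gB ≫ a) (gB ≫ b) zB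
    (by rw [Category.assoc, hU₀.w, hgBw]) (by rw [Category.assoc, hgBw])
  obtain ⟨τ, hτ, hA, hB⟩ := glue₂ hU₀' D.hU D.hX D.et D.hU hUB gA gB hgA hgB (by
      intro x
      rcases D.cases (b ≫ f) x with ⟨T', p, x', z, rfl, hz⟩ | ⟨T', p, x', z, rfl, hz⟩
      · refine Or.inr ⟨Points.map (sqB.lift p z hz) x', ?_⟩
        rw [← Points.map_comp, sqB.lift_fst]
      · refine Or.inl ⟨Points.map (p ≫ a) x', ?_⟩
        rw [← Points.map_comp]
        refine congrArg (fun k => Points.map k x') (hU₀.hom_ext ?_ ?_)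
        · rw [Category.assoc, Category.assoc, hgA1, Category.comp_id]
        · rw [Category.assoc, Category.assoc, hgA2]
          exact D.mono _ _ z (by rw [Category.assoc, Category.assoc, hU₀.w, hz]) (by rw [Category.assoc, hz]))
    (𝟙 _) (m' ≫ kU) (t := b) (by rw [Category.id_comp, hgA2]) (by rw [Category.assoc, hm''])
    (fun R p p' h => by
      have := congrArg (· ≫ a) h
      simp only [Category.assoc, hgA1, Category.comp_id] at this
      rw [this])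
    (fun R p p' h => by rw [(cancel_mono gB).1 h])
    (fun R p p' h => by
      have e1 := congrArg (· ≫ a) h
      simp only [Category.assoc, hgA1, Category.comp_id] at e1
      have e2 := congrArg (· ≫ b) h
      simp only [Category.assoc, hgA2] at e2
      have e3 : p' ≫ m = p' ≫ m' := by
        refine D.m_unique ?_ ?_
        · rw [Category.assoc, Category.assoc, hm']
        · rw [Category.assoc, Category.assoc, hm'', ← e2, reassoc_of% hm, ← reassoc_of% e1]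
      rw [Category.comp_id, ← Category.assoc, ← e3, Category.assoc, hm, e1])
  refine ⟨τ, hτ, ?_, ?_⟩
  · intro T s hs
    have : s = (s ≫ a) ≫ gA := by
      apply hU₀.hom_ext
      · rw [Category.assoc, hgA1, Category.comp_id]
      · rw [Category.assoc, hgA2, Category.assoc, hs]
    calc s ≫ τ = ((s ≫ a) ≫ gA) ≫ τ := by rw [← this]
      _ = s ≫ a := by rw [Category.assoc, hA, Category.comp_id]
  · intro T s n n' hn hn' hn''
    have hs : s ≫ b ≫ f = (n ≫ uZ ≫ fZ) ≫ i := by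
      have e1 : n ≫ uZ ≫ fZ = n' ≫ uZ ≫ fZ := by rw [← D.sqW.w, ← reassoc_of% hn']
      rw [← Category.assoc, ← hn'', e1]
      simp only [Category.assoc]
      rw [D.sqU.w_assoc, D.sqX.w]
    obtain ⟨s', hs'⟩ : ∃ s' : T ⟶ UB, s' ≫ gB = s := ⟨sqB.lift s (n ≫ uZ ≫ fZ) hs, sqB.lift_fst _ _ _⟩
    have e2 : s' ≫ m = n := by
      rw [← cancel_mono kU, Category.assoc, hm, reassoc_of% hs', hn]
    have e3 : s' ≫ m' = n' := by
      refine D.m_unique ?_ ?_
      · rw [Category.assoc, hm', reassoc_of% e2, hn']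
      · rw [Category.assoc, hm'', reassoc_of% hs', hn'']
    rw [← hs', Category.assoc, hB, reassoc_of% e3]

end Tau

section Eff

variable {X Y Z XZ Uo U UZ W : Space S} {f : X ⟶ Y} {i : Z ⟶ Y} {kX : XZ ⟶ X} {fZ : XZ ⟶ Z} {jU : Uo ⟶ Y} {u : U ⟶ X}
  {kU : UZ ⟶ U} {uZ : UZ ⟶ XZ} {w : W ⟶ Z} {q : UZ ⟶ W}

theorem effPlus (H : Desc S)
    (D : Dat f.hom i.hom kX.hom fZ.hom jU.hom u.hom kU.hom uZ.hom w.hom q.hom) (hf : IsProperMor f.hom) :
    ∃ (V : Space S) (v : V ⟶ Y) (g : U ⟶ V) (b : W ⟶ V), IsEtaleMor v.hom ∧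
      IsPullback g.hom u.hom v.hom f.hom ∧ IsPullback b.hom w.hom v.hom i.hom ∧ kU ≫ g = q ≫ b := by
  have hmi := D.mono_i
  have hmkU := D.mono_kU
  have hmkX := D.mono_kX
  have hU₀ := isPb (u ≫ f) f
  obtain ⟨τ, hτ, hid, hm⟩ := D.exists_tau (pb (u ≫ f) f).2 hU₀
  have huc : IsUnivClosedMor fZ.hom := K596.ClosedQC.isUnivClosedMor_of_isPullback D.sqX D.uc
  have hsZ : Function.Surjective (Points.map fZ.hom) := by
    intro z
    obtain ⟨x, hx⟩ := D.surj (Points.map i.hom z)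
    obtain ⟨y, -, hy⟩ := K610.Base.exists_of_isPullback D.sqX x z hx
    exact ⟨y, hy⟩
  -- cocycle
  have hco : ∀ (T : Space S) (s t r : T ⟶ pb (u ≫ f) f), t ≫ pb1 _ _ = s ≫ ⟨τ⟩ → r ≫ pb1 _ _ = s ≫ pb1 _ _ →
      r ≫ pb2 _ _ = t ≫ pb2 _ _ → t ≫ (⟨τ⟩ : pb (u ≫ f) f ⟶ U) = r ≫ ⟨τ⟩ := by
    intro T s t r h1 h2 h3
    have h1' := congrArg (·.hom) h1
    have h2' := congrArg (·.hom) h2
    have h3' := congrArg (·.hom) h3
    change t.hom ≫ pullback.fst (u ≫ f).hom f.hom = s.hom ≫ τ at h1'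
    change r.hom ≫ pullback.fst (u ≫ f).hom f.hom = s.hom ≫ pullback.fst (u ≫ f).hom f.hom at h2'
    change r.hom ≫ pullback.snd (u ≫ f).hom f.hom = t.hom ≫ pullback.snd (u ≫ f).hom f.hom at h3'
    ext1
    change t.hom ≫ τ = r.hom ≫ τ
    have hτ' : τ ≫ u.hom = pullback.snd (u ≫ f).hom f.hom := hτ
    have hw : pullback.fst (u ≫ f).hom f.hom ≫ u.hom ≫ f.hom = pullback.snd (u ≫ f).hom f.hom ≫ f.hom :=
      pullback.condition
    refine eq_of_points D.hU D.hX D.et _ _ (by rw [Category.assoc, Category.assoc, hτ', h3']) fun x => ?_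
    rcases D.cases (s.hom ≫ pullback.snd (u ≫ f).hom f.hom ≫ f.hom) x with
      ⟨T', p, x', z, rfl, hz⟩ | ⟨T', p, x', z, rfl, hz⟩
    · refine ⟨T', p, x', rfl, ?_⟩
      obtain ⟨m, m', k1, k2, k3⟩ := D.exists_m (p ≫ s.hom ≫ pullback.fst (u ≫ f).hom f.hom)
        (p ≫ s.hom ≫ pullback.snd (u ≫ f).hom f.hom) z
        (by rw [Category.assoc, Category.assoc, hw, hz]) (by rw [Category.assoc, Category.assoc, hz])
      have k4 := hm T' (p ≫ s.hom) m m' (by rw [k1, Category.assoc]) k2 (by rw [k3, Category.assoc])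
      rw [Category.assoc] at k4
      -- transport to the target of `t`
      have hz' : (p ≫ t.hom ≫ pullback.snd (u ≫ f).hom f.hom) ≫ f.hom = z ≫ i.hom := by
        rw [← h3', ← hz]
        have e1 : r.hom ≫ pullback.snd (u ≫ f).hom f.hom ≫ f.hom =
            s.hom ≫ pullback.snd (u ≫ f).hom f.hom ≫ f.hom := by
          rw [← hw, ← Category.assoc, h2', Category.assoc]
        simp only [Category.assoc]
        rw [e1]
      have hz'' : (p ≫ t.hom ≫ pullback.fst (u ≫ f).hom f.hom) ≫ u.hom ≫ f.hom = z ≫ i.hom := by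
        rw [Category.assoc, Category.assoc, hw, ← hz']
        simp only [Category.assoc]
      obtain ⟨n, n', l1, l2, l3⟩ := D.exists_m (p ≫ t.hom ≫ pullback.fst (u ≫ f).hom f.hom)
        (p ≫ t.hom ≫ pullback.snd (u ≫ f).hom f.hom) z hz'' hz'
      have l4 := hm T' (p ≫ t.hom) n n' (by rw [l1, Category.assoc]) l2 (by rw [l3, Category.assoc])
      have l5 : n = m' := by
        rw [← cancel_mono kU.hom, l1, h1', k4]
      have l6 := hm T' (p ≫ r.hom) m n' (by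
          rw [k1, Category.assoc]
          exact (congrArg (p ≫ ·) h2').symm) (by rw [l2, l5, k2]) (by
          rw [l3, Category.assoc, ← h3'])
      rw [Category.assoc] at l4 l6
      rw [l4, l6]
    · refine ⟨T', p, x', rfl, ?_⟩
      have e1 : r.hom ≫ pullback.snd (u ≫ f).hom f.hom ≫ f.hom =
          s.hom ≫ pullback.snd (u ≫ f).hom f.hom ≫ f.hom := by
        rw [← hw, ← Category.assoc, h2', Category.assoc]
      have e2 : t.hom ≫ pullback.snd (u ≫ f).hom f.hom ≫ f.hom =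
          s.hom ≫ pullback.snd (u ≫ f).hom f.hom ≫ f.hom := by
        rw [← e1, ← Category.assoc, ← h3', Category.assoc]
      have m1 : (p ≫ s.hom ≫ pullback.fst (u ≫ f).hom f.hom) ≫ u.hom = p ≫ s.hom ≫ pullback.snd (u ≫ f).hom f.hom :=
        D.mono _ _ z (by simp only [Category.assoc]; rw [hw, hz]) (by simp only [Category.assoc]; rw [hz])
      have m2 : (p ≫ t.hom ≫ pullback.fst (u ≫ f).hom f.hom) ≫ u.hom = p ≫ t.hom ≫ pullback.snd (u ≫ f).hom f.hom :=
        D.mono _ _ z (by simp only [Category.assoc]; rw [hw, e2, hz]) (by simp only [Category.assoc]; rw [e2, hz])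
      have m3 : (p ≫ r.hom ≫ pullback.fst (u ≫ f).hom f.hom) ≫ u.hom = p ≫ r.hom ≫ pullback.snd (u ≫ f).hom f.hom :=
        D.mono _ _ z (by simp only [Category.assoc]; rw [hw, e1, hz]) (by simp only [Category.assoc]; rw [e1, hz])
      have n1 := hid T' (p ≫ s.hom) (by simpa only [Category.assoc] using m1)
      have n2 := hid T' (p ≫ t.hom) (by simpa only [Category.assoc] using m2)
      have n3 := hid T' (p ≫ r.hom) (by simpa only [Category.assoc] using m3)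
      rw [Category.assoc, Category.assoc] at n1 n2 n3
      change p ≫ s.hom ≫ τ = p ≫ s.hom ≫ pullback.fst (u ≫ f).hom f.hom at n1
      change p ≫ t.hom ≫ τ = p ≫ t.hom ≫ pullback.fst (u ≫ f).hom f.hom at n2
      change p ≫ r.hom ≫ τ = p ≫ r.hom ≫ pullback.fst (u ≫ f).hom f.hom at n3
      rw [n2, n3, h1', n1, h2']
  obtain ⟨V, v, g, hv, sqV, hg⟩ := eff H f hf D.surj u D.et _ _ hU₀ ⟨τ⟩ (by ext1; exact hτ)
    (fun T s hs => by ext1; exact hid _ s.hom (congrArg (·.hom) hs)) hco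
  have hg' : pullback.fst (u ≫ f).hom f.hom ≫ g.hom = τ ≫ g.hom := congrArg (·.hom) hg
  have hgv : g.hom ≫ v.hom = u.hom ≫ f.hom := sqV.w
  have hτu : τ ≫ u.hom = pullback.snd (u ≫ f).hom f.hom := hτ
  have base : ∀ (R : Sp S) (p : R ⟶ UZ.obj), p ≫ kU.hom ≫ u.hom ≫ f.hom = p ≫ uZ.hom ≫ fZ.hom ≫ i.hom := by
    intro R p
    rw [D.sqU.w_assoc, D.sqX.w]
  have base' : ∀ (R : Sp S) (p : R ⟶ UZ.obj), p ≫ kU.hom ≫ u.hom ≫ f.hom = p ≫ q.hom ≫ w.hom ≫ i.hom := by
    intro R p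
    rw [base, D.sqW.w_assoc]
  have key1 : ∀ (R : Sp S) (p p' : R ⟶ UZ.obj), p ≫ q.hom = p' ≫ q.hom →
      p ≫ kU.hom ≫ g.hom = p' ≫ kU.hom ≫ g.hom := by
    intro R p p' h
    obtain ⟨s, hs1, hs2⟩ : ∃ s : R ⟶ pullback (u ≫ f).hom f.hom, s ≫ pullback.fst (u ≫ f).hom f.hom = p ≫ kU.hom ∧
        s ≫ pullback.snd (u ≫ f).hom f.hom = p' ≫ kU.hom ≫ u.hom := by
      refine ⟨pullback.lift _ _ ?_, pullback.lift_fst _ _ _, pullback.lift_snd _ _ _⟩
      have e1 := base' R p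
      have e2 := base' R p'
      rw [reassoc_of% h] at e1
      simp only [Category.assoc]
      exact e1.trans e2.symm
    have h1 := hm R s p p' hs1.symm h.symm hs2.symm
    rw [← Category.assoc, ← hs1, Category.assoc, hg', reassoc_of% h1]
  have key2 : ∀ (R : Sp S) (p p' : R ⟶ UZ.obj), p ≫ kU.hom ≫ g.hom = p' ≫ kU.hom ≫ g.hom →
      p ≫ q.hom = p' ≫ q.hom := by
    intro R p p' h
    have hb : p ≫ kU.hom ≫ u.hom ≫ f.hom = p' ≫ kU.hom ≫ u.hom ≫ f.hom := by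
      rw [← hgv]
      have := congrArg (· ≫ v.hom) h
      simpa only [Category.assoc] using this
    obtain ⟨s, hs1, hs2⟩ : ∃ s : R ⟶ pullback (u ≫ f).hom f.hom, s ≫ pullback.fst (u ≫ f).hom f.hom = p ≫ kU.hom ∧
        s ≫ pullback.snd (u ≫ f).hom f.hom = p' ≫ kU.hom ≫ u.hom := by
      refine ⟨pullback.lift _ _ ?_, pullback.lift_fst _ _ _, pullback.lift_snd _ _ _⟩
      simp only [Category.assoc]
      exact hb
    have h1 : s ≫ τ = p' ≫ kU.hom := by
      apply sqV.hom_ext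
      · rw [Category.assoc, ← hg', reassoc_of% hs1, h, Category.assoc]
      · rw [Category.assoc, hτu, hs2, Category.assoc]
    obtain ⟨m, m', k1, k2, k3⟩ := D.exists_m (p ≫ kU.hom) (p' ≫ kU.hom ≫ u.hom) (p ≫ uZ.hom ≫ fZ.hom)
      (by simp only [Category.assoc]; exact base R p)
      (by simp only [Category.assoc]; rw [← hb]; exact base R p)
    have k4 : m = p := (cancel_mono kU.hom).1 k1
    have k5 := hm R s m m' (by rw [k1, hs1]) k2 (by rw [k3, hs2])
    have k6 : m' = p' := by rw [← cancel_mono kU.hom, ← k5, h1]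
    rw [← k6, k2, k4]
  -- the restriction of `V` to `Z`
  have sqVZ := isPb v i
  obtain ⟨gZ, hgZ1, hgZ2⟩ : ∃ gZ : UZ.obj ⟶ (pb v i).obj, gZ ≫ (pb1 v i).hom = kU.hom ≫ g.hom ∧
      gZ ≫ (pb2 v i).hom = uZ.hom ≫ fZ.hom := by
    refine ⟨sqVZ.lift (kU.hom ≫ g.hom) (uZ.hom ≫ fZ.hom) ?_, sqVZ.lift_fst _ _ _, sqVZ.lift_snd _ _ _⟩
    have := base UZ.obj (𝟙 _)
    rw [Category.id_comp, Category.id_comp] at this
    rw [Category.assoc, hgv, Category.assoc, this]
  have sqgZ : IsPullback gZ uZ.hom (pb2 v i).hom fZ.hom := by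
    refine IsPullback.of_right (h₁₂ := (pb1 v i).hom) (v₁₃ := v.hom) (h₂₂ := i.hom) ?_ hgZ2 sqVZ
    rw [hgZ1, ← D.sqX.w]
    exact D.sqU.paste_horiz sqV
  have hqc := K596.ClosedQC.isUnivClosedMor_of_isPullback D.sqW.flip huc
  have hgc := K596.ClosedQC.isUnivClosedMor_of_isPullback sqgZ.flip huc
  have hqs : Function.Surjective (Points.map q.hom) := by
    intro x
    obtain ⟨y, hy⟩ := hsZ (Points.map w.hom x)
    obtain ⟨z, hz, -⟩ := K610.Base.exists_of_isPullback D.sqW x y hy.symm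
    exact ⟨z, hz⟩
  have hgs : Function.Surjective (Points.map gZ) := by
    intro x
    obtain ⟨y, hy⟩ := hsZ (Points.map (pb2 v i).hom x)
    obtain ⟨z, hz, -⟩ := K610.Base.exists_of_isPullback sqgZ x y hy.symm
    exact ⟨z, hz⟩
  have het : IsEtaleMor (pb2 v i).hom := K610.EtaleMor.isEtaleMor_baseChange V.2 (pb v i).2 D.hZ sqVZ.flip hv
  obtain ⟨m, hm1, hm2⟩ := desc D.hW (pb v i).2 D.hZ het D.hUZ q.hom hqc hqs gZ (t := w.hom)
    (by rw [hgZ2, D.sqW.w]) (fun R p p' h => by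
      apply sqVZ.hom_ext
      · rw [Category.assoc, Category.assoc, hgZ1, key1 R p p' h]
      · rw [Category.assoc, Category.assoc, hgZ2, ← D.sqW.w, reassoc_of% h])
  obtain ⟨m', hm1', hm2'⟩ := desc (pb v i).2 D.hW D.hZ D.etW D.hUZ gZ hgc hgs q.hom (t := (pb2 v i).hom)
    (by rw [hgZ2, D.sqW.w]) (fun R p p' h => by
      apply key2
      have := congrArg (· ≫ (pb1 v i).hom) h
      simp only [Category.assoc, hgZ1] at this
      exact this)
  have hmm' : m ≫ m' = 𝟙 _ := eq_of_cover D.hW D.hZ D.etW _ _ (by rw [Category.assoc, hm1', hm1, Category.id_comp])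
    q.hom hqs (by rw [reassoc_of% hm2, hm2', Category.comp_id])
  have hm'm : m' ≫ m = 𝟙 _ := eq_of_cover (pb v i).2 D.hZ het _ _ (by rw [Category.assoc, hm1, hm1', Category.id_comp])
    gZ hgs (by rw [reassoc_of% hm2', hm2, Category.comp_id])
  refine ⟨V, v, g, ⟨m⟩ ≫ pb1 v i, hv, sqV, ?_, ?_⟩
  · refine IsPullback.of_iso sqVZ ⟨m', m, hm'm, hmm'⟩ (Iso.refl _) (Iso.refl _) (Iso.refl _) ?_ ?_ ?_ ?_
    · change (pb1 v i).hom ≫ 𝟙 _ = m' ≫ m ≫ (pb1 v i).hom
      rw [reassoc_of% hm'm, Category.comp_id]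
    · change (pb2 v i).hom ≫ 𝟙 _ = m' ≫ w.hom
      rw [hm1', Category.comp_id]
    · change v.hom ≫ 𝟙 _ = 𝟙 _ ≫ v.hom
      rw [Category.comp_id, Category.id_comp]
    · change i.hom ≫ 𝟙 _ = 𝟙 _ ≫ i.hom
      rw [Category.comp_id, Category.id_comp]
  · ext1
    change kU.hom ≫ g.hom = q.hom ≫ m ≫ (pb1 v i).hom
    rw [reassoc_of% hm2, hgZ1]

end Eff

end K641.ModGlue
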