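import Groth.Agent.AlgSp.K641.ModGlue2
import Groth.Agent.AlgSp.K616.Sigma
import Groth.Agent.AlgSp.K634.CoprodProper
import Groth.Agent.AlgSp.K630.Kit

/-!
# Glueing etale spaces along a modification

* `isPullback_coprod`: base change of a binary coproduct.
* `exists_coprod`: binary coproducts of algebraic spaces.
* `glue_mod`: the statement of S10718 from the statement of S12201.
-/

set_option autoImplicit false
set_option linter.unusedVariables false
universe u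
open CategoryTheory CategoryTheory.Limits AlgebraicGeometry Opposite

namespace K641.ModGlue

open AlgSp K635.EtTop

variable {S : Scheme.{u}}

theorem van {A B C A' B' C' : Sp S} {inl : A ⟶ C} {inr : B ⟶ C} (hc : IsColimit (BinaryCofan.mk inl inr))
    {inl' : A' ⟶ C'} {inr' : B' ⟶ C'} (a : A' ⟶ A) (b : B' ⟶ B) (F : C' ⟶ C) (ha : a ≫ inl = inl' ≫ F)
    (hb : b ≫ inr = inr' ≫ F) :
    Nonempty (IsColimit (BinaryCofan.mk inl' inr')) ↔ IsPullback inl' a F inl ∧ IsPullback inr' b F inr :=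
  (BinaryCofan.isVanKampen_iff _).1 (FinitaryExtensive.vanKampen _ hc) (BinaryCofan.mk inl' inr') a b F ha hb

/-- Base change of a binary coproduct. -/
theorem isPullback_coprod {A B C D T A' B' C' : Sp S} {inl : A ⟶ C} {inr : B ⟶ C}
    (hc : IsColimit (BinaryCofan.mk inl inr)) {F : C ⟶ D} {t : T ⟶ D} {a : A' ⟶ A} {a' : A' ⟶ T}
    (sqA : IsPullback a a' (inl ≫ F) t) {b : B' ⟶ B} {b' : B' ⟶ T} (sqB : IsPullback b b' (inr ≫ F) t)
    {inl' : A' ⟶ C'} {inr' : B' ⟶ C'} (hc' : IsColimit (BinaryCofan.mk inl' inr')) {k : C' ⟶ C} {k' : C' ⟶ T}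
    (h1 : inl' ≫ k = a ≫ inl) (h2 : inr' ≫ k = b ≫ inr) (h3 : inl' ≫ k' = a') (h4 : inr' ≫ k' = b') :
    IsPullback k k' F t := by
  have hP := IsPullback.of_hasPullback F t
  obtain ⟨α, hα1, hα2⟩ : ∃ α : A' ⟶ pullback F t, α ≫ pullback.fst F t = a ≫ inl ∧ α ≫ pullback.snd F t = a' :=
    ⟨hP.lift (a ≫ inl) a' (by rw [Category.assoc, sqA.w]), hP.lift_fst _ _ _, hP.lift_snd _ _ _⟩
  obtain ⟨β, hβ1, hβ2⟩ : ∃ β : B' ⟶ pullback F t, β ≫ pullback.fst F t = b ≫ inr ∧ β ≫ pullback.snd F t = b' :=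
    ⟨hP.lift (b ≫ inr) b' (by rw [Category.assoc, sqB.w]), hP.lift_fst _ _ _, hP.lift_snd _ _ _⟩
  have hA : IsPullback α a (pullback.fst F t) inl := by
    refine IsPullback.of_right (h₁₂ := pullback.snd F t) (v₁₃ := t) (h₂₂ := F) ?_ hα1 hP.flip
    rw [hα2]
    exact sqA.flip
  have hB : IsPullback β b (pullback.fst F t) inr := by
    refine IsPullback.of_right (h₁₂ := pullback.snd F t) (v₁₃ := t) (h₂₂ := F) ?_ hβ1 hP.flip
    rw [hβ2]
    exact sqB.flip
  obtain ⟨hQ⟩ := (van hc a b (pullback.fst F t) hα1.symm hβ1.symm).2 ⟨hA, hB⟩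
  have hk : k ≫ F = k' ≫ t := by
    apply BinaryCofan.IsColimit.hom_ext hc'
    · change inl' ≫ k ≫ F = inl' ≫ k' ≫ t
      rw [reassoc_of% h1, reassoc_of% h3, sqA.w]
    · change inr' ≫ k ≫ F = inr' ≫ k' ≫ t
      rw [reassoc_of% h2, reassoc_of% h4, sqB.w]
  obtain ⟨e, he1, he2⟩ : ∃ e : C' ⟶ pullback F t, e ≫ pullback.fst F t = k ∧ e ≫ pullback.snd F t = k' :=
    ⟨hP.lift k k' hk, hP.lift_fst _ _ _, hP.lift_snd _ _ _⟩
  have e1 : inl' ≫ e = α := by
    apply hP.hom_ext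
    · rw [Category.assoc, he1, h1, hα1]
    · rw [Category.assoc, he2, h3, hα2]
  have e2 : inr' ≫ e = β := by
    apply hP.hom_ext
    · rw [Category.assoc, he1, h2, hβ1]
    · rw [Category.assoc, he2, h4, hβ2]
  obtain ⟨d, hd1, hd2⟩ := BinaryCofan.IsColimit.desc' hQ inl' inr'
  change α ≫ d = inl' at hd1
  change β ≫ d = inr' at hd2
  have hed : e ≫ d = 𝟙 _ := by
    apply BinaryCofan.IsColimit.hom_ext hc'
    · change inl' ≫ e ≫ d = inl' ≫ 𝟙 _
      rw [reassoc_of% e1, hd1, Category.comp_id]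
    · change inr' ≫ e ≫ d = inr' ≫ 𝟙 _
      rw [reassoc_of% e2, hd2, Category.comp_id]
  have hde : d ≫ e = 𝟙 _ := by
    apply BinaryCofan.IsColimit.hom_ext hQ
    · change α ≫ d ≫ e = α ≫ 𝟙 _
      rw [reassoc_of% hd1, e1, Category.comp_id]
    · change β ≫ d ≫ e = β ≫ 𝟙 _
      rw [reassoc_of% hd2, e2, Category.comp_id]
  refine IsPullback.of_iso hP ⟨d, e, hde, hed⟩ (Iso.refl _) (Iso.refl _) (Iso.refl _) ?_ ?_ ?_ ?_
  · change pullback.fst F t ≫ 𝟙 _ = d ≫ k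
    rw [← he1, reassoc_of% hde, Category.comp_id]
    exact (Category.id_comp _).symm
  · change pullback.snd F t ≫ 𝟙 _ = d ≫ k'
    rw [← he2, reassoc_of% hde, Category.comp_id]
    exact (Category.id_comp _).symm
  · simp
  · simp

/-- Binary coproducts of algebraic spaces. -/
theorem exists_coprod (A B : Space S) : ∃ (C : Space S) (inl : A ⟶ C) (inr : B ⟶ C),
    Nonempty (IsColimit (BinaryCofan.mk inl inr)) ∧ Nonempty (IsColimit (BinaryCofan.mk inl.hom inr.hom)) := by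
  have h0 : HasBinaryCoproducts (Sp S) := inferInstance
  have hc : IsColimit (BinaryCofan.mk (coprod.inl : A.obj ⟶ A.obj ⨿ B.obj) coprod.inr) := coprodIsCoprod _ _
  have halg : IsAlgSpace (A.obj ⨿ B.obj) := K594.Atlas.isAlgSpace_coprod (F := K594.Atlas.pairF A.obj B.obj) (by
    rintro ⟨_ | _⟩
    · exact B.2
    · exact A.2) (K594.Atlas.isColimitCofanOf hc)
  refine ⟨⟨A.obj ⨿ B.obj, halg⟩, ⟨coprod.inl⟩, ⟨coprod.inr⟩, ⟨?_⟩, ⟨hc⟩⟩
  refine BinaryCofan.IsColimit.mk _ (fun {T} f g => ⟨(coprod.desc f.hom g.hom : A.obj ⨿ B.obj ⟶ T.obj)⟩) ?_ ?_ ?_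
  · intro T f g
    ext1
    exact coprod.inl_desc f.hom g.hom
  · intro T f g
    ext1
    exact coprod.inr_desc f.hom g.hom
  · intro T f g m h1 h2
    ext1
    apply coprod.hom_ext
    · exact (congrArg (·.hom) h1).trans (coprod.inl_desc f.hom g.hom).symm
    · exact (congrArg (·.hom) h2).trans (coprod.inr_desc f.hom g.hom).symm

theorem exists_desc {A B C T : Space S} {inl : A ⟶ C} {inr : B ⟶ C} (hc : IsColimit (BinaryCofan.mk inl inr))
    (f : A ⟶ T) (g : B ⟶ T) : ∃ h : C ⟶ T, inl ≫ h = f ∧ inr ≫ h = g := by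
  obtain ⟨h, h1, h2⟩ := BinaryCofan.IsColimit.desc' hc f g
  exact ⟨h, h1, h2⟩

/-- S10718 from S12201. -/
theorem glue_mod (H : Desc S) {Y Y' Z E U U' V' W P : Space S} (f : Y' ⟶ Y)
    (hf : IsProperMor f.hom) (i : Z ⟶ Y) (hi : RepWith @IsClosedImmersion i.hom) (j : E ⟶ Y')
    (g : E ⟶ Z) (hE : IsPullback j.hom g.hom f.hom i.hom) (jU : U ⟶ Y)
    (hjU : RepWith @IsOpenImmersion jU.hom)
    (hU : Set.range (Points.map jU.hom) = (Set.range (Points.map i.hom))ᶜ) (fU : U' ⟶ U)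
    (jU' : U' ⟶ Y') (hU' : IsPullback jU'.hom fU.hom f.hom jU.hom) [IsIso fU] (v' : V' ⟶ Y')
    (hv' : IsEtaleMor v'.hom) (w : W ⟶ Z) (hw : IsEtaleMor w.hom) (pV' : P ⟶ V') (pW : P ⟶ W)
    (pE : P ⟶ E) (hPV' : IsPullback pV'.hom pE.hom v'.hom j.hom) (hPW : IsPullback pW.hom pE.hom w.hom g.hom) :
    ∃ (V : Space S) (v : V ⟶ Y) (a : V' ⟶ V) (b : W ⟶ V), IsEtaleMor v.hom ∧
      IsPullback a.hom v'.hom v.hom f.hom ∧ IsPullback b.hom w.hom v.hom i.hom ∧ pV' ≫ a = pW ≫ b := by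
  have hmi : Mono i.hom := K610.Factor.mono_of_isClosedImmersion hi
  have hfUi : IsIso fU.hom := inferInstance
  -- the coproducts
  obtain ⟨X, xl, xr, ⟨hX⟩, ⟨hXs⟩⟩ := exists_coprod Y' Z
  obtain ⟨XZ, zl, zr, ⟨hXZ⟩, ⟨hXZs⟩⟩ := exists_coprod E Z
  obtain ⟨V₀, ul, ur, ⟨hV₀⟩, ⟨hV₀s⟩⟩ := exists_coprod V' W
  obtain ⟨VZ, pl, pr, ⟨hVZ⟩, ⟨hVZs⟩⟩ := exists_coprod P W
  obtain ⟨F, hF1, hF2⟩ := exists_desc hX f i
  obtain ⟨kX, hkX1, hkX2⟩ := exists_desc hXZ (j ≫ xl) xr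
  obtain ⟨fZ, hfZ1, hfZ2⟩ := exists_desc hXZ g (𝟙 Z)
  obtain ⟨u, hu1, hu2⟩ := exists_desc hV₀ (v' ≫ xl) (w ≫ xr)
  obtain ⟨kU, hkU1, hkU2⟩ := exists_desc hVZ (pV' ≫ ul) ur
  obtain ⟨uZ, huZ1, huZ2⟩ := exists_desc hVZ (pE ≫ zl) (w ≫ zr)
  obtain ⟨q, hq1, hq2⟩ := exists_desc hVZ pW (𝟙 W)
  have F1 : xl.hom ≫ F.hom = f.hom := congrArg (·.hom) hF1
  have F2 : xr.hom ≫ F.hom = i.hom := congrArg (·.hom) hF2
  have kX1 : zl.hom ≫ kX.hom = j.hom ≫ xl.hom := congrArg (·.hom) hkX1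
  have kX2 : zr.hom ≫ kX.hom = xr.hom := congrArg (·.hom) hkX2
  have fZ1 : zl.hom ≫ fZ.hom = g.hom := congrArg (·.hom) hfZ1
  have fZ2 : zr.hom ≫ fZ.hom = 𝟙 _ := congrArg (·.hom) hfZ2
  have u1 : ul.hom ≫ u.hom = v'.hom ≫ xl.hom := congrArg (·.hom) hu1
  have u2 : ur.hom ≫ u.hom = w.hom ≫ xr.hom := congrArg (·.hom) hu2
  have kU1 : pl.hom ≫ kU.hom = pV'.hom ≫ ul.hom := congrArg (·.hom) hkU1
  have kU2 : pr.hom ≫ kU.hom = ur.hom := congrArg (·.hom) hkU2
  have uZ1 : pl.hom ≫ uZ.hom = pE.hom ≫ zl.hom := congrArg (·.hom) huZ1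
  have uZ2 : pr.hom ≫ uZ.hom = w.hom ≫ zr.hom := congrArg (·.hom) huZ2
  have q1 : pl.hom ≫ q.hom = pW.hom := congrArg (·.hom) hq1
  have q2 : pr.hom ≫ q.hom = 𝟙 _ := congrArg (·.hom) hq2
  -- proper
  have hic : IsProperMor i.hom := K597.ProperSub.isProperMor_of_closed Y.2 hi
  have hFp : IsProperMor F.hom := K634.CoprodProper.isProperMor_of_coprod hX F (by rw [hF1]; exact hf)
    (by rw [hF2]; exact hic)
  -- squares
  have sqX : IsPullback kX.hom fZ.hom F.hom i.hom :=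
    isPullback_coprod hXs (a := j.hom) (a' := g.hom) (b := 𝟙 _) (b' := 𝟙 _) (by rw [F1]; exact hE)
      (by rw [F2]; exact IsKernelPair.id_of_mono i.hom) hXZs kX1 (by rw [kX2, Category.id_comp]) fZ1 fZ2
  obtain ⟨hul, hur⟩ := (van hXs v'.hom w.hom u.hom u1.symm u2.symm).1 ⟨hV₀s⟩
  have sqU : IsPullback kU.hom uZ.hom u.hom kX.hom := by
    refine (isPullback_coprod hXZs (a := pE.hom) (a' := pV'.hom ≫ ul.hom) (b := w.hom) (b' := ur.hom) ?_ ?_
      hVZs uZ1 uZ2 kU1 kU2).flip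
    · rw [kX1]
      exact hPV'.flip.paste_vert hul.flip
    · rw [kX2]
      exact hur.flip
  have sqW : IsPullback q.hom uZ.hom w.hom fZ.hom := by
    refine (isPullback_coprod hXZs (a := pE.hom) (a' := pW.hom) (b := w.hom) (b' := 𝟙 _) ?_ ?_
      hVZs uZ1 uZ2 q1 q2).flip
    · rw [fZ1]
      exact hPW.flip
    · rw [fZ2]
      exact IsPullback.of_vert_isIso ⟨by simp⟩
  have hxl := K634.CoprodProper.repWith_inl hX
  have hxr := K634.CoprodProper.repWith_inr hX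
  have hjm : Mono jU.hom := K610.Factor.mono_of_isOpenImmersion hjU
  have D : Dat F.hom i.hom kX.hom fZ.hom jU.hom u.hom kU.hom uZ.hom w.hom q.hom :=
    { hX := X.2
      hY := Y.2
      hZ := Z.2
      hXZ := XZ.2
      hU := V₀.2
      hUZ := VZ.2
      hW := W.2
      sep := hFp.1
      uc := hFp.2.2
      surj := by
        intro y
        by_cases h : y ∈ Set.range (Points.map i.hom)
        · obtain ⟨z, rfl⟩ := h
          exact ⟨Points.map xr.hom z, by rw [← Points.map_comp, F2]⟩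
        · have h' : y ∈ Set.range (Points.map jU.hom) := by rw [hU]; exact h
          obtain ⟨z, rfl⟩ := h'
          refine ⟨Points.map (inv fU.hom ≫ jU'.hom ≫ xl.hom) z, ?_⟩
          rw [← Points.map_comp]
          refine congrArg (fun k => Points.map k z) ?_
          simp only [Category.assoc]
          rw [F1, hU'.w, IsIso.inv_hom_id_assoc]
      hi := hi
      sqX := sqX
      range := hU
      mono := by
        have key : ∀ {T : Sp S} (x₀ : T ⟶ X.obj) (t : T ⟶ U.obj), x₀ ≫ F.hom = t ≫ jU.hom →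
            x₀ = t ≫ inv fU.hom ≫ jU'.hom ≫ xl.hom := by
          intro T x₀ t h
          obtain ⟨y, hy⟩ := exists_lift_of_range hxl.1 x₀ (fun x => by
            rcases K634.CoprodSp.exists_point hXs (Points.map x₀ x) with h1 | h1
            · exact h1
            · exfalso
              obtain ⟨z, hz⟩ := h1
              have e1 : Points.map i.hom z = Points.map jU.hom (Points.map t x) := by
                rw [← F2, Points.map_comp, hz, ← Points.map_comp, h, Points.map_comp]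
              have e2 : Points.map i.hom z ∈ Set.range (Points.map jU.hom) := ⟨_, e1.symm⟩
              rw [hU] at e2
              exact e2 ⟨z, rfl⟩)
          have hy' : y ≫ f.hom = t ≫ jU.hom := by rw [← F1, reassoc_of% hy, h]
          have e3 : hU'.lift y t hy' ≫ jU'.hom = y := hU'.lift_fst _ _ _
          have e4 : hU'.lift y t hy' ≫ fU.hom = t := hU'.lift_snd _ _ _
          obtain ⟨l, hl⟩ : ∃ l, l = hU'.lift y t hy' := ⟨_, rfl⟩
          rw [← hl] at e3 e4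
          rw [← hy, ← e3, ← e4]
          simp
        intro T x₀ x₁ t h0 h1
        rw [key x₀ t h0, key x₁ t h1]
      et := by
        refine (K630.isEtaleMor_iff X.2).2 (K634.CoprodProper.locP_of_coprod hV₀ u ?_ ?_)
        · rw [hu1]
          refine (K630.isEtaleMor_iff X.2).1 ?_
          intro T φ hφ
          change RepWith @Etale (φ ≫ v'.hom ≫ xl.hom)
          rw [← Category.assoc]
          exact K610.EtaleMor.comp_etale (hv' φ hφ) (K610.OpenImm.repWith_etale_of_open hxl.1)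
        · rw [hu2]
          refine (K630.isEtaleMor_iff X.2).1 ?_
          intro T φ hφ
          change RepWith @Etale (φ ≫ w.hom ≫ xr.hom)
          rw [← Category.assoc]
          exact K610.EtaleMor.comp_etale (hw φ hφ) (K610.OpenImm.repWith_etale_of_open hxr.1)
      etW := hw
      sqU := sqU
      sqW := sqW }
  obtain ⟨V, v, a, b, hv, sqa, sqb, hab⟩ := effPlus H D hFp
  refine ⟨V, v, ul ≫ a, b, hv, ?_, sqb, ?_⟩
  · change IsPullback (ul.hom ≫ a.hom) v'.hom v.hom f.hom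
    rw [← F1]
    exact hul.paste_horiz sqa
  · have h1 : pl ≫ kU ≫ a = pl ≫ q ≫ b := congrArg (pl ≫ ·) hab
    rw [← Category.assoc, hkU1, Category.assoc, ← Category.assoc pl, hq1] at h1
    exact h1

end K641.ModGlue
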